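import Mathlib

/-!
Algebraic tools: groups generated by two square-zero unipotents, and separable elements.
-/

set_option autoImplicit false
set_option linter.unusedSectionVars false

namespace Cfsg.Agent.Lib.SpOTensor

open Module Polynomial

/-- An element with `g + g⁻¹` fixed by Frobenius and `g - g⁻¹` invertible is fixed by the square. -/
theorem pow_sq_eq_self {R : Type*} [Ring R] {p : ℕ} [Fact p.Prime] [CharP R p] {n : ℕ} {g h d' : R}
    (hgh : g * h = 1) (hhg : h * g = 1) (hd : (g - h) * d' = 1) (hd' : d' * (g - h) = 1)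
    (hu : (g + h) ^ p ^ n = g + h) : g ^ (p ^ n * p ^ n) = g := by
  have hc : Commute g h := show g * h = h * g by rw [hgh, hhg]
  obtain ⟨N, hN⟩ : ∃ N, N = p ^ n := ⟨_, rfl⟩
  rw [← hN] at hu ⊢
  obtain ⟨a, ha⟩ : ∃ a, a = g ^ N := ⟨_, rfl⟩
  obtain ⟨a', ha'⟩ : ∃ a', a' = h ^ N := ⟨_, rfl⟩
  have haa' : a * a' = 1 := by rw [ha, ha', ← hc.mul_pow, hgh, one_pow]
  have hsum : a + a' = g + h := by rw [ha, ha', ← hu, hN, add_pow_char_pow_of_commute p n hc]
  have hcd : Commute g d' := by
    have h1 : Commute g (g - h) := (Commute.refl g).sub_right hc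
    calc g * d' = d' * (g - h) * g * d' := by rw [hd', one_mul]
      _ = d' * g * ((g - h) * d') := by rw [mul_assoc d', ← h1.eq]; noncomm_ring
      _ = d' * g := by rw [hd, mul_one]
  have hch : Commute h d' := by
    have h1 : Commute h (g - h) := hc.symm.sub_right (Commute.refl h)
    calc h * d' = d' * (g - h) * h * d' := by rw [hd', one_mul]
      _ = d' * h * ((g - h) * d') := by rw [mul_assoc d', ← h1.eq]; noncomm_ring
      _ = d' * h := by rw [hd, mul_one]
  have hcag : Commute a g := by rw [ha]; exact (Commute.refl g).pow_left N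
  have hcah : Commute a h := by rw [ha]; exact hc.pow_left N
  have hcad : Commute a d' := by rw [ha]; exact hcd.pow_left N
  have hroot : (a - g) * (a - h) = 0 := by
    have h1 : a * (g + h) = a * a + 1 := by rw [← hsum, mul_add, haa']
    calc (a - g) * (a - h) = a * a - a * h - g * a + g * h := by noncomm_ring
      _ = a * a - a * h - a * g + 1 := by rw [hgh, ← hcag.eq]
      _ = a * a + 1 - a * (g + h) := by noncomm_ring
      _ = 0 := by rw [h1, sub_self]
  obtain ⟨e, he⟩ : ∃ e, e = (a - h) * d' := ⟨_, rfl⟩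
  have hea : e * (a - g) = 0 := by
    have hcag' : Commute d' (a - g) := hcad.symm.sub_right hcd.symm
    have h1 : (a - h) * (a - g) = 0 := by
      rw [← hroot]
      exact ((((Commute.refl a).sub_left hcah.symm)).sub_right ((hcag.sub_left hc.symm))).eq
    rw [he, mul_assoc, hcag'.eq, ← mul_assoc, h1, zero_mul]
  have h1e : (1 - e) = (g - a) * d' := by
    rw [he, ← hd]; noncomm_ring
  have hidem : e * e = e := by
    have : e * (1 - e) = 0 := by
      rw [h1e, ← mul_assoc, show e * (g - a) = -(e * (a - g)) by noncomm_ring, hea, neg_zero, zero_mul]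
    rw [mul_sub, mul_one, sub_eq_zero] at this
    exact this.symm
  have hae : a = h + e * (g - h) := by
    rw [he, mul_assoc, hd', mul_one, add_sub_cancel]
  have hce_g : Commute e g := by rw [he]; exact ((hcag.sub_left hc.symm).mul_left hcd.symm)
  have hce_h : Commute e h := by rw [he]; exact ((hcah.sub_left (Commute.refl h)).mul_left hch.symm)
  have hepow : ∀ k, 1 ≤ k → e ^ k = e := by
    intro k hk
    induction k, hk using Nat.le_induction with
    | base => rw [pow_one]
    | succ k _ ih => rw [pow_succ, ih, hidem]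
  have hN1 : 1 ≤ N := by rw [hN]; exact Nat.one_le_pow _ _ (Fact.out (p := p.Prime)).pos
  have hfrob : a ^ N = a' + e * (a - a') := by
    have hc1 : Commute h (e * (g - h)) := hce_h.symm.mul_right (hc.symm.sub_right (Commute.refl h))
    conv_lhs => rw [hae]
    rw [hN, add_pow_char_pow_of_commute p n hc1, ← hN, (hce_g.sub_right hce_h).mul_pow, hepow N hN1,
      hN, sub_pow_char_pow_of_commute p n hc, ← hN, ← ha, ← ha']
  have hea' : e * a' = e * h := by
    have h1 : a' = g + h - a := by rw [← hsum]; noncomm_ring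
    rw [h1, show e * (g + h - a) = e * h - e * (a - g) by noncomm_ring, hea, sub_zero]
  have h1ea : (1 - e) * a = (1 - e) * h := by
    rw [hae]
    have : (1 - e) * (h + e * (g - h)) = (1 - e) * h + (e - e * e) * (g - h) := by noncomm_ring
    rw [this, hidem, sub_self, zero_mul, add_zero]
  rw [pow_mul, ← ha, hfrob]
  have h1 : a' = g + h - a := by rw [← hsum]; noncomm_ring
  calc a' + e * (a - a') = (g + h - a) + (e * a - e * (g + h - a)) := by rw [h1]; noncomm_ring
    _ = (1 - e) * g + ((1 - e) * h - (1 - e) * a) + e * a := by noncomm_ring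
    _ = (1 - e) * g + e * (g + (a - g)) := by rw [h1ea, sub_self, add_zero, add_sub_cancel]
    _ = g := by rw [mul_add, hea, add_zero, ← add_mul, sub_add_cancel, one_mul]

variable {F V : Type*} [Field F] [AddCommGroup V] [Module F V]

/-- The filtration by products of two maps. -/
def flag (N N' : Module.End F V) : ℕ → Submodule F V
  | 0 => ⊤
  | j + 1 => (flag N N' j).map N ⊔ (flag N N' j).map N'

theorem flag_succ_le (N N' : Module.End F V) : ∀ j, flag N N' (j + 1) ≤ flag N N' j
  | 0 => le_top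
  | j + 1 => sup_le_sup (Submodule.map_mono (flag_succ_le N N' j)) (Submodule.map_mono (flag_succ_le N N' j))

/-- Two square-zero maps with nilpotent anticommutator generate unipotent maps. -/
theorem exists_flag_eq_bot {N N' : Module.End F V} (hN : N * N = 0) (hN' : N' * N' = 0)
    (hΔ : IsNilpotent (N * N' + N' * N)) : ∃ J, flag N N' J = ⊥ := by
  obtain ⟨Δ, hΔd⟩ : ∃ Δ, Δ = N * N' + N' * N := ⟨_, rfl⟩
  rw [← hΔd] at hΔ
  obtain ⟨s, hs⟩ := hΔ
  have hNΔ : Commute Δ N := by
    show Δ * N = N * Δ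
    rw [hΔd, add_mul, mul_add, mul_assoc N' N N, hN, mul_zero, add_zero, ← mul_assoc N N N', hN, zero_mul,
      zero_add, mul_assoc]
  have hN'Δ : Commute Δ N' := by
    show Δ * N' = N' * Δ
    rw [hΔd, add_mul, mul_add, mul_assoc N N' N', hN', mul_zero, zero_add, ← mul_assoc N' N' N, hN',
      zero_mul, add_zero, mul_assoc]
  refine ⟨2 * s + 2, eq_bot_iff.2 ?_⟩
  have h : ∀ k, flag N N' (2 * k + 2) ≤
      LinearMap.range (Δ ^ k * (N * N')) ⊔ LinearMap.range (Δ ^ k * (N' * N)) := by
    intro k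
    induction k with
    | zero =>
      simp only [mul_zero, zero_add, pow_zero, one_mul, flag]
      refine sup_le ?_ ?_ <;> rintro _ ⟨y, hy, rfl⟩ <;>
        obtain ⟨_, ⟨u, -, rfl⟩, _, ⟨v, -, rfl⟩, rfl⟩ := Submodule.mem_sup.1 hy <;> rw [map_add]
      · exact Submodule.mem_sup_left ⟨v, by
          rw [show N (N u) = 0 from LinearMap.congr_fun hN u, zero_add]; rfl⟩
      · exact Submodule.mem_sup_right ⟨u, by
          rw [show N' (N' v) = 0 from LinearMap.congr_fun hN' v, add_zero]; rfl⟩
    | succ k ih =>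
      rw [show 2 * (k + 1) + 2 = (2 * k + 2) + 1 + 1 by ring]
      have e1 : N * N' * (Δ ^ k * (N * N')) = Δ ^ (k + 1) * (N * N') := by
        rw [← mul_assoc, ← ((hNΔ.pow_left k).mul_right (hN'Δ.pow_left k)).eq, mul_assoc, pow_succ, mul_assoc (Δ ^ k) Δ]
        congr 1
        rw [hΔd, add_mul, show N' * N * (N * N') = N' * (N * N) * N' by noncomm_ring, hN, mul_zero, zero_mul,
          add_zero]
      have e2 : N * N' * (Δ ^ k * (N' * N)) = 0 := by
        rw [← mul_assoc, ← ((hNΔ.pow_left k).mul_right (hN'Δ.pow_left k)).eq, mul_assoc,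
          show N * N' * (N' * N) = N * (N' * N') * N by noncomm_ring, hN', mul_zero, zero_mul, mul_zero]
      have e3 : N' * N * (Δ ^ k * (N * N')) = 0 := by
        rw [← mul_assoc, ← ((hN'Δ.pow_left k).mul_right (hNΔ.pow_left k)).eq, mul_assoc,
          show N' * N * (N * N') = N' * (N * N) * N' by noncomm_ring, hN, mul_zero, zero_mul, mul_zero]
      have e4 : N' * N * (Δ ^ k * (N' * N)) = Δ ^ (k + 1) * (N' * N) := by
        rw [← mul_assoc, ← ((hN'Δ.pow_left k).mul_right (hNΔ.pow_left k)).eq, mul_assoc, pow_succ, mul_assoc (Δ ^ k) Δ]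
        congr 1
        rw [hΔd, add_mul, show N * N' * (N' * N) = N * (N' * N') * N by noncomm_ring, hN', mul_zero, zero_mul,
          zero_add]
      refine sup_le ?_ ?_
      · rintro _ ⟨y, hy, rfl⟩
        obtain ⟨_, ⟨u, -, rfl⟩, _, ⟨v, hv, rfl⟩, rfl⟩ := Submodule.mem_sup.1 hy
        rw [map_add, show N (N u) = 0 from LinearMap.congr_fun hN u, zero_add]
        obtain ⟨_, ⟨a, rfl⟩, _, ⟨b, rfl⟩, rfl⟩ := Submodule.mem_sup.1 (ih hv)
        rw [map_add, map_add]
        refine Submodule.mem_sup_left ⟨a, ?_⟩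
        show _ = (N * N' * (Δ ^ k * (N * N'))) a + (N * N' * (Δ ^ k * (N' * N))) b
        rw [e1, e2, LinearMap.zero_apply, add_zero]
      · rintro _ ⟨y, hy, rfl⟩
        obtain ⟨_, ⟨u, hu, rfl⟩, _, ⟨v, -, rfl⟩, rfl⟩ := Submodule.mem_sup.1 hy
        rw [map_add, show N' (N' v) = 0 from LinearMap.congr_fun hN' v, add_zero]
        obtain ⟨_, ⟨a, rfl⟩, _, ⟨b, rfl⟩, rfl⟩ := Submodule.mem_sup.1 (ih hu)
        rw [map_add, map_add]
        refine Submodule.mem_sup_right ⟨b, ?_⟩
        show _ = (N' * N * (Δ ^ k * (N * N'))) a + (N' * N * (Δ ^ k * (N' * N))) b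
        rw [e3, e4, LinearMap.zero_apply, zero_add]
  refine (h s).trans ?_
  simp [hs]

/-- Linear equivalences acting trivially on the layers of the filtration. -/
def flagFix [Finite (V ≃ₗ[F] V)] (N N' : Module.End F V) : Subgroup (V ≃ₗ[F] V) :=
  subgroupOfIdempotent (S := {g | ∀ j, ∀ x ∈ flag N N' j, g x - x ∈ flag N N' (j + 1)})
    ⟨1, fun j x _ => by simp⟩ (by
      refine le_antisymm ?_ ?_
      · rintro _ ⟨g, hg, h, hh, rfl⟩ j x hx
        have h1 := hh j x hx
        have h3 := flag_succ_le N N' (j + 1) (hg (j + 1) _ h1)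
        have e : (g * h) x - x = (g (h x - x) - (h x - x)) + (g x - x) + (h x - x) := by
          rw [LinearEquiv.mul_apply, map_sub]; abel
        rw [e]
        exact add_mem (add_mem h3 (hg j x hx)) h1
      · exact fun g hg => ⟨g, hg, 1, fun j x _ => by simp, mul_one g⟩)

theorem mem_flagFix [Finite (V ≃ₗ[F] V)] {N N' : Module.End F V} {g : V ≃ₗ[F] V} :
    g ∈ flagFix N N' ↔ ∀ j, ∀ x ∈ flag N N' j, g x - x ∈ flag N N' (j + 1) := Iff.rfl

/-- The filtration fixer is a `p`-group when it is finite. -/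
theorem isPGroup_flagFix [Finite (V ≃ₗ[F] V)] {N N' : Module.End F V} {J : ℕ} (hJ : flag N N' J = ⊥)
    {p : ℕ} [Fact p.Prime] [CharP F p] : IsPGroup p (flagFix N N') := by
  rintro ⟨g, hg⟩
  refine ⟨J, Subtype.ext ?_⟩
  rw [SubmonoidClass.coe_pow, OneMemClass.coe_one]
  rw [mem_flagFix] at hg
  have hnil : ((g : V →ₗ[F] V) - 1) ^ J = 0 := by
    have : ∀ k x, (((g : V →ₗ[F] V) - 1) ^ k) x ∈ flag N N' k := by
      intro k
      induction k with
      | zero => exact fun x => Submodule.mem_top
      | succ k ih =>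
        intro x
        rw [pow_succ', Module.End.mul_apply]
        exact hg k _ (ih x)
    refine LinearMap.ext fun x => ?_
    have := this J x
    rw [hJ] at this
    simpa using this
  rcases subsingleton_or_nontrivial V with hV | hV
  · exact LinearEquiv.ext fun x => Subsingleton.elim _ _
  haveI : CharP (Module.End F V) p := charP_of_injective_algebraMap (algebraMap F (Module.End F V)).injective p
  have hle : J ≤ p ^ J := (Nat.lt_pow_self (Fact.out (p := p.Prime)).one_lt).le
  have h1 : ((g : V →ₗ[F] V)) ^ p ^ J = 1 := by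
    have h := sub_pow_char_pow_of_commute (R := Module.End F V) p J (Commute.one_right (g : Module.End F V))
    rw [one_pow, pow_eq_zero_of_le hle hnil, eq_comm, sub_eq_zero] at h
    exact h
  refine LinearEquiv.ext fun x => ?_
  have := LinearMap.congr_fun h1 x
  rw [show ((g : V →ₗ[F] V) ^ p ^ J : Module.End F V) = ((g ^ p ^ J : V ≃ₗ[F] V) : V →ₗ[F] V) from
    (map_pow (LinearEquiv.automorphismGroup.toLinearMapMonoidHom) g (p ^ J)).symm] at this
  simpa using this

/-- An irreducible polynomial divides `X ^ (q ^ d) - X`. -/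
theorem dvd_X_pow_card_sub_X [Finite F] {π : F[X]} (hπ : Irreducible π) :
    π ∣ X ^ (Nat.card F ^ π.natDegree) - X := by
  haveI := Fact.mk hπ
  have pb := AdjoinRoot.powerBasis hπ.ne_zero
  haveI : FiniteDimensional F (AdjoinRoot π) := pb.finite
  haveI : Finite (AdjoinRoot π) := Module.finite_of_finite F
  haveI := Fintype.ofFinite (AdjoinRoot π)
  have hcard : Fintype.card (AdjoinRoot π) = Nat.card F ^ π.natDegree := by
    rw [← Nat.card_eq_fintype_card, Module.natCard_eq_pow_finrank (K := F),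
      (AdjoinRoot.powerBasis hπ.ne_zero).finrank, AdjoinRoot.powerBasis_dim]
  refine AdjoinRoot.mk_eq_zero.1 ?_
  rw [map_sub, map_pow, AdjoinRoot.mk_X, ← hcard, FiniteField.pow_card, sub_self]

/-- A polynomial all of whose irreducible factors divide `R` divides a power of `R`. -/
theorem dvd_pow_of_factors {R μ : F[X]} (h : ∀ π, Irreducible π → π ∣ μ → π ∣ R) (hμ : μ ≠ 0) :
    ∃ n : ℕ, μ ∣ R ^ n := by
  induction μ using UniqueFactorizationMonoid.induction_on_prime with
  | h₁ => exact absurd rfl hμ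
  | h₂ x hx => exact ⟨0, by rw [pow_zero]; exact hx.dvd⟩
  | h₃ a p ha hp ih =>
    obtain ⟨n, hn⟩ := ih (fun π hπ hdvd => h π hπ (hdvd.mul_left p)) ha
    exact ⟨n + 1, by rw [pow_succ']; exact mul_dvd_mul (h p hp.irreducible (dvd_mul_right p a)) hn⟩

end Cfsg.Agent.Lib.SpOTensor
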