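import Mathlib
import Cfsg.Agent.Lib.FormMax.OrthBasic
import Cfsg.Agent.Lib.Classical.AlternatingRank

/-!
The tensor product of a symplectic plane with an orthogonal space, written on `U × U`.
-/

set_option autoImplicit false
set_option linter.unusedSectionVars false

namespace Cfsg.Agent.Lib.SpOTensor

open Module

variable {F U : Type*} [Field F] [AddCommGroup U] [Module F U]

/-- The alternating form on `U × U`. -/
def om (β : LinearMap.BilinForm F U) (z w : U × U) : F := β z.1 w.2 - β z.2 w.1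

/-- Scalar two-by-two matrices tensor maps of `U`. -/
def IsKr (g : (U × U) ≃ₗ[F] (U × U)) : Prop :=
  ∃ (a b c d : F) (A : U ≃ₗ[F] U),
    ∀ z, g z = (a • A z.1 + b • A z.2, c • A z.1 + d • A z.2)

/-- A group of isometries of `om` containing all tensor isometries. -/
structure Setup (β : LinearMap.BilinForm F U) (M : Subgroup ((U × U) ≃ₗ[F] (U × U))) : Prop where
  symm : ∀ x y, β x y = β y x
  nondeg : ∀ x, (∀ y, β x y = 0) → x = 0
  two : (2 : F) ≠ 0
  iso : ∀ g ∈ M, ∀ z w, om β (g z) (g w) = om β z w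
  kr : ∀ g, (∀ z w, om β (g z) (g w) = om β z w) → IsKr g → g ∈ M
  three : 3 ≤ finrank F U
  four : ¬ 4 ∣ finrank F U ∨ finrank F U = 4

/-- No totally isotropic subspace of even dimension is a maximal one of half the dimension. -/
def Rig (β : LinearMap.BilinForm F U) : Prop :=
  ∀ W : Submodule F U, (∀ x ∈ W, ∀ y ∈ W, β x y = 0) → Even (finrank F W) → 2 * finrank F W ≠ finrank F U

theorem rig_of_not_dvd (β : LinearMap.BilinForm F U) (h : ¬ 4 ∣ finrank F U) : Rig β := fun W _ ⟨r, hr⟩ e => h ⟨r, by omega⟩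

/-- `(p, q) ↦ (p + S q, q)`. -/
def rad (S : U →ₗ[F] U) : (U × U) ≃ₗ[F] (U × U) where
  toFun z := (z.1 + S z.2, z.2)
  map_add' z w := by simp only [Prod.fst_add, Prod.snd_add, map_add, Prod.mk_add_mk]; congr 1; abel
  map_smul' c z := by simp [smul_add]
  invFun z := (z.1 - S z.2, z.2)
  left_inv z := by simp
  right_inv z := by simp

@[simp] theorem rad_apply (S : U →ₗ[F] U) (z : U × U) : rad S z = (z.1 + S z.2, z.2) := rfl

theorem rad_mul (S T : U →ₗ[F] U) : rad S * rad T = rad (S + T) := by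
  ext z <;> simp [LinearEquiv.mul_apply, add_comm, add_left_comm]

theorem rad_zero : rad (0 : U →ₗ[F] U) = 1 := by
  ext z <;> simp

theorem rad_inv (S : U →ₗ[F] U) : (rad S)⁻¹ = rad (-S) :=
  inv_eq_of_mul_eq_one_right (by rw [rad_mul, add_neg_cancel, rad_zero])

/-- The transvection of the symplectic plane. -/
def rl (l : F) : (U × U) ≃ₗ[F] (U × U) := rad (l • LinearMap.id)

@[simp] theorem rl_apply (l : F) (z : U × U) : rl l z = (z.1 + l • z.2, z.2) := rfl

theorem rl_mul (l m : F) : (rl l : (U × U) ≃ₗ[F] (U × U)) * rl m = rl (l + m) := by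
  rw [rl, rl, rad_mul, rl, add_smul]

theorem rl_zero : (rl 0 : (U × U) ≃ₗ[F] (U × U)) = 1 := by rw [rl, zero_smul, rad_zero]

theorem rl_pow (l : F) : ∀ k : ℕ, (rl l : (U × U) ≃ₗ[F] (U × U)) ^ k = rl ((k : F) * l)
  | 0 => by rw [pow_zero, Nat.cast_zero, zero_mul, rl_zero]
  | k + 1 => by rw [pow_succ, rl_pow l k, rl_mul, Nat.cast_succ, add_mul, one_mul]

theorem rl_injective [Nontrivial U] : Function.Injective (rl : F → (U × U) ≃ₗ[F] (U × U)) := by
  intro l m h
  obtain ⟨u, hu⟩ := exists_ne (0 : U)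
  have h1 := congrArg (fun g : (U × U) ≃ₗ[F] (U × U) => (g (0, u)).1) h
  simp only [rl_apply, zero_add] at h1
  exact smul_left_injective F hu h1

/-- The transvection group of the symplectic plane. -/
def X0 : Subgroup ((U × U) ≃ₗ[F] (U × U)) where
  carrier := {g | ∃ l : F, g = rl l}
  one_mem' := ⟨0, rl_zero.symm⟩
  mul_mem' := by rintro _ _ ⟨l, rfl⟩ ⟨m, rfl⟩; exact ⟨l + m, rl_mul l m⟩
  inv_mem' := by
    rintro _ ⟨l, rfl⟩
    exact ⟨-l, by rw [rl, rad_inv, rl, neg_smul]⟩

theorem rl_mem_X0 (l : F) : (rl l : (U × U) ≃ₗ[F] (U × U)) ∈ X0 := ⟨l, rfl⟩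

/-- A map of `U` on both coordinates. -/
def dia (A : U ≃ₗ[F] U) : (U × U) ≃ₗ[F] (U × U) := A.prodCongr A

@[simp] theorem dia_apply (A : U ≃ₗ[F] U) (z : U × U) : dia A z = (A z.1, A z.2) := rfl

/-- The stabiliser condition for `U × 0`. -/
def Stab (g : (U × U) ≃ₗ[F] (U × U)) : Prop := ∀ p : U, (g (p, 0)).2 = 0

/-- Only scalars in the radical. -/
def NoRad (M : Subgroup ((U × U) ≃ₗ[F] (U × U))) : Prop :=
  ∀ S : U →ₗ[F] U, rad S ∈ M → ∃ e : F, ∀ x, S x = e • x

namespace Setup

variable {β : LinearMap.BilinForm F U} {M : Subgroup ((U × U) ≃ₗ[F] (U × U))} (S : Setup β M)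
include S

theorem finiteDimensional : FiniteDimensional F U :=
  Module.finite_of_finrank_pos (by have := S.three; omega)

theorem nontrivial : Nontrivial U :=
  Module.nontrivial_of_finrank_pos (R := F) (by have := S.three; omega)

theorem rl_mem (l : F) : rl l ∈ M := by
  refine S.kr _ (fun z w => ?_) ⟨1, l, 0, 1, LinearEquiv.refl F U, fun z => by simp⟩
  simp only [om, rl_apply, map_add, map_smul, LinearMap.add_apply, LinearMap.smul_apply, smul_eq_mul]
  rw [S.symm z.2 w.2]
  ring

theorem X0_le : X0 ≤ M := by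
  rintro _ ⟨l, rfl⟩
  exact S.rl_mem l

theorem dia_mem {A : U ≃ₗ[F] U} (hA : ∀ x y, β (A x) (A y) = β x y) : dia A ∈ M :=
  S.kr _ (fun z w => by simp [om, hA]) ⟨1, 0, 0, 1, A, fun z => by simp⟩

/-- The orthogonal of a subspace. -/
theorem finrank_add_orth (W : Submodule F U) :
    finrank F W + finrank F (β.orthogonal W) = finrank F U := by
  haveI := S.finiteDimensional
  have hr : β.IsRefl := fun x y h => by rw [S.symm]; exact h
  have hb : β.Nondegenerate := ⟨S.nondeg, fun x h => S.nondeg x fun y => by rw [S.symm]; exact h y⟩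
  rw [LinearMap.BilinForm.finrank_orthogonal hb]
  have := W.finrank_le
  omega

theorem mem_orth {W : Submodule F U} {x : U} : x ∈ β.orthogonal W ↔ ∀ w ∈ W, β w x = 0 := Iff.rfl

/-- The reflection in an anisotropic vector. -/
noncomputable def refl (_S : Setup β M) {v : U} (_hv : β v v ≠ 0) : U →ₗ[F] U :=
  LinearMap.id - (2 / β v v) • (β v).smulRight v

theorem refl_apply {v : U} (hv : β v v ≠ 0) (x : U) : S.refl hv x = x - (2 * β v x / β v v) • v := by
  simp [refl, smul_smul, div_mul_eq_mul_div]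

theorem refl_refl {v : U} (hv : β v v ≠ 0) (x : U) : S.refl hv (S.refl hv x) = x := by
  rw [S.refl_apply, S.refl_apply, map_sub, map_smul, smul_eq_mul]
  match_scalars
  · ring
  · field_simp
    ring

theorem refl_iso {v : U} (hv : β v v ≠ 0) (x y : U) :
    β (S.refl hv x) (S.refl hv y) = β x y := by
  simp only [S.refl_apply, map_sub, map_smul, LinearMap.sub_apply, LinearMap.smul_apply, smul_eq_mul,
    S.symm x v]
  field_simp
  ring

/-- The reflection as an equivalence. -/
noncomputable def reflE {v : U} (hv : β v v ≠ 0) : U ≃ₗ[F] U :=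
  LinearEquiv.ofLinear (S.refl hv) (S.refl hv) (LinearMap.ext (S.refl_refl hv))
    (LinearMap.ext (S.refl_refl hv))

theorem reflE_apply {v : U} (hv : β v v ≠ 0) (x : U) : S.reflE hv x = x - (2 * β v x / β v v) • v :=
  S.refl_apply hv x

theorem reflE_iso {v : U} (hv : β v v ≠ 0) (x y : U) : β (S.reflE hv x) (S.reflE hv y) = β x y :=
  S.refl_iso hv x y

/-- Siegel transformations. -/
noncomputable def siegL (_S : Setup β M) (c v : U) : U →ₗ[F] U :=
  LinearMap.id + (β v).smulRight c - (β c).smulRight (v + (β v v / 2) • c)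

theorem siegL_apply (c v x : U) :
    S.siegL c v x = x + β v x • c - β c x • v - (β v v / 2 * β c x) • c := by
  simp only [siegL, LinearMap.sub_apply, LinearMap.add_apply, LinearMap.id_apply, LinearMap.smulRight_apply]
  module

theorem siegL_siegL {c v : U} (hc : β c c = 0) (hcv : β c v = 0) (x : U) :
    S.siegL c (-v) (S.siegL c v x) = x := by
  have h2 := S.two
  simp only [S.siegL_apply, map_add, map_sub, map_neg, map_smul, smul_eq_mul, LinearMap.neg_apply,
    hc, hcv, S.symm v c, neg_neg]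
  match_scalars <;> field_simp <;> ring

theorem siegL_iso {c v : U} (hc : β c c = 0) (hcv : β c v = 0) (x y : U) :
    β (S.siegL c v x) (S.siegL c v y) = β x y := by
  have h2 := S.two
  simp only [S.siegL_apply, map_add, map_sub, map_smul, LinearMap.add_apply, LinearMap.sub_apply,
    LinearMap.smul_apply, smul_eq_mul, hc, hcv, S.symm v c, S.symm x c, S.symm x v]
  field_simp
  ring

/-- The Siegel transformation as an equivalence. -/
noncomputable def sieg {c v : U} (hc : β c c = 0) (hcv : β c v = 0) : U ≃ₗ[F] U :=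
  LinearEquiv.ofLinear (S.siegL c v) (S.siegL c (-v))
    (LinearMap.ext fun x => by
      simpa using S.siegL_siegL (v := -v) hc (by simp [hcv]) x)
    (LinearMap.ext fun x => S.siegL_siegL hc hcv x)

theorem sieg_apply {c v : U} (hc : β c c = 0) (hcv : β c v = 0) (x : U) :
    S.sieg hc hcv x = x + β v x • c - β c x • v - (β v v / 2 * β c x) • c :=
  S.siegL_apply c v x

theorem sieg_iso {c v : U} (hc : β c c = 0) (hcv : β c v = 0) (x y : U) :
    β (S.sieg hc hcv x) (S.sieg hc hcv y) = β x y :=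
  S.siegL_iso hc hcv x y

/-- An isotropic vector in a subspace of dimension three. -/
theorem exists_isotropic [Finite F] (W : Submodule F U) (hW : 3 ≤ finrank F W) :
    ∃ c ∈ W, c ≠ 0 ∧ β c c = 0 := by
  haveI := S.finiteDimensional
  let e : (Fin (finrank F W) → F) →ₗ[F] U :=
    W.subtype.comp (Module.finBasis F W).equivFun.symm.toLinearMap
  let P : QuadraticForm F (Fin (finrank F W) → F) :=
    (LinearMap.BilinMap.toQuadraticMap β).comp e
  obtain ⟨x, hx0, hx⟩ := FormMax.OrthSL.exists_zero_fin S.two hW P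
  refine ⟨e x, ((Module.finBasis F W).equivFun.symm x).2, fun h => hx0 ?_, by simpa [P] using hx⟩
  have h' : ((Module.finBasis F W).equivFun.symm x : U) = ((0 : W) : U) := by simpa [e] using h
  have := Subtype.val_injective h'
  exact (LinearEquiv.map_eq_zero_iff _).mp this

/-- A square-zero skew map has even rank. -/
theorem even_rank_skew {n : U →ₗ[F] U} (hn : ∀ x y, β (n x) y + β x (n y) = 0) :
    Even (finrank F (LinearMap.range n)) := by
  haveI := S.finiteDimensional
  have hinj : Function.Injective (β : U →ₗ[F] U →ₗ[F] F) := (injective_iff_map_eq_zero _).2 fun x hx =>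
    S.nondeg x fun y => by rw [hx]; rfl
  have h := AlternatingRank.even_finrank_range_of_alt _ rfl ((β : U →ₗ[F] U →ₗ[F] F) ∘ₗ n) fun v => by
    have h1 := hn v v
    rw [S.symm v (n v), ← two_mul] at h1
    exact (mul_eq_zero.mp h1).resolve_left S.two
  rw [LinearMap.range_comp] at h
  rwa [((LinearMap.range n).equivMapOfInjective β hinj).finrank_eq]

end Setup

end Cfsg.Agent.Lib.SpOTensor
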