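import Cfsg.Agent.Lib.SpOTensor.Basic

/-!
Without radical elements, the stabiliser of `U × 0` is inside the tensor group, and its `p`-elements
centralise the transvection group.
-/

set_option autoImplicit false
set_option linter.unusedSectionVars false

namespace Cfsg.Agent.Lib.SpOTensor

open Module

variable {F U : Type*} [Field F] [AddCommGroup U] [Module F U]
  {β : LinearMap.BilinForm F U} {M : Subgroup ((U × U) ≃ₗ[F] (U × U))}

namespace Setup

variable (S : Setup β M)
include S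

/-- Elements of `M` stabilising `U × 0`. -/
theorem stab_form (hno : NoRad M) {g : (U × U) ≃ₗ[F] (U × U)} (hg : g ∈ M) (hs : Stab g) :
    ∃ (c e : F) (A : U ≃ₗ[F] U), c ≠ 0 ∧ (∀ z, g z = (c • A z.1 + e • A z.2, A z.2)) ∧
      ∀ x y, c * β (A x) (A y) = β x y := by
  haveI := S.finiteDimensional
  haveI := S.nontrivial
  let α : U →ₗ[F] U := (LinearMap.fst F U U) ∘ₗ (g : U × U →ₗ[F] U × U) ∘ₗ (LinearMap.inl F U U)
  let γ : U →ₗ[F] U := (LinearMap.fst F U U) ∘ₗ (g : U × U →ₗ[F] U × U) ∘ₗ (LinearMap.inr F U U)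
  let δ : U →ₗ[F] U := (LinearMap.snd F U U) ∘ₗ (g : U × U →ₗ[F] U × U) ∘ₗ (LinearMap.inr F U U)
  have hgz : ∀ z, g z = (α z.1 + γ z.2, δ z.2) := by
    rintro ⟨p, q⟩
    have h : ((p, q) : U × U) = (p, 0) + (0, q) := by simp
    rw [h, map_add]
    exact Prod.ext (by simp [α, γ]) (by simp [δ, hs p])
  have hαinj : Function.Injective α := (injective_iff_map_eq_zero α).2 fun p hp => by
    have h : g (p, 0) = g 0 := by rw [hgz, map_zero]; simp [hp]
    exact congrArg Prod.fst (g.injective h)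
  have hsur : Function.Surjective δ := fun q => by
    obtain ⟨⟨a, b⟩, hab⟩ := g.surjective (0, q)
    rw [hgz] at hab
    exact ⟨b, congrArg Prod.snd hab⟩
  let D : U ≃ₗ[F] U := LinearEquiv.ofBijective δ ⟨LinearMap.injective_iff_surjective.2 hsur, hsur⟩
  have hD : ∀ q, D q = δ q := fun q => rfl
  have hαδ : ∀ p q, β (α p) (δ q) = β p q := fun p q => by
    have h := S.iso g hg (p, 0) (0, q)
    rw [hgz, hgz] at h
    simpa [om] using h
  -- conjugating the transvection
  have hconj : g * rl 1 * g⁻¹ = rad (α ∘ₗ D.symm.toLinearMap) := by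
    rw [mul_inv_eq_iff_eq_mul]
    refine LinearEquiv.ext fun z => ?_
    simp only [LinearEquiv.mul_apply, rl_apply, one_smul, hgz, rad_apply, LinearMap.comp_apply,
      LinearEquiv.coe_coe, ← hD, LinearEquiv.symm_apply_apply, map_add]
    exact Prod.ext (by abel) rfl
  obtain ⟨c, hc⟩ := hno _ (hconj ▸ M.mul_mem (M.mul_mem hg (S.rl_mem 1)) (M.inv_mem hg))
  have hα : ∀ p, α p = c • δ p := fun p => by
    have := hc (δ p)
    rwa [LinearMap.comp_apply, LinearEquiv.coe_coe, ← hD, LinearEquiv.symm_apply_apply] at this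
  have hc0 : c ≠ 0 := by
    intro h0
    obtain ⟨u, hu⟩ := exists_ne (0 : U)
    exact hu (hαinj (by rw [hα, h0, zero_smul, map_zero]))
  have hiso : ∀ x y, c * β (D x) (D y) = β x y := fun x y => by
    have := hαδ x y
    rwa [hα, map_smul, LinearMap.smul_apply, smul_eq_mul] at this
  let h : (U × U) ≃ₗ[F] (U × U) := (D.trans (LinearEquiv.smulOfNeZero F U c hc0)).prodCongr D
  have hh : ∀ z, h z = (c • D z.1, D z.2) := fun z => rfl
  have hhM : h ∈ M := by
    refine S.kr _ (fun z w => ?_) ⟨c, 0, 0, 1, D, fun z => by simp [hh]⟩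
    simp only [om, hh, map_smul, LinearMap.smul_apply, smul_eq_mul]
    rw [← hiso z.1 w.2, ← hiso z.2 w.1]
  have hrad : h⁻¹ * g = rad (c⁻¹ • (D.symm.toLinearMap ∘ₗ γ)) := by
    rw [inv_mul_eq_iff_eq_mul]
    refine LinearEquiv.ext fun z => ?_
    simp only [LinearEquiv.mul_apply, hgz, hh, rad_apply, LinearMap.smul_apply, LinearMap.comp_apply,
      LinearEquiv.coe_coe, map_add, map_smul, LinearEquiv.apply_symm_apply, ← hD, smul_add, smul_smul,
      mul_inv_cancel₀ hc0, one_smul, hα]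
  obtain ⟨e', he'⟩ := hno _ (hrad ▸ M.mul_mem (M.inv_mem hhM) hg)
  refine ⟨c, c * e', D, hc0, fun z => ?_, hiso⟩
  have hγ : γ z.2 = (c * e') • D z.2 := by
    have := congrArg (fun x => c • D x) (he' z.2)
    simpa [smul_smul, hc0] using this
  rw [hgz, hγ, hα, ← hD, ← hD]

theorem stab_kr (hno : NoRad M) {g : (U × U) ≃ₗ[F] (U × U)} (hg : g ∈ M) (hs : Stab g) : IsKr g := by
  obtain ⟨c, e, A, -, h, -⟩ := S.stab_form hno hg hs
  exact ⟨c, e, 0, 1, A, fun z => by simp [h]⟩

omit S in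
theorem stab_of_comm {g : (U × U) ≃ₗ[F] (U × U)} {l : F} (hl : l ≠ 0) (hc : Commute g (rl l)) : Stab g := by
  intro p
  have h := congrArg (fun f : (U × U) ≃ₗ[F] (U × U) => f (0, l⁻¹ • p)) hc.eq
  simp only [LinearEquiv.mul_apply, rl_apply, zero_add, smul_smul, mul_inv_cancel₀ hl, one_smul] at h
  have h1 : ((p, l⁻¹ • p) : U × U) = (p, 0) + (0, l⁻¹ • p) := by simp
  rw [h1, map_add] at h
  simpa using congrArg Prod.snd h

/-- Elements of `M` commuting with a transvection. -/
theorem form_of_comm (hno : NoRad M) {g : (U × U) ≃ₗ[F] (U × U)} (hg : g ∈ M) {l : F} (hl : l ≠ 0)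
    (hc : Commute g (rl l)) : ∃ (e : F) (A : U ≃ₗ[F] U),
      (∀ z, g z = (A z.1 + e • A z.2, A z.2)) ∧ ∀ x y, β (A x) (A y) = β x y := by
  haveI := S.nontrivial
  obtain ⟨c, e, A, -, h, hA⟩ := S.stab_form hno hg (stab_of_comm hl hc)
  obtain ⟨u, hu⟩ := exists_ne (0 : U)
  have h1 := congrArg (fun f : (U × U) ≃ₗ[F] (U × U) => (f (0, u)).1) hc.eq
  simp only [LinearEquiv.mul_apply, rl_apply, zero_add, h, map_smul, smul_zero, map_zero] at h1
  have h2 : ((c - 1) * l) • A u = 0 := by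
    rw [← sub_eq_zero] at h1
    rw [← h1]; module
  have hc1 : c = 1 := sub_eq_zero.mp ((mul_eq_zero.mp
    ((smul_eq_zero.mp h2).resolve_right fun e' => hu (A.injective (e'.trans (map_zero A).symm)))).resolve_right hl)
  exact ⟨e, A, fun z => by rw [h, hc1, one_smul], fun x y => by simpa [hc1] using hA x y⟩

omit S in
theorem comm_of_form {g : (U × U) ≃ₗ[F] (U × U)} {e : F} {A : U ≃ₗ[F] U}
    (h : ∀ z, g z = (A z.1 + e • A z.2, A z.2)) (l : F) : Commute g (rl l) := by
  refine LinearEquiv.ext fun z => Prod.ext ?_ ?_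
  · simp only [LinearEquiv.mul_apply, rl_apply, h, map_add, map_smul]
    abel
  · simp only [LinearEquiv.mul_apply, rl_apply, h]

/-- `p`-elements stabilising `U × 0` centralise the transvections. -/
theorem comm_of_stab_pelt (hno : NoRad M) {p : ℕ} [CharP F p] [Fact p.Prime] {g : (U × U) ≃ₗ[F] (U × U)}
    (hg : g ∈ M) (hs : Stab g) {k : ℕ} (hk : g ^ p ^ k = 1) (l : F) : Commute g (rl l) := by
  haveI := S.nontrivial
  obtain ⟨c, e, A, hc0, h, hA⟩ := S.stab_form hno hg hs
  have hpow : ∀ n : ℕ, (∀ u, (g ^ n) (u, 0) = (c ^ n • (⇑A)^[n] u, 0)) ∧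
      ∀ x y, c ^ n * β ((⇑A)^[n] x) ((⇑A)^[n] y) = β x y := by
    intro n
    induction n with
    | zero => simp
    | succ n ih =>
      refine ⟨fun u => ?_, fun x y => ?_⟩
      · rw [pow_succ', LinearEquiv.mul_apply, ih.1, h, Function.iterate_succ_apply']
        simp [smul_smul, pow_succ']
      · rw [Function.iterate_succ_apply', Function.iterate_succ_apply', pow_succ, mul_assoc, hA, ih.2]
  obtain ⟨h1, h3⟩ := hpow (p ^ k)
  obtain ⟨u, v, huv⟩ : ∃ u v, β u v ≠ 0 := by
    by_contra hno'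
    push Not at hno'
    obtain ⟨u, hu⟩ := exists_ne (0 : U)
    exact hu (S.nondeg u (hno' u))
  have hAu : ∀ w, c ^ p ^ k • (⇑A)^[p ^ k] w = w := fun w => by
    have := h1 w
    rw [hk] at this
    exact (congrArg Prod.fst this).symm
  have h5 := h3 u v
  have h6 : β u v = c ^ p ^ k * β u v := by
    conv_lhs => rw [← hAu u, ← hAu v]
    simp only [map_smul, LinearMap.smul_apply, smul_eq_mul]
    linear_combination (c ^ p ^ k) * h5
  have h7 : c ^ p ^ k = 1 := mul_right_cancel₀ huv (h6.symm.trans (one_mul _).symm)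
  have hc1 : c = 1 := by
    have h8 : (c - 1) ^ p ^ k = 0 := by rw [sub_pow_char_pow, h7, one_pow, sub_self]
    exact sub_eq_zero.1 (pow_eq_zero_iff (pow_ne_zero k (Fact.out (p := p.Prime)).ne_zero) |>.1 h8)
  exact comm_of_form (e := e) (A := A) (fun z => by rw [h, hc1, one_smul]) l

/-- A conjugate transvection commuting with one in the plane lies in the plane, or comes from the other
factor. -/
theorem conj_comm_cases (hno : NoRad M) {g : (U × U) ≃ₗ[F] (U × U)} (hg : g ∈ M) {m l : F}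
    (hm : m ≠ 0) (hl : l ≠ 0) (hc : Commute (g * rl m * g⁻¹) (rl l)) :
    Stab g ∨ ∃ n : U →ₗ[F] U, (∀ x, n (n x) = 0) ∧ (∀ x y, β (n x) y + β x (n y) = 0) ∧
      2 * finrank F (LinearMap.range n) = finrank F U ∧
      (∀ z : U × U, (g * rl m * g⁻¹ : (U × U) ≃ₗ[F] (U × U)) z = (z.1 + n z.1, z.2 + n z.2)) ∧
      ∀ v : U × U, (∃ u, g (u, 0) = v) ↔ v.1 ∈ LinearMap.range n ∧ v.2 ∈ LinearMap.range n := by
  haveI := S.finiteDimensional
  obtain ⟨e, A, hy, hA⟩ := S.form_of_comm hno (M.mul_mem (M.mul_mem hg (S.rl_mem m)) (M.inv_mem hg)) hl hc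
  have hyz : ∀ z : U × U, (g * rl m * g⁻¹ : (U × U) ≃ₗ[F] (U × U)) z = z + g (m • (g.symm z).2, 0) := by
    intro z
    rw [LinearEquiv.mul_apply, LinearEquiv.mul_apply, rl_apply,
      show g⁻¹ z = g.symm z from rfl, show ((g.symm z).1 + m • (g.symm z).2, (g.symm z).2) =
        g.symm z + (m • (g.symm z).2, (0 : U)) from Prod.ext rfl (by simp), map_add,
      LinearEquiv.apply_symm_apply]
  -- the nilpotent part squares to zero
  let n : U →ₗ[F] U := A.toLinearMap - LinearMap.id
  have hA' : ∀ x, A x = x + n x := fun x => by simp [n]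
  have himg : ∀ z : U × U, g (m • (g.symm z).2, 0) = (n z.1 + e • A z.2, n z.2) := fun z => by
    have h1 := (hyz z).symm.trans (hy z)
    rw [← sub_eq_iff_eq_add'.mpr h1.symm]
    exact Prod.ext (by simp [n]; abel) (by simp [n])
  have hrange : ∀ u, ∃ z : U × U, g (u, 0) = (n z.1 + e • A z.2, n z.2) := fun u =>
    ⟨g (0, m⁻¹ • u), by rw [← himg]; simp [smul_smul, mul_inv_cancel₀ hm]⟩
  have hsq : ∀ z : U × U, n (n z.2) = 0 ∧ n (n z.1 + e • A z.2) + e • A (n z.2) = 0 := fun z => by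
    have h1 := himg (n z.1 + e • A z.2, n z.2)
    rw [← himg z, LinearEquiv.symm_apply_apply, smul_zero] at h1
    rw [show ((0 : U), (0 : U)) = (0 : U × U) from rfl, map_zero, himg z] at h1
    exact ⟨(congrArg Prod.snd h1).symm, (congrArg Prod.fst h1).symm⟩
  have hn2 : ∀ x, n (n x) = 0 := fun x => (hsq (0, x)).1
  by_cases he : e = 0
  · right
    have hskew : ∀ x y, β (n x) y + β x (n y) = 0 := by
      have h0 : ∀ x y, β (n x) y + β x (n y) + β (n x) (n y) = 0 := fun x y => by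
        have := hA x y
        rw [hA', hA', map_add, map_add, LinearMap.add_apply, LinearMap.add_apply] at this
        linear_combination this
      intro x y
      have h1 := h0 x (n y)
      rw [hn2, map_zero, map_zero, add_zero, add_zero] at h1
      have h3 := h0 x y
      rwa [h1, add_zero] at h3
    have heven := S.even_rank_skew hskew
    subst he
    let φ : U →ₗ[F] LinearMap.range n × LinearMap.range n :=
      { toFun := fun u => (⟨(g (u, 0)).1, by
            obtain ⟨z, hz⟩ := hrange u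
            exact ⟨z.1, by simp [hz]⟩⟩, ⟨(g (u, 0)).2, by
            obtain ⟨z, hz⟩ := hrange u
            exact ⟨z.2, by simp [hz]⟩⟩)
        map_add' := fun a b => by
          have : g (a + b, 0) = g (a, 0) + g (b, 0) := by rw [← map_add]; simp
          exact Prod.ext (Subtype.ext (by simp [this])) (Subtype.ext (by simp [this]))
        map_smul' := fun t a => by
          have : g (t • a, 0) = t • g (a, 0) := by rw [← map_smul]; simp
          exact Prod.ext (Subtype.ext (by simp [this])) (Subtype.ext (by simp [this])) }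
    have hφi : Function.Injective φ := fun a b hab => by
      have h1 : g (a, 0) = g (b, 0) := Prod.ext (congrArg (fun x => (x.1 : U)) hab) (congrArg (fun x => (x.2 : U)) hab)
      exact congrArg Prod.fst (g.injective h1)
    have hφs : Function.Surjective φ := by
      rintro ⟨⟨_, x₁, rfl⟩, ⟨_, x₂, rfl⟩⟩
      refine ⟨m • (g.symm (x₁, x₂)).2, ?_⟩
      refine Prod.ext (Subtype.ext ?_) (Subtype.ext ?_)
      · show (g (m • (g.symm (x₁, x₂)).2, 0)).1 = n x₁
        rw [himg]; simp
      · show (g (m • (g.symm (x₁, x₂)).2, 0)).2 = n x₂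
        rw [himg]
    have hdim := (LinearEquiv.ofBijective φ ⟨hφi, hφs⟩).finrank_eq
    rw [Module.finrank_prod] at hdim
    refine ⟨n, hn2, hskew, by omega, fun z => ?_, fun v => ⟨?_, fun hv => ?_⟩⟩
    · rw [hy, hA', hA', zero_smul, add_zero]
    · rintro ⟨u, hu⟩
      exact hu ▸ ⟨(φ u).1.2, (φ u).2.2⟩
    · obtain ⟨u, hu⟩ := hφs (⟨v.1, hv.1⟩, ⟨v.2, hv.2⟩)
      exact ⟨u, Prod.ext (congrArg (fun x => (x.1 : U)) hu) (congrArg (fun x => (x.2 : U)) hu)⟩
  left
  intro u
  obtain ⟨z, hz⟩ := hrange u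
  have hn0 : ∀ x, n x = 0 := fun x => by
    have h1 := (hsq (0, x)).2
    simp only [map_zero, zero_add, map_smul, hA', map_add, hn2, add_zero, smul_add] at h1
    have h3 : (2 * e) • n x = 0 := by rw [← h1]; module
    exact (smul_eq_zero.mp h3).resolve_left (mul_ne_zero S.two he)
  rw [hz]
  exact hn0 _

/-- A conjugate transvection commuting with one in the plane lies in the plane. -/
theorem stab_of_conj_comm (hR : Rig β) (hno : NoRad M) {g : (U × U) ≃ₗ[F] (U × U)} (hg : g ∈ M) {m l : F}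
    (hm : m ≠ 0) (hl : l ≠ 0) (hc : Commute (g * rl m * g⁻¹) (rl l)) : Stab g := by
  refine (S.conj_comm_cases hno hg hm hl hc).resolve_right ?_
  rintro ⟨n, hn2, hskew, hrk, -, -⟩
  refine hR (LinearMap.range n) ?_ (S.even_rank_skew hskew) hrk
  rintro _ ⟨x, rfl⟩ _ ⟨y, rfl⟩
  have h := hskew x (n y)
  rwa [hn2, map_zero, add_zero] at h

/-- A power of odd order of a square. -/
theorem stab_of_sq {g : (U × U) ≃ₗ[F] (U × U)} (hs : Stab (g * g)) {k : ℕ} (hk : g ^ (2 * k + 1) = 1) :
    Stab g := by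
  let G : Submonoid ((U × U) ≃ₗ[F] (U × U)) :=
    { carrier := {h | Stab h}
      one_mem' := fun _ => rfl
      mul_mem' := fun {a b} (ha : Stab a) (hb : Stab b) p => by
        rw [LinearEquiv.mul_apply, show b (p, 0) = ((b (p, 0)).1, (0 : U)) from Prod.ext rfl (hb p)]
        exact ha _ }
  have e : g = (g * g) ^ (k + 1) := by
    rw [← pow_two, ← pow_mul, show 2 * (k + 1) = (2 * k + 1) + 1 by ring, pow_succ, hk, one_mul]
  rw [e]
  exact pow_mem (show g * g ∈ G from hs) _

/-- A `p`-subgroup of `M` containing the transvection group centralises it, if the form is rigid or the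
subgroup fixes a large part of the plane. -/
theorem comm_of_pgroup (hno : NoRad M) {p : ℕ} [CharP F p] [Fact p.Prime]
    [Finite ((U × U) ≃ₗ[F] (U × U))]
    {P : Subgroup ((U × U) ≃ₗ[F] (U × U))} (hPM : P ≤ M) (hP : IsPGroup p P) (hX : X0 ≤ P)
    {T : Submodule F U} (hTd : finrank F U ≤ finrank F T + 2) (hT : ∀ z ∈ P, ∀ u ∈ T, z (u, 0) = (u, 0))
    {z : (U × U) ≃ₗ[F] (U × U)} (hz : z ∈ P) (l : F) : Commute z (rl l) := by
  haveI := S.finiteDimensional
  let C : Subgroup P := (Subgroup.centralizer {rl (1 : F)}).subgroupOf P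
  suffices h : ∀ w : P, w ∈ C by
    have hc : Commute z (rl 1) := ((Subgroup.mem_centralizer_singleton_iff).1
      (Subgroup.mem_subgroupOf.1 (h ⟨z, hz⟩)))
    obtain ⟨e, A, hA, -⟩ := S.form_of_comm hno (hPM hz) one_ne_zero hc
    exact comm_of_form hA l
  by_contra hne
  push Not at hne
  haveI : Group.IsNilpotent P := hP.isNilpotent
  obtain ⟨x, hx⟩ := hne
  have hlt : C < ⊤ := lt_top_iff_ne_top.2 fun e => hx (e ▸ Subgroup.mem_top x)
  obtain ⟨w, hw, hwC⟩ := SetLike.exists_of_lt (Group.normalizerCondition_of_isNilpotent _ hlt)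
  have hrl : (⟨rl 1, hX (rl_mem_X0 1)⟩ : P) ∈ C :=
    Subgroup.mem_subgroupOf.2 (Subgroup.mem_centralizer_singleton_iff.2 rfl)
  have key : ∀ v : P, v ∈ Subgroup.normalizer (C : Set P) → Stab (v : (U × U) ≃ₗ[F] (U × U)) ∨
      ∀ y : U × U, (∃ u, (v : (U × U) ≃ₗ[F] (U × U)) (u, 0) = y) ↔ y.1 ∈ T ∧ y.2 ∈ T := by
    intro v hv
    have h1 := (Subgroup.mem_normalizer_iff.1 hv _).1 hrl
    have hcc : Commute ((v : (U × U) ≃ₗ[F] (U × U)) * rl 1 * (v : (U × U) ≃ₗ[F] (U × U))⁻¹) (rl 1) :=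
      Subgroup.mem_centralizer_singleton_iff.1 (Subgroup.mem_subgroupOf.1 h1)
    rcases S.conj_comm_cases hno (hPM v.2) one_ne_zero one_ne_zero hcc with
      hs | ⟨n, hn2, hskew, hrk, happ, himg⟩
    · exact Or.inl hs
    obtain ⟨r, hr⟩ := S.even_rank_skew hskew
    have hU4 : finrank F U = 4 := S.four.resolve_left (not_not.2 ⟨r, by omega⟩)
    have hker : T ≤ LinearMap.ker n := fun u hu => by
      have h := hT _ (P.mul_mem (P.mul_mem v.2 (hX (rl_mem_X0 1))) (P.inv_mem v.2)) u hu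
      rw [happ] at h
      simpa using congrArg Prod.fst h
    have hle : LinearMap.range n ≤ LinearMap.ker n := by rintro _ ⟨u, rfl⟩; exact hn2 u
    have hd := n.finrank_range_add_finrank_ker
    have e1 : T = LinearMap.ker n := Submodule.eq_of_le_of_finrank_le hker (by omega)
    have e2 : LinearMap.range n = LinearMap.ker n := Submodule.eq_of_le_of_finrank_le hle (by omega)
    right
    intro y
    rw [himg y, e1, e2]
  obtain ⟨k, hk⟩ := hP w
  have hw2 : w * w ∈ Subgroup.normalizer (C : Set P) := Subgroup.mul_mem _ hw hw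
  have hs : Stab (w : (U × U) ≃ₗ[F] (U × U)) := by
    rcases key w hw with hs | hTT
    · exact hs
    rcases key _ hw2 with hs2 | hTT2
    · obtain ⟨j, hj⟩ : Odd (p ^ k) := (((Fact.out (p := p.Prime)).eq_two_or_odd').resolve_left fun e => by
        subst e
        exact S.two (by exact_mod_cast CharP.cast_eq_zero F 2)).pow
      exact S.stab_of_sq (by simpa using hs2) (k := j) (hj ▸ congrArg Subtype.val hk)
    · intro u
      obtain ⟨u', hu'⟩ := (hTT _).2 ((hTT2 _).1 ⟨u, rfl⟩)
      rw [Subgroup.coe_mul, LinearEquiv.mul_apply] at hu'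
      rw [← (w : (U × U) ≃ₗ[F] (U × U)).injective hu']
  exact hwC (Subgroup.mem_subgroupOf.2 (Subgroup.mem_centralizer_singleton_iff.2
      (S.comm_of_stab_pelt hno (hPM w.2) hs (congrArg Subtype.val hk) 1)))

end Setup

end Cfsg.Agent.Lib.SpOTensor
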