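import Cfsg.Agent.Lib.SpOTensor.Centralizer

/-!
Dimension four over three elements: a quarter turn of a hyperbolic plane of the factor, together with the
tensor group, moves the plane onto itself by a map which is not a tensor.
-/

set_option autoImplicit false
set_option linter.unusedSectionVars false

namespace Cfsg.Agent.Lib.SpOTensor

open Module

namespace Quarter

/-- Coordinates on the factor. -/
abbrev Q (R : Type*) := R × R × R × R

/-- The coordinate vectors. -/
def unitQ : List (Q (ZMod 3)) := [(1, 0, 0, 0), (0, 1, 0, 0), (0, 0, 1, 0), (0, 0, 0, 1)]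

variable {R : Type*} [CommRing R]

/-- Upper transvections. -/
def ul (a : R) (v : Q R × Q R) : Q R × Q R :=
  ((v.1.1 + a * v.2.1, v.1.2.1 + a * v.2.2.1, v.1.2.2.1 + a * v.2.2.2.1, v.1.2.2.2 + a * v.2.2.2.2), v.2)

/-- The lower transvection. -/
def ll (v : Q R × Q R) : Q R × Q R :=
  (v.1, (v.1.1 + v.2.1, v.1.2.1 + v.2.2.1, v.1.2.2.1 + v.2.2.2.1, v.1.2.2.2 + v.2.2.2.2))

/-- The reflection exchanging the isotropic lines. -/
def rA (v : Q R × Q R) : Q R × Q R :=
  let r : Q R → Q R := fun p => (p.1, p.2.1, -p.2.2.2, -p.2.2.1)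
  (r v.1, r v.2)

/-- The reflections meeting both planes. -/
def rB (s : R) (v : Q R × Q R) : Q R × Q R :=
  let r : Q R → Q R := fun p => (p.1, -p.2.1 + s * p.2.2.1, p.2.2.1, p.2.2.2 + s * p.2.1 + p.2.2.1)
  (r v.1, r v.2)

/-- The quarter turn. -/
def gf (x y z : R) (v : Q R × Q R) : Q R × Q R :=
  let S : R × R → R × R := fun p => (x * p.1 + y * p.2, z * p.1 + x * p.2)
  let a := S v.1.2.2
  let b := S v.2.2.2
  let c := S b
  ((v.1.1, v.1.2.1, a.1 - v.2.2.2.1 - c.1, a.2 - v.2.2.2.2 - c.2),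
    (v.2.1, v.2.2.1, v.1.2.2.1 - b.1, v.1.2.2.2 - b.2))

theorem gf_shift (x y z : R) (v : Q R × Q R) : ul (-x) (gf x y z (ul x v)) = gf 0 y z v := by
  simp only [ul, gf, Prod.mk.injEq]
  refine ⟨⟨?_, ?_, ?_, ?_⟩, ?_, ?_, ?_, ?_⟩ <;> first | trivial | ring

/-- The letters of the words. -/
inductive Let
  | u | l | g | a | p | n

/-- The action of a letter. -/
def act (y z : ZMod 3) : Let → Q (ZMod 3) × Q (ZMod 3) → Q (ZMod 3) × Q (ZMod 3)
  | .u => ul 1
  | .l => ll
  | .g => gf 0 y z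
  | .a => rA
  | .p => rB 1
  | .n => rB (-1)

/-- The action of a word. -/
def run (y z : ZMod 3) : List Let → Q (ZMod 3) × Q (ZMod 3) → Q (ZMod 3) × Q (ZMod 3)
  | [], v => v
  | t :: w, v => act y z t (run y z w v)

open Let in
/-- The words. -/
def word (y z : ZMod 3) : List Let :=
  if y = 0 ∧ z = 0 then [g, g, g, p, g, g, g, n, u, g, g, g, p, g]
  else if y = 0 ∨ z = 0 then [l, l, g, g, g, a, g, l]
  else if y = 1 ∧ z = 1 then [g, g, g, p, g, g, g, p, g, p, g]
  else if y = 2 ∧ z = 2 then [g, g, g, p, g, g, g, n, g, p, g]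
  else [g, g, g, a, g, a, g]

/-- A scalar multiple. -/
def smulQ (k : ZMod 3) (p : Q (ZMod 3)) : Q (ZMod 3) := (k * p.1, k * p.2.1, k * p.2.2.1, k * p.2.2.2)

theorem run_word : ∀ y z : ZMod 3,
    (∀ e ∈ unitQ, (run y z (word y z) (e, 0)).2 = 0) ∧
    ∀ k m : ZMod 3, ∃ e ∈ unitQ,
      (run y z (word y z) (e, 0)).1 ≠ smulQ k (run y z (word y z) (0, e)).2 ∨
      (run y z (word y z) (0, e)).1 ≠ smulQ m (run y z (word y z) (0, e)).2 := by
  decide +kernel

end Quarter

namespace Setup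

open Quarter

variable {F U : Type*} [Field F] [AddCommGroup U] [Module F U]
  {β : LinearMap.BilinForm F U} {M : Subgroup ((U × U) ≃ₗ[F] (U × U))} (S : Setup β M)
include S

/-- A quarter turn over a complementary anisotropic plane contradicts the absence of radical elements. -/
theorem false_of_quarter (hno : NoRad M) (hR : Rig β) (h3 : (3 : F) = 0) (hall : ∀ x : F, x = 0 ∨ x = 1 ∨ x = -1)
    (hd : finrank F U = 4) {P : U →ₗ[F] U} (hPidem : ∀ u, P (P u) = P u) (hPself : ∀ x y, β (P x) y = β x (P y))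
    (hker : finrank F (LinearMap.ker P) = 2) (hani : ∀ c ∈ LinearMap.ker P, c ≠ 0 → β c c ≠ 0)
    {g : (U × U) ≃ₗ[F] (U × U)} (hg : g ∈ M) (A : U →ₗ[F] U) (hAP : ∀ r, P (A (P r)) = A (P r))
    (hAself : ∀ r s, β (A (P r)) (P s) = β (P r) (A (P s)))
    (hgz : ∀ z : U × U, g z = (z.1 - P z.1 + (A (P z.1) - P z.2 - A (A (P z.2))),
      z.2 - P z.2 + (P z.1 - A (P z.2)))) : False := by
  classical
  have := S.finiteDimensional
  have h2 := S.two
  obtain ⟨t₁, ht₁, ht₁0⟩ := Submodule.exists_mem_ne_zero_of_ne_bot (p := LinearMap.ker P) fun e => by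
    rw [e, finrank_bot] at hker; omega
  obtain ⟨ε, hε⟩ : ∃ ε, ε = β t₁ t₁ := ⟨_, rfl⟩
  have hε0 : ε ≠ 0 := hε ▸ hani t₁ ht₁ ht₁0
  have hε2 : ε * ε = 1 := by
    rcases hall ε with h | h | h
    · exact absurd h hε0
    all_goals rw [h]; ring
  -- the second vector of the anisotropic plane
  obtain ⟨t₂, ht₂, ht₂0, ht12⟩ : ∃ t ∈ LinearMap.ker P, t ≠ 0 ∧ β t₁ t = 0 := by
    obtain ⟨w, hw, hwt⟩ := SetLike.not_le_iff_exists.1 (show ¬ LinearMap.ker P ≤ F ∙ t₁ from fun h => by
      have := Submodule.finrank_mono h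
      rw [hker, finrank_span_singleton ht₁0] at this
      omega)
    refine ⟨w - (ε * β t₁ w) • t₁, Submodule.sub_mem _ hw (Submodule.smul_mem _ _ ht₁), fun e => hwt ?_, ?_⟩
    · rw [sub_eq_zero] at e; rw [e]; exact Submodule.smul_mem _ _ (Submodule.mem_span_singleton_self _)
    · rw [map_sub, map_smul, smul_eq_mul, ← hε]; linear_combination (-(β t₁ w)) * hε2
  have hq₂ : β t₂ t₂ = ε := by
    have h1 : β t₂ t₂ ≠ 0 := hani t₂ ht₂ ht₂0
    rcases hall (β t₂ t₂ * ε) with h | h | h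
    · exact absurd ((mul_eq_zero.1 h).resolve_right hε0) h1
    · linear_combination ε * h - β t₂ t₂ * hε2
    · exfalso
      refine hani (t₁ + t₂) (Submodule.add_mem _ ht₁ ht₂) (fun e => hε0 ?_) ?_
      · have h' := congrArg (β t₁) e
        rwa [map_add, ht12, add_zero, map_zero, ← hε] at h'
      · simp only [map_add, LinearMap.add_apply, ← hε, ht12, S.symm t₂ t₁, zero_add, add_zero]
        linear_combination ε * h - β t₂ t₂ * hε2
  have hPT : ∀ t ∈ LinearMap.ker P, ∀ u, β t (P u) = 0 := fun t ht u => by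
    rw [← hPself, LinearMap.mem_ker.1 ht, map_zero, LinearMap.zero_apply]
  -- a hyperbolic pair in the image
  obtain ⟨c, hcP, hc0, hcc⟩ : ∃ c : U, P c = c ∧ c ≠ 0 ∧ β c c = 0 := by
    by_contra hno'
    push Not at hno'
    have hdim : finrank F (LinearMap.range P) = 2 := by
      have := P.finrank_range_add_finrank_ker; omega
    obtain ⟨r₁, ⟨u₁, hu₁⟩, hr₁0⟩ := Submodule.exists_mem_ne_zero_of_ne_bot (p := LinearMap.range P) fun e => by
      rw [e, finrank_bot] at hdim; omega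
    have hPr₁ : P r₁ = r₁ := hu₁ ▸ hPidem u₁
    obtain ⟨δ, hδ⟩ : ∃ δ, δ = β r₁ r₁ := ⟨_, rfl⟩
    have hδ0 : δ ≠ 0 := hδ ▸ hno' r₁ hPr₁ hr₁0
    have hδ2 : δ * δ = 1 := by
      rcases hall δ with h | h | h
      · exact absurd h hδ0
      all_goals rw [h]; ring
    obtain ⟨r₂, hr₂, hr₂0, hr12⟩ : ∃ r, P r = r ∧ r ≠ 0 ∧ β r₁ r = 0 := by
      obtain ⟨w, ⟨uw, hw⟩, hwt⟩ := SetLike.not_le_iff_exists.1 (show ¬ LinearMap.range P ≤ F ∙ r₁ from fun h => by
        have := Submodule.finrank_mono h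
        rw [hdim, finrank_span_singleton hr₁0] at this
        omega)
      refine ⟨w - (δ * β r₁ w) • r₁, by rw [map_sub, map_smul, hPr₁, ← hw, hPidem], fun e => hwt ?_, ?_⟩
      · rw [sub_eq_zero] at e; rw [e]; exact Submodule.smul_mem _ _ (Submodule.mem_span_singleton_self _)
      · rw [map_sub, map_smul, smul_eq_mul, ← hδ]; linear_combination (-(β r₁ w)) * hδ2
    have hq : β r₂ r₂ = δ := by
      rcases hall (β r₂ r₂ * δ) with h | h | h
      · exact absurd ((mul_eq_zero.1 h).resolve_right hδ0) (hno' r₂ hr₂ hr₂0)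
      · linear_combination δ * h - β r₂ r₂ * hδ2
      · exfalso
        refine hno' (r₁ + r₂) (by rw [map_add, hPr₁, hr₂]) (fun e => hδ0 ?_) ?_
        · have h' := congrArg (β r₁) e
          rwa [map_add, hr12, add_zero, map_zero, ← hδ] at h'
        · simp only [map_add, LinearMap.add_apply, ← hδ, hr12, S.symm r₂ r₁, zero_add, add_zero]
          linear_combination δ * h - β r₂ r₂ * hδ2
    have o11 : β t₁ r₁ = 0 := hPr₁ ▸ hPT t₁ ht₁ r₁
    have o12 : β t₁ r₂ = 0 := hr₂ ▸ hPT t₁ ht₁ r₂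
    have o21 : β t₂ r₁ = 0 := hPr₁ ▸ hPT t₂ ht₂ r₁
    have o22 : β t₂ r₂ = 0 := hr₂ ▸ hPT t₂ ht₂ r₂
    -- a totally isotropic plane
    obtain ⟨a, b, haa, hbb, hab, har₁, hbr₁, hbr₂⟩ : ∃ a b : U, β a a = 0 ∧ β b b = 0 ∧ β a b = 0 ∧
        β r₁ a = δ ∧ β r₁ b = 0 ∧ β r₂ b = δ := by
      rcases hall (ε * δ) with h | h | h
      · exact absurd h (mul_ne_zero hε0 hδ0)
      · have e : ε = δ := by linear_combination δ * h - ε * hδ2
        refine ⟨t₁ + t₂ + r₁, t₁ - t₂ + r₂, ?_, ?_, ?_, ?_, ?_, ?_⟩ <;>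
          simp only [map_add, map_sub, LinearMap.add_apply, LinearMap.sub_apply, ← hε, ← hδ, ht12, hq₂, hq, hr12,
            o11, o12, o21, o22, S.symm t₂ t₁, S.symm r₂ r₁, S.symm r₁ t₁, S.symm r₁ t₂, S.symm r₂ t₁,
            S.symm r₂ t₂, add_zero, zero_add, sub_zero, zero_sub] <;>
          (try ring) <;> (rw [e]; linear_combination δ * h3)
      · have e : ε = -δ := by linear_combination δ * h - ε * hδ2
        refine ⟨t₁ + r₁, t₂ + r₂, ?_, ?_, ?_, ?_, ?_, ?_⟩ <;>
          simp only [map_add, LinearMap.add_apply, ← hε, ← hδ, ht12, hq₂, hq, hr12,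
            o11, o12, o21, o22, S.symm t₂ t₁, S.symm r₂ r₁, S.symm r₁ t₁, S.symm r₁ t₂, S.symm r₂ t₁,
            S.symm r₂ t₂, add_zero, zero_add] <;>
          (rw [e]; ring)
    have hli : LinearIndependent F ![a, b] := by
      rw [LinearIndependent.pair_iff]
      intro s t hst
      have e1 := congrArg (β r₁) hst
      simp only [map_add, map_smul, smul_eq_mul, map_zero, har₁, hbr₁, mul_zero, add_zero] at e1
      have hs := (mul_eq_zero.1 e1).resolve_right hδ0
      refine ⟨hs, ?_⟩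
      have e2 := congrArg (β r₂) hst
      simp only [hs, zero_smul, zero_add, map_smul, smul_eq_mul, map_zero, hbr₂] at e2
      exact (mul_eq_zero.1 e2).resolve_right hδ0
    refine hR (Submodule.span F (Set.range ![a, b])) (fun x hx y hy => ?_) ?_ ?_
    · have hz : ∀ i j, β (![a, b] i) (![a, b] j) = 0 := by
        intro i j; fin_cases i <;> fin_cases j <;> simp [haa, hbb, hab, S.symm b a]
      induction hx using Submodule.span_induction with
      | mem x hx =>
        obtain ⟨i, rfl⟩ := hx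
        induction hy using Submodule.span_induction with
        | mem y hy => obtain ⟨j, rfl⟩ := hy; exact hz i j
        | zero => simp
        | add y y' _ _ h h' => rw [map_add, h, h', add_zero]
        | smul k y _ h => rw [map_smul, h, smul_zero]
      | zero => simp
      | add x x' _ _ h h' => rw [map_add, LinearMap.add_apply, h, h', add_zero]
      | smul k x _ h => rw [map_smul, LinearMap.smul_apply, h, smul_zero]
    · rw [finrank_span_eq_card hli]; exact ⟨1, rfl⟩
    · rw [finrank_span_eq_card hli, hd]; rfl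
  obtain ⟨d, hdP, hcd, hdd⟩ : ∃ d : U, P d = d ∧ β c d = ε ∧ β d d = 0 := by
    obtain ⟨w, hw⟩ : ∃ w, β c w ≠ 0 := by
      by_contra hh; push Not at hh; exact hc0 (S.nondeg c hh)
    have hw' : β c (P w) ≠ 0 := by rw [← hPself, hcP]; exact hw
    obtain ⟨e, he⟩ : ∃ e, e = (ε / β c (P w)) • P w := ⟨_, rfl⟩
    have hce : β c e = ε := by rw [he, map_smul, smul_eq_mul, div_mul_cancel₀ _ hw']
    refine ⟨e - (ε * β e e / 2) • c, by rw [map_sub, map_smul, hcP, he, map_smul, hPidem], ?_, ?_⟩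
    · rw [map_sub, map_smul, hce, hcc, smul_zero, sub_zero]
    · simp only [map_sub, map_smul, LinearMap.sub_apply, LinearMap.smul_apply, smul_eq_mul, hce, hcc,
        S.symm e c]
      field_simp
      linear_combination (-4 * β e e) * hε2
  -- the prime field
  have : CharP F 3 := (CharP.charP_iff_prime_eq_zero Nat.prime_three).2 (by exact_mod_cast h3)
  let ι : ZMod 3 →+* F := ZMod.castHom dvd_rfl F
  have hsur : Function.Surjective ι := fun x => by
    rcases hall x with h | h | h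
    · exact ⟨0, h ▸ map_zero ι⟩
    · exact ⟨1, h ▸ map_one ι⟩
    · exact ⟨-1, by rw [h, map_neg, map_one]⟩
  have hinj : Function.Injective ι := ι.injective
  let em : Q (ZMod 3) → U := fun p => ι p.1 • t₁ + ι p.2.1 • t₂ + ι p.2.2.1 • c + ι p.2.2.2 • d
  let emb : Q (ZMod 3) × Q (ZMod 3) → U × U := fun v => (em v.1, em v.2)
  have o1c : β t₁ c = 0 := hcP ▸ hPT t₁ ht₁ c
  have o1d : β t₁ d = 0 := hdP ▸ hPT t₁ ht₁ d
  have o2c : β t₂ c = 0 := hcP ▸ hPT t₂ ht₂ c
  have o2d : β t₂ d = 0 := hdP ▸ hPT t₂ ht₂ d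
  have hb : ∀ p, β t₁ (em p) = ι p.1 * ε ∧ β t₂ (em p) = ι p.2.1 * ε ∧
      β c (em p) = ι p.2.2.2 * ε ∧ β d (em p) = ι p.2.2.1 * ε := fun p => by
    simp only [em, map_add, map_smul, smul_eq_mul, ← hε, hq₂, ht12, S.symm t₂ t₁, o1c, o1d, o2c, o2d, hcc, hdd,
      hcd, S.symm c t₁, S.symm c t₂, S.symm d t₁, S.symm d t₂, S.symm d c]
    refine ⟨?_, ?_, ?_, ?_⟩ <;> ring
  have heminj : Function.Injective em := fun p q h => by
    obtain ⟨a1, a2, a3, a4⟩ := hb p
    obtain ⟨b1, b2, b3, b4⟩ := hb q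
    rw [h] at a1 a2 a3 a4
    exact Prod.ext (hinj (mul_right_cancel₀ hε0 (a1.symm.trans b1))) (Prod.ext
      (hinj (mul_right_cancel₀ hε0 (a2.symm.trans b2))) (Prod.ext
        (hinj (mul_right_cancel₀ hε0 (a4.symm.trans b4))) (hinj (mul_right_cancel₀ hε0 (a3.symm.trans b3)))))
  have hem0 : em 0 = 0 := by simp [em]
  have hemsmul : ∀ k p, em (smulQ k p) = ι k • em p := fun k p => by
    simp only [em, smulQ, map_mul, smul_add, smul_smul]
  have hspan : ∀ u : U, ∃ p, u = em p := fun u => by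
    obtain ⟨a1, ha1⟩ := hsur (ε * β t₁ u)
    obtain ⟨a2, ha2⟩ := hsur (ε * β t₂ u)
    obtain ⟨a3, ha3⟩ := hsur (ε * β d u)
    obtain ⟨a4, ha4⟩ := hsur (ε * β c u)
    refine ⟨(a1, a2, a3, a4), ?_⟩
    obtain ⟨b1, b2, b3, b4⟩ := hb (a1, a2, a3, a4)
    rw [← sub_eq_zero]
    obtain ⟨x, hx⟩ : ∃ x, x = u - em (a1, a2, a3, a4) := ⟨_, rfl⟩
    rw [← hx]
    have hli : LinearIndependent F ![t₁, t₂, c, d] := by
      rw [Fintype.linearIndependent_iff]
      intro f hf
      simp only [Fin.sum_univ_four, Matrix.cons_val_zero, Matrix.cons_val_one, Matrix.cons_val_two,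
        Matrix.cons_val_three, Matrix.tail_cons, Matrix.head_cons] at hf
      have e : ∀ w, β w (f 0 • t₁ + f 1 • t₂ + f 2 • c + f 3 • d) = 0 := fun w => by rw [hf, map_zero]
      have e1 := e t₁; have e2 := e t₂; have e3 := e c; have e4 := e d
      simp only [map_add, map_smul, smul_eq_mul, ← hε, hq₂, ht12, S.symm t₂ t₁, o1c, o1d, o2c, o2d, hcc, hdd,
        hcd, S.symm c t₁, S.symm c t₂, S.symm d t₁, S.symm d t₂, S.symm d c, mul_zero, add_zero, zero_add,
        mul_eq_zero, hε0, or_false] at e1 e2 e3 e4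
      intro i; fin_cases i <;> assumption
    have htop := hli.span_eq_top_of_card_eq_finrank (by rw [hd]; rfl)
    have hz : ∀ i, β (![t₁, t₂, c, d] i) x = 0 := by
      intro i
      fin_cases i <;> simp [hx, b1, b2, b3, b4, ha1, ha2, ha3, ha4] <;> (ring_nf; rw [pow_two, hε2, mul_one, sub_self])
    refine S.nondeg x fun y => ?_
    rw [S.symm]
    have hy : y ∈ Submodule.span F (Set.range ![t₁, t₂, c, d]) := by rw [htop]; trivial
    induction hy using Submodule.span_induction with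
    | mem y hy => obtain ⟨i, rfl⟩ := hy; exact hz i
    | zero => simp
    | add y y' _ _ h h' => rw [map_add, LinearMap.add_apply, h, h', add_zero]
    | smul k y _ h => rw [map_smul, LinearMap.smul_apply, h, smul_zero]
  let Rep : (Q (ZMod 3) × Q (ZMod 3) → Q (ZMod 3) × Q (ZMod 3)) → Prop := fun f =>
    ∃ m ∈ M, ∀ v, m (emb v) = emb (f v)
  have hmul : ∀ f f', Rep f → Rep f' → Rep (f ∘ f') := fun f f' ⟨m, hm, e⟩ ⟨m', hm', e'⟩ =>
    ⟨m * m', M.mul_mem hm hm', fun v => by rw [LinearEquiv.mul_apply, e', e]; rfl⟩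
  have hul : ∀ a, Rep (ul a) := fun a => ⟨rl (ι a), S.rl_mem _, fun v => by
    refine Prod.ext ?_ rfl
    simp only [emb, em, ul, rl_apply, map_add, map_mul]
    module⟩
  have hll : Rep ll := by
    let L : (U × U) ≃ₗ[F] (U × U) :=
      { toFun := fun z => (z.1, z.1 + z.2)
        map_add' := fun z w => Prod.ext rfl (by simp only [Prod.fst_add, Prod.snd_add]; abel)
        map_smul' := fun k z => Prod.ext rfl (by simp [smul_add])
        invFun := fun z => (z.1, z.2 - z.1)
        left_inv := fun z => by simp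
        right_inv := fun z => by simp }
    refine ⟨L, S.kr L (fun z w => ?_) ⟨1, 0, 1, 1, LinearEquiv.refl F U, fun z => by simp [L]⟩, fun v => ?_⟩
    · simp only [L, LinearEquiv.coe_mk, LinearMap.coe_mk, AddHom.coe_mk, om, map_add, LinearMap.add_apply]
      ring
    · show ((emb v).1, (emb v).1 + (emb v).2) = _
      refine Prod.ext rfl ?_
      simp only [emb, em, ll, map_add]
      module
  have hrA : Rep rA := by
    have hv : β (c + d) (c + d) ≠ 0 := by
      simp only [map_add, LinearMap.add_apply, hcc, hdd, hcd, S.symm d c, zero_add, add_zero, ← two_mul]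
      exact mul_ne_zero h2 hε0
    have e : β (c + d) (c + d) = 2 * ε := by
      simp only [map_add, LinearMap.add_apply, hcc, hdd, hcd, S.symm d c]; ring
    refine ⟨dia (S.reflE hv), S.dia_mem (S.reflE_iso hv), fun v => ?_⟩
    have hone : ∀ p, S.reflE hv (em p) = em (p.1, p.2.1, -p.2.2.2, -p.2.2.1) := fun p => by
      obtain ⟨-, -, b3, b4⟩ := hb p
      rw [S.reflE_apply, e, show β (c + d) (em p) = (ι p.2.2.2 + ι p.2.2.1) * ε by
        rw [map_add β, LinearMap.add_apply, b3, b4]; ring]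
      simp only [em, map_neg]
      match_scalars <;> field_simp <;> ring
    rw [dia_apply]
    exact Prod.ext (hone _) (hone _)
  have hrB : ∀ s : ZMod 3, s * s = 1 → Rep (rB s) := fun s hs => by
    have hs' : ι s * ι s = 1 := by rw [← map_mul, hs, map_one]
    have e : β (t₂ + ι s • d) (t₂ + ι s • d) = ε := by
      simp only [map_add, LinearMap.add_apply, map_smul, LinearMap.smul_apply, hq₂, hdd, o2d, S.symm d t₂,
        smul_zero, add_zero]
    have hv : β (t₂ + ι s • d) (t₂ + ι s • d) ≠ 0 := e ▸ hε0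
    refine ⟨dia (S.reflE hv), S.dia_mem (S.reflE_iso hv), fun v => ?_⟩
    have hone : ∀ p : Q (ZMod 3), S.reflE hv (em p) =
        em (p.1, -p.2.1 + s * p.2.2.1, p.2.2.1, p.2.2.2 + s * p.2.1 + p.2.2.1) := fun p => by
      obtain ⟨-, b2, -, b4⟩ := hb p
      rw [S.reflE_apply, e, show β (t₂ + ι s • d) (em p) = (ι p.2.1 + ι s * ι p.2.2.1) * ε by
        rw [map_add β, LinearMap.add_apply, map_smul β, LinearMap.smul_apply, b2, b4, smul_eq_mul]; ring]
      simp only [em, map_neg, map_add, map_mul]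
      match_scalars
      · ring
      · field_simp; linear_combination (-(ι p.2.2.1 * ι s)) * h3
      · ring
      · field_simp; linear_combination (-(ι p.2.1 * ι s + ι p.2.2.1)) * h3 + (-2 * ι p.2.2.1) * hs'
    rw [dia_apply]
    exact Prod.ext (hone _) (hone _)
  -- coordinates of the symmetric map
  obtain ⟨x, hx⟩ := hsur (ε * β d (A c))
  obtain ⟨z, hz⟩ := hsur (ε * β c (A c))
  obtain ⟨y, hy⟩ := hsur (ε * β d (A d))
  have hAt : ∀ t ∈ LinearMap.ker P, β t (A c) = 0 ∧ β t (A d) = 0 := fun t ht => by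
    refine ⟨?_, ?_⟩
    · rw [← hcP, ← hAP]; exact hPT t ht _
    · rw [← hdP, ← hAP]; exact hPT t ht _
  have hcdA : β c (A d) = β d (A c) := by
    have h := hAself d c
    rw [hcP, hdP] at h
    rw [S.symm c (A d), h]
  have hAc : A c = em (0, 0, x, z) := by
    obtain ⟨p, hp⟩ := hspan (A c)
    obtain ⟨b1, b2, b3, b4⟩ := hb p
    rw [← hp, (hAt t₁ ht₁).1] at b1
    rw [← hp, (hAt t₂ ht₂).1] at b2
    rw [← hp] at b3 b4
    rw [b3] at hz
    rw [b4] at hx
    rw [hp]
    congr 1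
    refine Prod.ext (hinj ?_) (Prod.ext (hinj ?_) (Prod.ext (hinj ?_) (hinj ?_)))
    · rw [map_zero]; exact (mul_eq_zero.1 b1.symm).resolve_right hε0
    · rw [map_zero]; exact (mul_eq_zero.1 b2.symm).resolve_right hε0
    · rw [hx]; linear_combination (-(ι p.2.2.1)) * hε2
    · rw [hz]; linear_combination (-(ι p.2.2.2)) * hε2
  have hAd : A d = em (0, 0, y, x) := by
    obtain ⟨p, hp⟩ := hspan (A d)
    obtain ⟨b1, b2, b3, b4⟩ := hb p
    rw [← hp, (hAt t₁ ht₁).2] at b1
    rw [← hp, (hAt t₂ ht₂).2] at b2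
    rw [← hp] at b3 b4
    rw [← hcdA, b3] at hx
    rw [b4] at hy
    rw [hp]
    congr 1
    refine Prod.ext (hinj ?_) (Prod.ext (hinj ?_) (Prod.ext (hinj ?_) (hinj ?_)))
    · rw [map_zero]; exact (mul_eq_zero.1 b1.symm).resolve_right hε0
    · rw [map_zero]; exact (mul_eq_zero.1 b2.symm).resolve_right hε0
    · rw [hy]; linear_combination (-(ι p.2.2.1)) * hε2
    · rw [hx]; linear_combination (-(ι p.2.2.2)) * hε2
  have hPem : ∀ p, P (em p) = ι p.2.2.1 • c + ι p.2.2.2 • d := fun p => by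
    simp only [em, map_add, map_smul, LinearMap.mem_ker.1 ht₁, LinearMap.mem_ker.1 ht₂, hcP, hdP, smul_zero,
      zero_add]
  have hAR : ∀ a b : ZMod 3, A (ι a • c + ι b • d) =
      ι (x * a + y * b) • c + ι (z * a + x * b) • d := fun a b => by
    rw [map_add, map_smul, map_smul, hAc, hAd]
    simp only [em, map_zero, zero_smul, zero_add, map_add, map_mul]
    module
  have hgf : Rep (gf x y z) := ⟨g, hg, fun v => by
    rw [hgz]
    simp only [emb, hPem, hAR]
    refine Prod.ext ?_ ?_ <;>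
    · simp only [gf, em, map_sub, map_add, map_mul]
      module⟩
  have hgf0 : Rep (gf 0 y z) := by
    obtain ⟨m, hm, e⟩ := hmul _ _ (hmul _ _ (hul (-x)) hgf) (hul x)
    exact ⟨m, hm, fun v => by rw [e v, ← gf_shift x y z v]; rfl⟩
  have hrun : ∀ w, Rep (run y z w) := by
    intro w
    induction w with
    | nil => exact ⟨1, M.one_mem, fun v => rfl⟩
    | cons t w ih =>
      have ht : Rep (act y z t) := by
        cases t
        · exact hul 1
        · exact hll
        · exact hgf0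
        · exact hrA
        · exact hrB 1 (by decide)
        · exact hrB (-1) (by decide)
      exact hmul _ _ ht ih
  obtain ⟨m, hm, hme⟩ := hrun (word y z)
  obtain ⟨hst, hne⟩ := run_word y z
  have hstab : Stab m := fun u => by
    obtain ⟨p, rfl⟩ := hspan u
    have h1 : ∀ e ∈ unitQ, (m (em e, 0)).2 = 0 := fun e he => by
      have := hme (e, 0)
      simp only [emb, hem0] at this
      rw [this]
      show em _ = 0
      rw [hst e he, hem0]
    have e : ((em p, 0) : U × U) = ι p.1 • (em (1, 0, 0, 0), 0) + ι p.2.1 • (em (0, 1, 0, 0), 0) +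
        ι p.2.2.1 • (em (0, 0, 1, 0), 0) + ι p.2.2.2 • (em (0, 0, 0, 1), 0) := by
      refine Prod.ext ?_ (by simp)
      simp [em]
    rw [e]
    simp only [map_add, map_smul, Prod.snd_add, Prod.smul_snd]
    rw [h1 _ (by simp [unitQ]), h1 _ (by simp [unitQ]), h1 _ (by simp [unitQ]), h1 _ (by simp [unitQ])]
    simp
  obtain ⟨k, e', B, -, hB, -⟩ := S.stab_form hno hm hstab
  obtain ⟨k₀, rfl⟩ := hsur k
  obtain ⟨e₀, rfl⟩ := hsur e'
  obtain ⟨e, -, he⟩ := hne k₀ e₀
  have hA0 := hme (0, e)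
  have hA1 := hme (e, 0)
  simp only [emb, hem0, hB, map_zero, smul_zero, add_zero, zero_add, Prod.ext_iff] at hA0 hA1
  rcases he with he | he
  · exact he (heminj (by rw [hemsmul, ← hA1.1, ← hA0.2]))
  · exact he (heminj (by rw [hemsmul, ← hA0.1, ← hA0.2]))


/-- The same, from the relations of the quarter turn with the transvection. -/
theorem false_of_quarter_rel (hno : NoRad M) (hR : Rig β) (h3 : (3 : F) = 0)
    (hall : ∀ x : F, x = 0 ∨ x = 1 ∨ x = -1)
    (hd : finrank F U = 4) {P : U →ₗ[F] U} (hPidem : ∀ u, P (P u) = P u) (hPself : ∀ x y, β (P x) y = β x (P y))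
    (hker : finrank F (LinearMap.ker P) = 2) (hani : ∀ c ∈ LinearMap.ker P, c ≠ 0 → β c c ≠ 0)
    {g : (U × U) ≃ₗ[F] (U × U)} (hg : g ∈ M) (hfix : ∀ z : U × U, P z.1 = 0 → P z.2 = 0 → g z = z)
    (hcomm : ∀ z : U × U, g (P z.1, P z.2) = (P (g z).1, P (g z).2))
    (hneg : ∀ z : U × U, P z.1 = z.1 → P z.2 = z.2 → g⁻¹ z = -g z)
    (hquad : ∀ z, (rl (-1 : F) * g : (U × U) ≃ₗ[F] (U × U)) z + (rl (-1 : F) * g : (U × U) ≃ₗ[F] (U × U))⁻¹ z = z + z) :
    False := by
  let inR : U →ₗ[F] U × U := (LinearMap.inl F U U) ∘ₗ P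
  let A : U →ₗ[F] U := (LinearMap.fst F U U) ∘ₗ (g : U × U →ₗ[F] U × U) ∘ₗ inR
  have hAa : ∀ u, A u = (g (P u, 0)).1 := fun u => rfl
  have hPR : ∀ u, P (g (P u, 0)).1 = (g (P u, 0)).1 ∧ P (g (P u, 0)).2 = (g (P u, 0)).2 := fun u => by
    have h := hcomm (P u, 0)
    simp only [hPidem, map_zero] at h
    exact ⟨(congrArg Prod.fst h).symm, (congrArg Prod.snd h).symm⟩
  have hPR' : ∀ u, P (g (0, P u)).1 = (g (0, P u)).1 ∧ P (g (0, P u)).2 = (g (0, P u)).2 := fun u => by
    have h := hcomm (0, P u)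
    simp only [hPidem, map_zero] at h
    exact ⟨(congrArg Prod.fst h).symm, (congrArg Prod.snd h).symm⟩
  have hyi : ∀ z, (rl (-1 : F) * g : (U × U) ≃ₗ[F] (U × U))⁻¹ z = g⁻¹ (rl (1 : F) z) := fun z => by
    have e : (rl (-1 : F) * g : (U × U) ≃ₗ[F] (U × U))⁻¹ = g⁻¹ * rl (1 : F) :=
      inv_eq_of_mul_eq_one_right (by
        rw [mul_assoc, mul_inv_cancel_left, rl_mul, neg_add_cancel, rl_zero])
    rw [e]; rfl
  have hB : ∀ u, (g (P u, 0)).2 = P u := fun u => by
    have h := congrArg Prod.fst (hquad (P u, 0))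
    rw [hyi, rl_apply, smul_zero, add_zero, hneg (P u, 0) (hPidem u) (map_zero P)] at h
    simp only [LinearEquiv.mul_apply, rl_apply, Prod.fst_add, Prod.fst_neg, neg_smul, one_smul] at h
    rw [← sub_eq_zero]
    calc (g (P u, 0)).2 - P u = -((g (P u, 0)).1 + -(g (P u, 0)).2 + -(g (P u, 0)).1 - (P u + P u)) -
        (3 : F) • P u := by module
      _ = 0 := by rw [h, sub_self, neg_zero, h3, zero_smul, sub_zero]
  have hD : ∀ u, (g (0, P u)).2 = -A u := fun u => by
    have h := congrArg Prod.fst (hquad (0, P u))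
    rw [hyi, rl_apply, one_smul, zero_add, hneg (P u, P u) (hPidem u) (hPidem u),
      show ((P u, P u) : U × U) = (P u, 0) + (0, P u) by simp, map_add] at h
    simp only [LinearEquiv.mul_apply, rl_apply, Prod.fst_add, Prod.fst_neg, neg_smul, one_smul, add_zero] at h
    rw [← sub_eq_zero, sub_neg_eq_add, hAa]
    calc (g (0, P u)).2 + (g (P u, 0)).1 =
        -((g (0, P u)).1 + -(g (0, P u)).2 + -((g (P u, 0)).1 + (g (0, P u)).1)) := by module
      _ = 0 := by rw [h, neg_zero]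
  have hgg : ∀ u, g (g (P u, 0)) = -((P u, 0) : U × U) := fun u => by
    have h := hneg (g (P u, 0)) (hPR u).1 (hPR u).2
    rw [show g⁻¹ (g (P u, 0)) = (P u, 0) from g.symm_apply_apply _] at h
    exact eq_neg_of_add_eq_zero_left (by rw [add_comm]; exact eq_neg_iff_add_eq_zero.1 h)
  have hAP : ∀ r, P (A r) = A r := fun r => (hPR r).1
  have hAi : ∀ r, A (P r) = A r := fun r => by rw [hAa, hAa, hPidem]
  have hC : ∀ u, (g (0, P u)).1 = -P u - A (A u) := fun u => by
    have h := congrArg Prod.fst (hgg u)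
    rw [show g (P u, 0) = (P (A u), 0) + (0, P u) by
      rw [hAP, Prod.mk_add_mk, add_zero, zero_add]; exact Prod.ext rfl (hB u), map_add, Prod.fst_add, ← hAa] at h
    simp only [Prod.fst_neg] at h
    rw [← h]; abel
  refine S.false_of_quarter hno hR h3 hall hd hPidem hPself hker hani hg A (fun r => hAP _) (fun r s => ?_)
    (fun z => ?_)
  · have h := S.iso g hg (P r, 0) (P s, 0)
    simp only [om, map_zero, LinearMap.zero_apply, sub_self, hB, ← hAa] at h
    rw [hAi, hAi]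
    exact sub_eq_zero.1 h
  · have e : z = (z.1 - P z.1, z.2 - P z.2) + ((P z.1, 0) + (0, P z.2)) := by simp
    conv_lhs => rw [e]
    rw [map_add, map_add, hfix _ (by simp [hPidem]) (by simp [hPidem])]
    refine Prod.ext ?_ ?_
    · simp only [Prod.fst_add, hC, hAi, ← hAa, hAP]; abel
    · simp only [Prod.snd_add, hB, hD, hAi]; abel

end Setup

end Cfsg.Agent.Lib.SpOTensor
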