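import Cfsg.Agent.Lib.SpOTensor.Pairs
import Cfsg.Agent.Lib.SpOTensor.Algebra


/-!
Two conjugate transvection groups with a large common fixed space: the transfer argument.
-/

set_option autoImplicit false
set_option linter.unusedSectionVars false

namespace Cfsg.Agent.Lib.SpOTensor

open Module Polynomial
open scoped Pointwise

variable {F U : Type*} [Field F] [AddCommGroup U] [Module F U]
  {β : LinearMap.BilinForm F U} {M : Subgroup ((U × U) ≃ₗ[F] (U × U))}

/-- The nilpotent part of the transvection. -/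
def NE : Module.End F (U × U) := (LinearMap.inl F U U).comp (LinearMap.snd F U U)

@[simp] theorem NE_apply (z : U × U) : (NE : Module.End F (U × U)) z = (z.2, 0) := rfl

theorem NE_sq : (NE : Module.End F (U × U)) * NE = 0 := LinearMap.ext fun z => by simp

theorem rl_eq (l : F) (z : U × U) : rl l z = z + l • (NE : Module.End F (U × U)) z := by
  exact Prod.ext rfl (by simp)

variable (g' : (U × U) ≃ₗ[F] (U × U))

/-- The conjugate of the nilpotent part. -/
def NC : Module.End F (U × U) := g'.toLinearMap * NE * g'.symm.toLinearMap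

theorem NC_apply (z : U × U) : NC g' z = g' ((g'.symm z).2, 0) := rfl

theorem NC_sq : NC g' * NC g' = 0 := LinearMap.ext fun z => by
  simp only [Module.End.mul_apply, NC_apply, LinearEquiv.symm_apply_apply, LinearMap.zero_apply]
  exact g'.map_zero

/-- The anticommutator. -/
def Del : Module.End F (U × U) := NE * NC g' + NC g' * NE

theorem Del_apply (z : U × U) :
    Del g' z = (NE : Module.End F (U × U)) (NC g' z) + NC g' ((NE : Module.End F (U × U)) z) := rfl

theorem Del_NE : Commute (Del g') NE := by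
  show _ * _ = _ * _
  rw [Del, add_mul, mul_add, mul_assoc (NC g') NE NE, NE_sq, mul_zero, add_zero, ← mul_assoc NE NE (NC g'),
    NE_sq, zero_mul, zero_add, mul_assoc]

theorem Del_NC : Commute (Del g') (NC g') := by
  show _ * _ = _ * _
  rw [Del, add_mul, mul_add, mul_assoc NE (NC g') (NC g'), NC_sq, mul_zero, zero_add,
    ← mul_assoc (NC g') (NC g') NE, NC_sq, zero_mul, add_zero, mul_assoc]

/-- No transvection of the conjugate plane commutes with one of the plane. -/
def Far (g : (U × U) ≃ₗ[F] (U × U)) : Prop :=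
  ∀ m l : F, m ≠ 0 → l ≠ 0 → ¬ Commute (g * rl m * g⁻¹) (rl l)

/-- The group generated by the two transvection groups. -/
def pairGrp : Subgroup ((U × U) ≃ₗ[F] (U × U)) := X0 ⊔ X0.map (MulAut.conj g').toMonoidHom

theorem X0_le_pairGrp : X0 ≤ pairGrp g' := le_sup_left

theorem conj_mem_pairGrp (l : F) : g' * rl l * g'⁻¹ ∈ pairGrp g' :=
  Subgroup.mem_sup_right ⟨rl l, rl_mem_X0 l, rfl⟩

theorem conj_rl_apply (l : F) (z : U × U) :
    (g' * rl l * g'⁻¹ : (U × U) ≃ₗ[F] (U × U)) z = z + l • NC g' z := by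
  rw [LinearEquiv.mul_apply, LinearEquiv.mul_apply, rl_eq, map_add, map_smul]
  rw [show g' (g'⁻¹ z) = z from g'.apply_symm_apply z]
  rfl

theorem pairGrp_commute_Del {g : (U × U) ≃ₗ[F] (U × U)} (hg : g ∈ pairGrp g') (z : U × U) :
    Del g' (g z) = g (Del g' z) := by
  let C : Subgroup ((U × U) ≃ₗ[F] (U × U)) :=
    { carrier := {g | ∀ z, Del g' (g z) = g (Del g' z)}
      one_mem' := fun z => rfl
      mul_mem' := fun {a b} (ha : ∀ z, _) (hb : ∀ z, _) z => by
        rw [LinearEquiv.mul_apply, LinearEquiv.mul_apply, ha, hb]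
      inv_mem' := fun {a} (ha : ∀ z, _) z => a.injective (by
        rw [← ha]
        simp [show ∀ w, a (a⁻¹ w) = w from a.apply_symm_apply]) }
  have h : pairGrp g' ≤ C := by
    refine sup_le ?_ ?_
    · rintro _ ⟨l, rfl⟩ z
      rw [rl_eq, rl_eq, map_add, map_smul, ← Module.End.mul_apply, (Del_NE g').eq, Module.End.mul_apply]
    · rintro _ ⟨_, ⟨l, rfl⟩, rfl⟩ z
      simp only [MulEquiv.coe_toMonoidHom, MulAut.conj_apply]
      rw [conj_rl_apply, conj_rl_apply, map_add, map_smul, ← Module.End.mul_apply, (Del_NC g').eq,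
        Module.End.mul_apply]
  exact h hg z

theorem pairGrp_fix {T : Submodule F U} (hT : ∀ u ∈ T, g' (u, 0) = (u, 0))
    {g : (U × U) ≃ₗ[F] (U × U)} (hg : g ∈ pairGrp g') {u : U} (hu : u ∈ T) : g (u, 0) = (u, 0) := by
  let C : Subgroup ((U × U) ≃ₗ[F] (U × U)) :=
    { carrier := {g | ∀ u ∈ T, g (u, 0) = (u, 0)}
      one_mem' := fun u _ => rfl
      mul_mem' := fun {a b} (ha : ∀ u ∈ T, _) (hb : ∀ u ∈ T, _) u hu => by
        rw [LinearEquiv.mul_apply, hb u hu, ha u hu]
      inv_mem' := fun {a} (ha : ∀ u ∈ T, _) u hu => a.injective (by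
        rw [show a (a⁻¹ (u, (0 : U))) = (u, 0) from a.apply_symm_apply _, ha u hu]) }
  have h : pairGrp g' ≤ C := by
    refine sup_le ?_ ?_
    · rintro _ ⟨l, rfl⟩ u _
      simp
    · rintro _ ⟨_, ⟨l, rfl⟩, rfl⟩ u hu
      simp only [MulEquiv.coe_toMonoidHom, MulAut.conj_apply]
      rw [conj_rl_apply, NC_apply, show g'.symm (u, 0) = (u, 0) from g'.symm_apply_eq.2 (hT u hu).symm,
        show ((0 : U), (0 : U)) = (0 : U × U) from rfl, map_zero, smul_zero, add_zero]
  exact h hg u hu

theorem Del_fix {T : Submodule F U} (hT : ∀ u ∈ T, g' (u, 0) = (u, 0)) {u : U} (hu : u ∈ T) :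
    Del g' (u, 0) = 0 := by
  rw [Del_apply, NC_apply, show g'.symm (u, 0) = (u, 0) from g'.symm_apply_eq.2 (hT u hu).symm,
    show ((0 : U), (0 : U)) = (0 : U × U) from rfl, map_zero, map_zero,
    show (NE : Module.End F (U × U)) (u, 0) = 0 from by simp, map_zero, add_zero]

theorem commute_aeval {R : Type*} [Ring R] [Algebra F R] {a x : R} (h : Commute a x) (π : F[X]) :
    Commute a (aeval x π) := by
  induction π using Polynomial.induction_on' with
  | add p q hp hq => rw [map_add]; exact hp.add_right hq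
  | monomial n c => rw [aeval_monomial]; exact (Algebra.commute_algebraMap_right c a).mul_right (h.pow_right n)

/-- The kernel of an irreducible factor of the anticommutator. -/
noncomputable def eigSp (π : F[X]) : Submodule F (U × U) := LinearMap.ker (aeval (Del g') π)

theorem eigSp_stable {π : F[X]} {g : (U × U) ≃ₗ[F] (U × U)} (hg : g ∈ pairGrp g') {w : U × U}
    (hw : w ∈ eigSp g' π) : g w ∈ eigSp g' π := by
  have hc : Commute (g : Module.End F (U × U)) (Del g') :=
    LinearMap.ext fun z => (pairGrp_commute_Del g' hg z).symm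
  have h := LinearMap.congr_fun (commute_aeval hc π).eq w
  rw [eigSp, LinearMap.mem_ker] at hw ⊢
  simp only [Module.End.mul_apply, hw, map_zero] at h
  exact h.symm

/-- The action on the kernel. -/
noncomputable def eigHom (π : F[X]) : pairGrp g' →* Module.End F (eigSp g' π) where
  toFun g := (g.1.toLinearMap).restrict fun _ hw => eigSp_stable g' g.2 hw
  map_one' := LinearMap.ext fun _ => rfl
  map_mul' _ _ := LinearMap.ext fun _ => rfl

theorem eigHom_apply (π : F[X]) (g : pairGrp g') (w : eigSp g' π) :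
    ((eigHom g' π g w : eigSp g' π) : U × U) = g.1 (w : U × U) := rfl

theorem smul_mem_eigSp_Del {π : F[X]} {w : U × U} (hw : w ∈ eigSp g' π) : Del g' w ∈ eigSp g' π := by
  have h := LinearMap.congr_fun (commute_aeval (Commute.refl (Del g')) π).eq w
  rw [eigSp, LinearMap.mem_ker] at hw ⊢
  simp only [Module.End.mul_apply, hw, map_zero] at h
  exact h.symm

namespace Setup

variable (S : Setup β M)
include S

/-- A unipotent isometry fixing a hyperplane pointwise is trivial. -/
theorem eq_one_of_hyperplane {A : U ≃ₗ[F] U} (hA : ∀ x y, β (A x) (A y) = β x y) {n : U →ₗ[F] U}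
    (hn : ∀ x, A x = x + n x) {k : ℕ} (hnil : n ^ k = 0) (hK : finrank F U ≤ finrank F (LinearMap.ker n) + 1) :
    n = 0 := by
  haveI := S.finiteDimensional
  by_contra hne
  obtain ⟨x₀, hx₀⟩ : ∃ x, n x ≠ 0 := by
    by_contra h
    push Not at h
    exact hne (LinearMap.ext h)
  set v := n x₀ with hv
  have hrk : LinearMap.range n = F ∙ v := by
    symm
    refine Submodule.eq_of_le_of_finrank_le ((Submodule.span_singleton_le_iff_mem _ _).2 ⟨x₀, rfl⟩) ?_
    rw [finrank_span_singleton hx₀]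
    have := n.finrank_range_add_finrank_ker
    omega
  have hφ : ∀ x, ∃ t : F, n x = t • v := fun x => by
    obtain ⟨t, ht⟩ := Submodule.mem_span_singleton.1 (hrk ▸ ⟨x, rfl⟩ : n x ∈ F ∙ v)
    exact ⟨t, ht.symm⟩
  have hnv : n v = 0 := by
    obtain ⟨t, ht⟩ := hφ v
    have hp : ∀ j : ℕ, (n ^ j) v = t ^ j • v := by
      intro j
      induction j with
      | zero => simp
      | succ j ih => rw [pow_succ', Module.End.mul_apply, ih, map_smul, ht, smul_smul, ← pow_succ]
    have h := hp k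
    rw [hnil, LinearMap.zero_apply, eq_comm, smul_eq_zero] at h
    have ht0 : t = 0 := pow_eq_zero_iff'.1 (h.resolve_right hx₀) |>.1
    rw [ht, ht0, zero_smul]
  have hQ : β v v = 0 := by
    have h := hA v x₀
    rw [hn, hn, hnv, add_zero, map_add, ← hv] at h
    linear_combination h
  have hall : ∀ x, β x v = 0 := by
    have h1 : ∀ x t, n x = t • v → t * β x v = 0 := by
      intro x t ht
      have h := hA x x
      rw [hn, ht] at h
      simp only [map_add, LinearMap.add_apply, map_smul, LinearMap.smul_apply, smul_eq_mul, hQ, S.symm v x] at h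
      have h2 : (2 : F) * (t * β x v) = 0 := by linear_combination h
      exact (mul_eq_zero.mp h2).resolve_left S.two
    have h0 : β x₀ v = 0 := by simpa using h1 x₀ 1 (by rw [one_smul])
    intro x
    obtain ⟨t, ht⟩ := hφ x
    by_cases ht0 : t = 0
    · have h := h1 (x + x₀) 1 (by rw [map_add, ht, ht0, zero_smul, zero_add, one_smul])
      simpa [h0] using h
    · exact (mul_eq_zero.mp (h1 x t ht)).resolve_left ht0
  exact hx₀ (S.nondeg v fun x => by rw [S.symm]; exact hall x)

variable {g'} {T : Submodule F U}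

theorem pairGrp_le (hg : g' ∈ M) : pairGrp g' ≤ M := by
  refine sup_le S.X0_le ?_
  rintro _ ⟨_, ⟨l, rfl⟩, rfl⟩
  exact M.mul_mem (M.mul_mem hg (S.rl_mem l)) (M.inv_mem hg)

/-- The pair group is not a `p`-group. -/
theorem not_nilpotent [Finite ((U × U) ≃ₗ[F] (U × U))] (hno : NoRad M) (hg : g' ∈ M) (hns : Far g')
    (hT : ∀ u ∈ T, g' (u, 0) = (u, 0)) (hTd : finrank F U ≤ finrank F T + 2)
    {p : ℕ} [CharP F p] [Fact p.Prime] : ¬ IsNilpotent (Del g') := by
  intro hnil
  obtain ⟨J, hJ⟩ := exists_flag_eq_bot NE_sq (NC_sq g') hnil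
  have hle : pairGrp g' ≤ flagFix NE (NC g') := by
    refine sup_le ?_ ?_
    · rintro _ ⟨l, rfl⟩ j x hx
      rw [rl_eq, add_sub_cancel_left]
      exact Submodule.mem_sup_left (Submodule.smul_mem _ _ (Submodule.mem_map_of_mem hx))
    · rintro _ ⟨_, ⟨l, rfl⟩, rfl⟩ j x hx
      simp only [MulEquiv.coe_toMonoidHom, MulAut.conj_apply]
      rw [conj_rl_apply, add_sub_cancel_left]
      exact Submodule.mem_sup_right (Submodule.smul_mem _ _ (Submodule.mem_map_of_mem hx))
  have hP : IsPGroup p (pairGrp g') := (isPGroup_flagFix hJ).to_le hle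
  exact hns 1 1 one_ne_zero one_ne_zero (S.comm_of_pgroup hno (S.pairGrp_le hg) hP (X0_le_pairGrp g')
    hTd (fun z hz _ hu => pairGrp_fix g' hT hz hu) (conj_mem_pairGrp g' 1) 1)

/-- An irreducible factor away from zero. -/
theorem exists_factor [Finite ((U × U) ≃ₗ[F] (U × U))] (hno : NoRad M) (hg : g' ∈ M) (hns : Far g')
    (hT : ∀ u ∈ T, g' (u, 0) = (u, 0)) (hTd : finrank F U ≤ finrank F T + 2)
    {p : ℕ} [CharP F p] [Fact p.Prime] :
    ∃ π : F[X], Irreducible π ∧ π.eval 0 ≠ 0 ∧ eigSp g' π ≠ ⊥ := by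
  haveI := S.finiteDimensional
  by_contra hno'
  push Not at hno'
  have hμ0 : minpoly F (Del g') ≠ 0 := minpoly.ne_zero (Algebra.IsIntegral.isIntegral _)
  obtain ⟨n, hn⟩ := dvd_pow_of_factors (R := (X : F[X])) (fun π hπ hdvd => by
    by_cases h0 : π.eval 0 = 0
    · rw [← coeff_zero_eq_eval_zero] at h0
      exact (irreducible_X.dvd_symm hπ (X_dvd_iff.2 h0))
    exfalso
    have hker := hno' π hπ h0
    obtain ⟨c, hc⟩ := hdvd
    have hinj : Function.Injective (aeval (Del g') π) := LinearMap.ker_eq_bot.1 hker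
    have hzero : aeval (Del g') c = 0 := LinearMap.ext fun z => hinj (by
      rw [← Module.End.mul_apply, ← map_mul, ← hc, minpoly.aeval]; simp)
    have h1 := minpoly.dvd F (Del g') hzero
    have h2 : c ≠ 0 := fun e => hμ0 (by rw [hc, e, mul_zero])
    have h3 := natDegree_le_of_dvd h1 h2
    rw [hc, natDegree_mul hπ.ne_zero h2] at h3
    have := hπ.natDegree_pos
    omega) hμ0
  exact S.not_nilpotent hno hg hns hT hTd (p := p) ⟨n, by
    obtain ⟨c, hc⟩ := hn
    have := congrArg (aeval (Del g')) hc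
    rwa [map_pow, aeval_X, map_mul, minpoly.aeval, zero_mul] at this⟩

/-- The transvection group is a full `p`-subgroup of the pair group. -/
theorem pgroup_le_X0 [Finite ((U × U) ≃ₗ[F] (U × U))] (hno : NoRad M) (hg : g' ∈ M) (hns : Far g')
    (hT : ∀ u ∈ T, g' (u, 0) = (u, 0)) (hTd : finrank F U ≤ finrank F T + 2)
    {p : ℕ} [CharP F p] [Fact p.Prime] {P : Subgroup ((U × U) ≃ₗ[F] (U × U))}
    (hPG : P ≤ pairGrp g') (hP : IsPGroup p P) (hX : X0 ≤ P) : P ≤ X0 := by
  haveI := S.finiteDimensional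
  haveI := S.nontrivial
  intro z hz
  have hzM := S.pairGrp_le hg (hPG hz)
  obtain ⟨e, A, hA, hiso⟩ := S.form_of_comm hno hzM one_ne_zero
    (S.comm_of_pgroup hno (hPG.trans (S.pairGrp_le hg)) hP hX hTd
      (fun z hz _ hu => pairGrp_fix g' hT (hPG hz) hu) hz 1)
  obtain ⟨k, hk⟩ := hP ⟨z, hz⟩
  have hk' : z ^ p ^ k = 1 := congrArg Subtype.val hk
  let n : U →ₗ[F] U := A.toLinearMap - LinearMap.id
  have hn : ∀ x, A x = x + n x := fun x => by simp [n]
  have hAk : (A.toLinearMap : Module.End F U) ^ p ^ k = 1 := by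
    have hpow : ∀ (j : ℕ) (u : U), (z ^ j) (u, 0) = (((A.toLinearMap : Module.End F U) ^ j) u, 0) := by
      intro j
      induction j with
      | zero => intro u; simp
      | succ j ih =>
        intro u
        rw [pow_succ', LinearEquiv.mul_apply, ih, hA]
        simp [pow_succ']
    refine LinearMap.ext fun u => ?_
    have := hpow (p ^ k) u
    rw [hk'] at this
    exact (congrArg Prod.fst this).symm
  haveI : CharP (Module.End F U) p := charP_of_injective_algebraMap (algebraMap F (Module.End F U)).injective p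
  have hnil : (n : Module.End F U) ^ p ^ k = 0 := by
    have h := sub_pow_char_pow_of_commute (R := Module.End F U) p k
      (Commute.one_right (A.toLinearMap : Module.End F U))
    rw [one_pow, hAk, sub_self] at h
    exact h
  obtain ⟨π, hπ, hπ0, hW⟩ := S.exists_factor hno hg hns hT hTd (p := p)
  let W' : Submodule F U := (eigSp g' π).comap (LinearMap.inl F U U)
  have hW'A : ∀ q ∈ W', n q ∈ W' := fun q hq => by
    have h1 : z (q, 0) ∈ eigSp g' π := eigSp_stable g' (hPG hz) hq
    rw [hA] at h1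
    have h3 := (eigSp g' π).sub_mem h1 (show ((q, 0) : U × U) ∈ eigSp g' π from hq)
    show ((n q, 0) : U × U) ∈ eigSp g' π
    convert h3 using 1
    exact Prod.ext (by simp [n]) (by simp)
  have hW'0 : ∃ q ∈ W', q ≠ 0 := by
    obtain ⟨w, hw, hw0⟩ := Submodule.exists_mem_ne_zero_of_ne_bot hW
    by_contra hall
    push Not at hall
    have hNE : ∀ w ∈ eigSp g' π, (NE : Module.End F (U × U)) w = 0 := fun w hw => by
      have h1 : (NE : Module.End F (U × U)) w ∈ eigSp g' π := by
        have h := LinearMap.congr_fun (commute_aeval (Del_NE g').symm π).eq w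
        rw [eigSp, LinearMap.mem_ker] at hw ⊢
        simp only [Module.End.mul_apply, hw, map_zero] at h
        exact h.symm
      have := hall w.2 h1
      exact Prod.ext this rfl
    have h1 : NC g' w ∈ eigSp g' π := by
      have h := LinearMap.congr_fun (commute_aeval (Del_NC g').symm π).eq w
      rw [eigSp, LinearMap.mem_ker] at hw ⊢
      simp only [Module.End.mul_apply, hw, map_zero] at h
      exact h.symm
    have hD : Del g' w = (0 : F) • w := by
      rw [Del_apply, hNE _ h1, hNE w hw, map_zero, add_zero, zero_smul]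
    rw [eigSp, LinearMap.mem_ker, Module.End.aeval_apply_of_mem_apply_eq_smul hD, smul_eq_zero] at hw
    exact hw0 (hw.resolve_left hπ0)
  -- a fixed vector outside `T`
  obtain ⟨q, hq, hq0, hnq⟩ : ∃ q ∈ W', q ≠ 0 ∧ n q = 0 := by
    obtain ⟨q, hq, hq0⟩ := hW'0
    have : ∀ j : ℕ, ∀ q ∈ W', q ≠ 0 → (n ^ j) q = 0 → ∃ r ∈ W', r ≠ 0 ∧ n r = 0 := by
      intro j
      induction j with
      | zero => intro q _ h0 h; exact absurd (by simpa using h) h0
      | succ j ih =>
        intro q hq h0 h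
        by_cases hz : n q = 0
        · exact ⟨q, hq, h0, hz⟩
        · exact ih (n q) (hW'A q hq) hz (by rwa [pow_succ, Module.End.mul_apply] at h)
    exact this (p ^ k) q hq hq0 (by rw [hnil, LinearMap.zero_apply])
  have hqT : q ∉ T := fun h => by
    have hq' : ((q, 0) : U × U) ∈ eigSp g' π := hq
    have hD : Del g' (q, 0) = (0 : F) • ((q, 0) : U × U) := by rw [Del_fix g' hT h, zero_smul]
    rw [eigSp, LinearMap.mem_ker, Module.End.aeval_apply_of_mem_apply_eq_smul hD, smul_eq_zero] at hq'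
    exact hq0 (congrArg Prod.fst (hq'.resolve_left hπ0))
  have hker : T ⊔ F ∙ q ≤ LinearMap.ker n := by
    refine sup_le (fun u hu => ?_) ((Submodule.span_singleton_le_iff_mem _ _).2 hnq)
    have h := pairGrp_fix g' hT (hPG hz) hu
    rw [hA] at h
    have h1 := congrArg Prod.fst h
    simp [hn] at h1
    exact h1
  have hn0 : n = 0 := S.eq_one_of_hyperplane hiso hn hnil (by
    have h1 := Submodule.finrank_mono hker
    have h3 : finrank F T < finrank F ↥(T ⊔ F ∙ q) := Submodule.finrank_lt_finrank_of_lt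
      (lt_of_le_of_ne le_sup_left fun e => hqT (e ▸ Submodule.mem_sup_right (Submodule.mem_span_singleton_self q)))
    omega)
  refine ⟨e, LinearEquiv.ext fun w => ?_⟩
  simp [hA, hn, hn0]

/-- The normaliser of the transvection group in the pair group centralises it. -/
theorem normalizer_le_centralizer [Finite ((U × U) ≃ₗ[F] (U × U))] (hno : NoRad M) (hg : g' ∈ M) (hT : ∀ u ∈ T, g' (u, 0) = (u, 0))
    (hTd : finrank F U ≤ finrank F T + 2) {n : (U × U) ≃ₗ[F] (U × U)} (hn : n ∈ pairGrp g')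
    (hX : n * rl 1 * n⁻¹ ∈ (X0 : Subgroup ((U × U) ≃ₗ[F] (U × U)))) (l : F) : Commute n (rl l) := by
  haveI := S.nontrivial
  obtain ⟨e, he⟩ := hX
  rw [mul_inv_eq_iff_eq_mul] at he
  have hs : Stab n := by
    intro p
    have h := congrArg (fun f : (U × U) ≃ₗ[F] (U × U) => f (0, p)) he
    simp only [LinearEquiv.mul_apply, rl_apply, zero_add, one_smul] at h
    rw [show ((p, p) : U × U) = (p, 0) + (0, p) by simp, map_add] at h
    simpa using congrArg Prod.snd h
  obtain ⟨c, d, A, hc0, hA, hiso⟩ := S.stab_form hno (S.pairGrp_le hg hn) hs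
  suffices hc1 : c = 1 from comm_of_form (e := d) (A := A) (fun z => by rw [hA, hc1, one_smul]) l
  haveI := S.finiteDimensional
  obtain ⟨u, hu, hu0⟩ := Submodule.exists_mem_ne_zero_of_ne_bot (p := T) fun e => by
    rw [e, finrank_bot] at hTd
    have := S.three; omega
  by_contra hc1
  obtain ⟨k, hk, hk1⟩ := ((LinearMap.eventually_isCompl_ker_pow_range_pow (Del g')).and
    (Filter.eventually_ge_atTop 1)).exists
  obtain ⟨π, hπ⟩ : ∃ π : F[X], π = X ^ k := ⟨_, rfl⟩
  have hV : eigSp g' π = LinearMap.ker (Del g' ^ k) := by rw [eigSp, hπ, map_pow, aeval_X]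
  have hst : ∀ T' : Module.End F (U × U), Commute (Del g') T' → ∀ w ∈ eigSp g' π, T' w ∈ eigSp g' π := by
    intro T' hT' w hw
    have h := LinearMap.congr_fun (commute_aeval hT'.symm π).eq w
    rw [eigSp, LinearMap.mem_ker] at hw ⊢
    simp only [Module.End.mul_apply, hw, map_zero] at h
    exact h.symm
  obtain ⟨N₁, hN₁⟩ : ∃ N₁ : Module.End F (eigSp g' π),
      N₁ = (NE : Module.End F (U × U)).restrict (hst _ (Del_NE g')) := ⟨_, rfl⟩
  obtain ⟨N₂, hN₂⟩ : ∃ N₂ : Module.End F (eigSp g' π), N₂ = (NC g').restrict (hst _ (Del_NC g')) := ⟨_, rfl⟩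
  have hN₁ap : ∀ w : eigSp g' π, ((N₁ w : eigSp g' π) : U × U) = (NE : Module.End F (U × U)) w := fun w => by
    rw [hN₁]; rfl
  have hN₂ap : ∀ w : eigSp g' π, ((N₂ w : eigSp g' π) : U × U) = NC g' w := fun w => by rw [hN₂]; rfl
  have hsq₁ : N₁ * N₁ = 0 := LinearMap.ext fun w => Subtype.ext (by
    rw [Module.End.mul_apply, hN₁ap, hN₁ap, ← Module.End.mul_apply, NE_sq]; rfl)
  have hsq₂ : N₂ * N₂ = 0 := LinearMap.ext fun w => Subtype.ext (by
    rw [Module.End.mul_apply, hN₂ap, hN₂ap, ← Module.End.mul_apply, NC_sq g']; rfl)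
  have hnil : IsNilpotent (N₁ * N₂ + N₂ * N₁) := by
    refine ⟨k, LinearMap.ext fun w => Subtype.ext ?_⟩
    have hpow : ∀ j : ℕ, ((((N₁ * N₂ + N₂ * N₁) ^ j) w : eigSp g' π) : U × U) = (Del g' ^ j) (w : U × U) := by
      intro j
      induction j with
      | zero => simp
      | succ j ih =>
        rw [pow_succ', pow_succ', Module.End.mul_apply, Module.End.mul_apply, LinearMap.add_apply,
          Submodule.coe_add, Module.End.mul_apply, Module.End.mul_apply, hN₁ap, hN₂ap, hN₂ap, hN₁ap, ih,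
          Del_apply]
    rw [hpow]
    have hw := w.2
    simp only [hV, LinearMap.mem_ker] at hw
    exact hw
  obtain ⟨J, hJ⟩ := exists_flag_eq_bot hsq₁ hsq₂ hnil
  -- the pair group moves every layer into the next
  have hlayer : ∀ z : pairGrp g', ∀ j, ∀ x ∈ flag N₁ N₂ j, eigHom g' π z x - x ∈ flag N₁ N₂ (j + 1) := by
    let C : Submonoid (pairGrp g') :=
      { carrier := {z | ∀ j, ∀ x ∈ flag N₁ N₂ j, eigHom g' π z x - x ∈ flag N₁ N₂ (j + 1)}
        one_mem' := fun j x _ => by simp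
        mul_mem' := fun {a b} ha hb j x hx => by
          have h1 := hb j x hx
          have h3 := flag_succ_le N₁ N₂ (j + 1) (ha (j + 1) _ h1)
          rw [map_mul, Module.End.mul_apply]
          have e : eigHom g' π a (eigHom g' π b x) - x = (eigHom g' π a (eigHom g' π b x - x) -
              (eigHom g' π b x - x)) + (eigHom g' π a x - x) + (eigHom g' π b x - x) := by
            rw [map_sub]; abel
          rw [e]
          exact add_mem (add_mem h3 (ha j x hx)) h1 }
    have hinv : ∀ z ∈ C, z⁻¹ ∈ C := fun z hz => by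
      rw [inv_eq_of_mul_eq_one_right (b := z ^ (orderOf z - 1))
        (by rw [← pow_succ', Nat.sub_add_cancel (orderOf_pos z), pow_orderOf_eq_one])]
      exact pow_mem hz _
    let C' : Subgroup (pairGrp g') := { C with inv_mem' := fun {z} hz => hinv z hz }
    have hgen : pairGrp g' ≤ C'.map (pairGrp g').subtype := by
      refine sup_le ?_ ?_
      · rintro _ ⟨l, rfl⟩
        refine ⟨⟨rl l, X0_le_pairGrp g' (rl_mem_X0 l)⟩, fun j x hx => ?_, rfl⟩
        have e : eigHom g' π ⟨rl l, X0_le_pairGrp g' (rl_mem_X0 l)⟩ x - x = l • N₁ x := Subtype.ext (by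
          rw [Submodule.coe_sub, eigHom_apply, rl_eq, add_sub_cancel_left, Submodule.coe_smul, hN₁ap])
        rw [e]
        exact Submodule.mem_sup_left (Submodule.smul_mem _ _ (Submodule.mem_map_of_mem hx))
      · rintro _ ⟨_, ⟨l, rfl⟩, rfl⟩
        refine ⟨⟨g' * rl l * g'⁻¹, conj_mem_pairGrp g' l⟩, fun j x hx => ?_, rfl⟩
        have e : eigHom g' π ⟨g' * rl l * g'⁻¹, conj_mem_pairGrp g' l⟩ x - x = l • N₂ x := Subtype.ext (by
          rw [Submodule.coe_sub, eigHom_apply, conj_rl_apply, add_sub_cancel_left, Submodule.coe_smul, hN₂ap])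
        rw [e]
        exact Submodule.mem_sup_right (Submodule.smul_mem _ _ (Submodule.mem_map_of_mem hx))
    intro z
    obtain ⟨z', hz', e⟩ := hgen z.2
    rw [← show z' = z from Subtype.ext e]
    exact hz'
  -- a fixed vector in the image of the transvection
  have hcu : c • A u = u := by
    have h1 := pairGrp_fix g' hT hn hu
    rw [hA] at h1
    simpa using congrArg Prod.fst h1
  have hDt : Del g' ((u, 0) : U × U) = 0 := Del_fix g' hT hu
  have ht : ((u, 0) : U × U) ∈ eigSp g' π := by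
    rw [hV, LinearMap.mem_ker, ← Nat.sub_add_cancel hk1, pow_succ, Module.End.mul_apply, hDt, map_zero]
  obtain ⟨t, htd⟩ : ∃ t : eigSp g' π, t = ⟨(u, 0), ht⟩ := ⟨_, rfl⟩
  have htop : ∃ a ∈ flag N₁ N₂ 0, N₁ a = t := by
    obtain ⟨a₀, ha₀, a₁, ha₁, ha⟩ := Submodule.mem_sup.1
      (hk.sup_eq_top.ge (Submodule.mem_top (x := ((0, u) : U × U))))
    have ha₀' : a₀ ∈ eigSp g' π := hV ▸ ha₀
    refine ⟨⟨a₀, ha₀'⟩, Submodule.mem_top, Subtype.ext ?_⟩
    rw [hN₁ap, htd]
    have h1 : (NE : Module.End F (U × U)) a₁ ∈ LinearMap.range (Del g' ^ k) := by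
      obtain ⟨b, rfl⟩ := ha₁
      exact ⟨(NE : Module.End F (U × U)) b, (LinearMap.congr_fun ((Del_NE g').pow_left k).eq b)⟩
    have h3 : (NE : Module.End F (U × U)) a₀ + (NE : Module.End F (U × U)) a₁ = ((u, 0) : U × U) := by
      rw [← map_add, ha]; simp
    have h4 : (NE : Module.End F (U × U)) a₁ ∈ LinearMap.ker (Del g' ^ k) := by
      rw [eq_sub_of_add_eq' h3]
      exact Submodule.sub_mem _ (hV ▸ ht) (hV ▸ hst _ (Del_NE g') a₀ ha₀')
    rw [Submodule.disjoint_def.1 hk.disjoint _ h4 h1, add_zero] at h3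
    exact h3
  have hall : ∀ j, ∃ a ∈ flag N₁ N₂ j, N₁ a = t := by
    intro j
    induction j with
    | zero => exact htop
    | succ j ih =>
      obtain ⟨a, ha, hat⟩ := ih
      obtain ⟨b, hb⟩ : ∃ b, b = eigHom g' π ⟨n, hn⟩ a - a := ⟨_, rfl⟩
      have hbm : b ∈ flag N₁ N₂ (j + 1) := hb ▸ hlayer _ j a ha
      have hne : c⁻¹ - 1 ≠ 0 := sub_ne_zero.2 fun h => hc1 (inv_eq_one.1 h)
      refine ⟨(c⁻¹ - 1)⁻¹ • b, Submodule.smul_mem _ _ hbm, Subtype.ext ?_⟩
      have ha2 : (a : U × U).2 = u := by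
        have := congrArg (fun w : eigSp g' π => (w : U × U)) hat
        rw [hN₁ap, htd] at this
        simpa using congrArg Prod.fst this
      rw [map_smul, Submodule.coe_smul, hN₁ap, hb, Submodule.coe_sub, eigHom_apply, htd]
      have e : A u = c⁻¹ • u := by conv_rhs => rw [← hcu, smul_smul, inv_mul_cancel₀ hc0, one_smul]
      simp only [hA, ha2, e, NE_apply, Prod.snd_sub, Prod.smul_mk, smul_zero]
      rw [smul_sub, smul_smul, ← sub_smul, Prod.mk.injEq]
      refine ⟨?_, rfl⟩
      conv_rhs => rw [← one_smul F u]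
      congr 1
      field_simp
  obtain ⟨a, ha, hat⟩ := hall J
  rw [hJ, Submodule.mem_bot] at ha
  rw [ha, map_zero, htd] at hat
  exact hu0 (congrArg Prod.fst (congrArg (fun w : eigSp g' π => (w : U × U)) hat)).symm

/-- A normal `p`-complement of the pair group, as a homomorphism. -/
theorem exists_transfer [Finite ((U × U) ≃ₗ[F] (U × U))] (hno : NoRad M) (hg : g' ∈ M) (hns : Far g')
    (hT : ∀ u ∈ T, g' (u, 0) = (u, 0)) (hTd : finrank F U ≤ finrank F T + 2)
    {p : ℕ} [CharP F p] [Fact p.Prime] :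
    ∃ φ : pairGrp g' →* (X0 : Subgroup ((U × U) ≃ₗ[F] (U × U))),
      (∀ z : pairGrp g', (∃ k : ℕ, z ^ p ^ k = 1) → φ z = 1 → z = 1) ∧
      ∀ z : pairGrp g', (∃ k : ℕ, z ^ p ^ k = 1) → ∃ h : pairGrp g',
        ((h * z * h⁻¹ : pairGrp g') : (U × U) ≃ₗ[F] (U × U)) ∈ (X0 : Subgroup ((U × U) ≃ₗ[F] (U × U))) := by
  have hX0 : IsPGroup p (X0 : Subgroup ((U × U) ≃ₗ[F] (U × U))) := by
    rintro ⟨_, l, rfl⟩
    exact ⟨1, Subtype.ext (by simp [rl_pow, rl_zero])⟩
  let P₀ : Subgroup (pairGrp g') := X0.subgroupOf (pairGrp g')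
  have hP₀ : IsPGroup p P₀ := hX0.comap_of_injective _ (Subgroup.subtype_injective _)
  obtain ⟨P, hP⟩ := hP₀.exists_le_sylow
  have hPX : ∀ z ∈ (P : Subgroup (pairGrp g')), (z : (U × U) ≃ₗ[F] (U × U)) ∈
      (X0 : Subgroup ((U × U) ≃ₗ[F] (U × U))) := fun z hz =>
    S.pgroup_le_X0 hno hg hns hT hTd (P := (P : Subgroup (pairGrp g')).map (pairGrp g').subtype)
      (Subgroup.map_subtype_le _) (P.2.map _)
      (fun x hx => ⟨⟨x, X0_le_pairGrp g' hx⟩, hP (Subgroup.mem_subgroupOf.2 hx), rfl⟩) ⟨z, hz, rfl⟩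
  have hN : Subgroup.normalizer ((P : Subgroup (pairGrp g')) : Set (pairGrp g')) ≤
      Subgroup.centralizer ((P : Subgroup (pairGrp g')) : Set (pairGrp g')) := by
    intro n hn
    rw [Subgroup.mem_centralizer_iff]
    intro z hz
    obtain ⟨l, hl⟩ := hPX z hz
    have h1 : (⟨rl 1, X0_le_pairGrp g' (rl_mem_X0 1)⟩ : pairGrp g') ∈ (P : Subgroup (pairGrp g')) :=
      hP (Subgroup.mem_subgroupOf.2 (rl_mem_X0 1))
    have h2 := hPX _ ((Subgroup.mem_normalizer_iff.1 hn _).1 h1)
    refine Subtype.ext ?_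
    rw [Subgroup.coe_mul, Subgroup.coe_mul, hl]
    exact (S.normalizer_le_centralizer hno hg hT hTd n.2 h2 l).eq.symm
  let φ : pairGrp g' →* (X0 : Subgroup ((U × U) ≃ₗ[F] (U × U))) :=
    { toFun := fun z => ⟨_, hPX _ (MonoidHom.transferSylow P hN z).2⟩
      map_one' := Subtype.ext (by simp only [map_one]; rfl)
      map_mul' := fun a b => Subtype.ext (by simp only [map_mul]; rfl) }
  refine ⟨φ, fun z ⟨k, hk⟩ hz => ?_, fun z ⟨k, hk⟩ => ?_⟩
  · have hker : z ∈ (MonoidHom.transferSylow P hN).ker := Subtype.ext (Subtype.ext (congrArg Subtype.val hz :))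
    have hZp : IsPGroup p (Subgroup.zpowers z) := by
      rintro ⟨_, j, rfl⟩
      refine ⟨k, Subtype.ext ?_⟩
      rw [SubmonoidClass.coe_pow, OneMemClass.coe_one, ← zpow_natCast (z ^ j), ← zpow_mul, mul_comm, zpow_mul,
        zpow_natCast, hk, one_zpow]
    exact Subgroup.disjoint_def.1 (MonoidHom.ker_transferSylow_disjoint P hN _ hZp) hker
      (Subgroup.mem_zpowers z)
  · have hZp : IsPGroup p (Subgroup.zpowers z) := by
      rintro ⟨_, j, rfl⟩
      refine ⟨k, Subtype.ext ?_⟩
      rw [SubmonoidClass.coe_pow, OneMemClass.coe_one, ← zpow_natCast (z ^ j), ← zpow_mul, mul_comm, zpow_mul,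
        zpow_natCast, hk, one_zpow]
    obtain ⟨Q, hQ⟩ := hZp.exists_le_sylow
    obtain ⟨h, hh⟩ := MulAction.exists_smul_eq (pairGrp g') Q P
    refine ⟨h, hPX _ ?_⟩
    rw [← hh, Sylow.coe_subgroup_smul]
    exact Subgroup.smul_mem_pointwise_smul _ (MulAut.conj h) _ (hQ (Subgroup.mem_zpowers z))

end Setup

end Cfsg.Agent.Lib.SpOTensor
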