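import Cfsg.Agent.Lib.SpOTensor.Centralizer

/-!
An element fixing a pure isotropic plane pointwise yields a radical element by commutators.
-/

set_option autoImplicit false
set_option linter.unusedSectionVars false

namespace Cfsg.Agent.Lib.SpOTensor

open Module

variable {F U : Type*} [Field F] [AddCommGroup U] [Module F U]
  {β : LinearMap.BilinForm F U} {M : Subgroup ((U × U) ≃ₗ[F] (U × U))}

/-- The central part of the radical at the plane over `c`. -/
def cen (β : LinearMap.BilinForm F U) (c : U) (a b d : F) (z : U × U) : U × U :=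
  (a * om β z (c, 0) + b * om β z (0, c)) • ((c, 0) : U × U) +
    (b * om β z (c, 0) + d * om β z (0, c)) • ((0, c) : U × U)

/-- The Siegel part of the radical at the plane over `c`. -/
def sgl (β : LinearMap.BilinForm F U) (c : U) (h : F) (A₁ A₂ z : U × U) : U × U :=
  om β z A₂ • ((c, 0) : U × U) - om β z (0, c) • A₁ - (h * om β z (0, c)) • ((c, 0) : U × U) -
    om β z A₁ • ((0, c) : U × U) + om β z (c, 0) • A₂ + (h * om β z (c, 0)) • ((0, c) : U × U)

namespace Setup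

variable (S : Setup β M)
include S

theorem om_add_left (x y z : U × U) : om β (x + y) z = om β x z + om β y z := by
  simp only [om, Prod.fst_add, Prod.snd_add, map_add, LinearMap.add_apply]; ring

theorem om_smul_left (t : F) (x z : U × U) : om β (t • x) z = t * om β x z := by
  simp only [om, Prod.smul_fst, Prod.smul_snd, map_smul, LinearMap.smul_apply, smul_eq_mul]; ring

theorem om_sub_left (x y z : U × U) : om β (x - y) z = om β x z - om β y z := by
  simp only [om, Prod.fst_sub, Prod.snd_sub, map_sub, LinearMap.sub_apply]; ring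

theorem om_swap (x y : U × U) : om β y x = -om β x y := by
  simp only [om, S.symm y.1, S.symm y.2]; ring

/-- An element fixing the plane over `c` has skew block on every vector orthogonal to `c`. -/
theorem om_apply_self_eq_zero (hno : NoRad M) {κ : (U × U) ≃ₗ[F] (U × U)} (hκ : κ ∈ M) {c v : U}
    (hc0 : c ≠ 0) (hc : β c c = 0) (hcv : β c v = 0) (h1 : κ (c, 0) = (c, 0)) (h2 : κ (0, c) = (0, c)) :
    om β (κ (v, 0)) (v, 0) = 0 := by
  have hκs : ∀ z w, om β (κ.symm z) w = om β z (κ w) := fun z w => by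
    rw [← S.iso κ hκ (κ.symm z) w, LinearEquiv.apply_symm_apply]
  obtain ⟨E, hE⟩ : ∃ E, E = dia (S.sieg hc hcv) := ⟨_, rfl⟩
  have hEM : E ∈ M := hE ▸ S.dia_mem (S.sieg_iso hc hcv)
  obtain ⟨h, hh⟩ : ∃ h, h = β v v / 2 := ⟨_, rfl⟩
  have hEz : ∀ z, E z = z + sgl β c h (v, 0) (0, v) z := fun z => by
    rw [hE, dia_apply, S.sieg_apply, S.sieg_apply, ← hh]
    simp only [sgl, om, Prod.smul_mk, Prod.mk_add_mk, Prod.mk_sub_mk, map_zero, LinearMap.zero_apply, smul_zero,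
      zero_sub, sub_zero, S.symm z.1, S.symm z.2]
    exact Prod.ext (by simp only [Prod.fst_add]; module) (by simp only [Prod.snd_add]; module)
  obtain ⟨E', hE'⟩ : ∃ E', E' = κ * E * κ⁻¹ := ⟨_, rfl⟩
  have hE'M : E' ∈ M := hE' ▸ M.mul_mem (M.mul_mem hκ hEM) (M.inv_mem hκ)
  have hE'z : ∀ z, E' z = z + sgl β c h (κ (v, 0)) (κ (0, v)) z := fun z => by
    rw [hE', LinearEquiv.mul_apply, LinearEquiv.mul_apply, hEz, map_add,
      show κ (κ⁻¹ z) = z from κ.apply_symm_apply z]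
    congr 1
    simp only [sgl, map_add, map_sub, map_smul, show κ⁻¹ z = κ.symm z from rfl, hκs, h1, h2]
  -- orthogonality relations
  have c11 : om β ((c, 0) : U × U) (c, 0) = 0 := by simp [om]
  have c22 : om β ((0, c) : U × U) (0, c) = 0 := by simp [om]
  have c12 : om β ((c, 0) : U × U) (0, c) = 0 := by simp [om, hc]
  have c21 : om β ((0, c) : U × U) (c, 0) = 0 := by simp [om, hc]
  obtain ⟨V₁, hV₁⟩ : ∃ V₁ : U × U, V₁ = (v, 0) := ⟨_, rfl⟩
  obtain ⟨V₂, hV₂⟩ : ∃ V₂ : U × U, V₂ = (0, v) := ⟨_, rfl⟩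
  obtain ⟨A₁, hA₁⟩ : ∃ A₁, A₁ = κ V₁ := ⟨_, rfl⟩
  obtain ⟨A₂, hA₂⟩ : ∃ A₂, A₂ = κ V₂ := ⟨_, rfl⟩
  rw [← hV₁, ← hA₁]
  rw [← hV₁, ← hV₂] at hEz
  rw [← hV₁, ← hV₂, ← hA₁, ← hA₂] at hE'z
  have hV : ∀ i : Fin 2, om β ((c, 0) : U × U) (![V₁, V₂] i) = 0 ∧ om β ((0, c) : U × U) (![V₁, V₂] i) = 0 := by
    intro i; fin_cases i <;> simp [om, hV₁, hV₂, hcv]
  have hA : ∀ i : Fin 2, om β ((c, 0) : U × U) (![A₁, A₂] i) = 0 ∧ om β ((0, c) : U × U) (![A₁, A₂] i) = 0 := by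
    intro i
    obtain ⟨e1, e2⟩ := hV i
    rw [← S.iso κ hκ, h1] at e1
    rw [← S.iso κ hκ, h2] at e2
    fin_cases i <;> simp_all
  obtain ⟨v11, v12⟩ := hV 0
  obtain ⟨v21, v22⟩ := hV 1
  obtain ⟨a11, a12⟩ := hA 0
  obtain ⟨a21, a22⟩ := hA 1
  simp only [Matrix.cons_val_zero, Matrix.cons_val_one] at v11 v12 v21 v22 a11 a12 a21 a22
  have sw : ∀ {x y : U × U}, om β x y = 0 → om β y x = 0 := fun {x y} e => by rw [S.om_swap x y, e, neg_zero]
  obtain ⟨a, ha⟩ : ∃ a, a = om β A₂ V₂ - om β V₂ A₂ := ⟨_, rfl⟩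
  obtain ⟨b, hb⟩ : ∃ b, b = -(om β A₁ V₂ - om β V₁ A₂) := ⟨_, rfl⟩
  obtain ⟨d, hd⟩ : ∃ d, d = om β A₁ V₁ - om β V₁ A₁ := ⟨_, rfl⟩
  have hK : ∀ z, E (E' z) = E' (E z) + cen β c a b d z := fun z => by
    rw [hEz, hE'z, hE'z, hEz]
    simp only [sgl, cen, S.om_add_left, S.om_sub_left, S.om_smul_left, c11, c22, c12, c21,
      v11, v12, v21, v22, a11, a12, a21, a22, sw v11, sw v12, sw v21, sw v22, sw a11, sw a12, sw a21, sw a22,
      ha, hb, hd]
    rw [S.om_swap A₁ V₂, S.om_swap V₁ A₂, S.om_swap A₁ V₁, S.om_swap A₂ V₂]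
    module
  obtain ⟨W, hW⟩ : ∃ W, W = E * E' * (E' * E)⁻¹ := ⟨_, rfl⟩
  have hWM : W ∈ M := hW ▸ M.mul_mem (M.mul_mem hEM hE'M) (M.inv_mem (M.mul_mem hE'M hEM))
  have hEc : ∀ x : U × U, (x = (c, 0) ∨ x = (0, c)) → (E' * E) x = x := by
    intro x hx
    have hE1 : ∀ (A B : U × U), om β x A = 0 → om β x B = 0 → sgl β c h A B x = 0 := by
      intro A B e1 e2
      rcases hx with rfl | rfl <;> simp [sgl, e1, e2, c11, c12, c21, c22]
    have hxV : om β x V₁ = 0 ∧ om β x V₂ = 0 ∧ om β x A₁ = 0 ∧ om β x A₂ = 0 := by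
      rcases hx with rfl | rfl
      · exact ⟨v11, v21, a11, a21⟩
      · exact ⟨v12, v22, a12, a22⟩
    rw [LinearEquiv.mul_apply, hEz, hE1 _ _ hxV.1 hxV.2.1, add_zero, hE'z, hE1 _ _ hxV.2.2.1 hxV.2.2.2, add_zero]
  have hWz : ∀ z, W z = z + cen β c a b d z := fun z => by
    obtain ⟨w, rfl⟩ := (E' * E).surjective z
    rw [hW, LinearEquiv.mul_apply,
      show (E' * E)⁻¹ ((E' * E) w) = w from (E' * E).symm_apply_apply w, LinearEquiv.mul_apply, hK]
    have e : cen β c a b d ((E' * E) w) = cen β c a b d w := by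
      have e1 := S.iso _ (M.mul_mem hE'M hEM) w (c, 0)
      have e2 := S.iso _ (M.mul_mem hE'M hEM) w (0, c)
      rw [hEc _ (Or.inl rfl)] at e1
      rw [hEc _ (Or.inr rfl)] at e2
      simp only [cen, e1, e2]
    rw [e]; rfl
  have hcen0 : ∀ (a b d : F) z, om β (cen β c a b d z) (c, 0) = 0 ∧ om β (cen β c a b d z) (0, c) = 0 :=
    fun a b d z => by simp only [cen, S.om_add_left, S.om_smul_left, c11, c12, c21, c22, mul_zero, add_zero, and_self]
  have hprod : ∀ (g g' : (U × U) ≃ₗ[F] (U × U)) (a b d a' b' d' : F),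
      (∀ z, g z = z + cen β c a b d z) → (∀ z, g' z = z + cen β c a' b' d' z) →
      ∀ z, (g * g') z = z + cen β c (a + a') (b + b') (d + d') z := by
    intro g g' a b d a' b' d' hg hg' z
    rw [LinearEquiv.mul_apply, hg', hg]
    simp only [cen, S.om_add_left, S.om_smul_left, c11, c12, c21, c22]
    module
  have hconj : ∀ l : F, ∀ z, (rl l * W * (rl l)⁻¹ : (U × U) ≃ₗ[F] (U × U)) z =
      z + cen β c (a + 2 * b * l + d * (l * l)) (b + d * l) d z := by
    intro l z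
    rw [LinearEquiv.mul_apply, LinearEquiv.mul_apply, hWz, map_add,
      show rl l ((rl l : (U × U) ≃ₗ[F] (U × U))⁻¹ z) = z from (rl l).apply_symm_apply z]
    congr 1
    have e : (rl l : (U × U) ≃ₗ[F] (U × U))⁻¹ z = rl (-l) z := by
      rw [rl, rad_inv, rl, neg_smul]
    simp only [cen, map_add, map_smul, e]
    simp only [om, rl_apply, map_add, map_smul, map_zero, LinearMap.add_apply, LinearMap.smul_apply,
      smul_eq_mul, smul_zero, neg_smul, Prod.smul_mk, Prod.mk_add_mk]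
    refine Prod.ext ?_ ?_ <;> simp <;> module
  obtain ⟨Z, hZ⟩ : ∃ Z, Z = rl 1 * W * (rl 1)⁻¹ * (rl (-1) * W * (rl (-1))⁻¹) * (W⁻¹ * W⁻¹) := ⟨_, rfl⟩
  have hWi : ∀ z, W⁻¹ z = z + cen β c (-a) (-b) (-d) z := fun z => by
    apply W.injective
    rw [show W (W⁻¹ z) = z from W.apply_symm_apply z, hWz]
    simp only [cen, S.om_add_left, S.om_smul_left, c11, c12, c21, c22]
    module
  have hZz : ∀ z, Z z = z + cen β c (2 * d) 0 0 z := fun z => by
    have h := hprod _ _ _ _ _ _ _ _ (hprod _ _ _ _ _ _ _ _ (hconj 1) (hconj (-1)))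
      (hprod _ _ _ _ _ _ _ _ hWi hWi) z
    rw [hZ, h]
    congr 2 <;> ring
  have hZrad : Z = rad ((-(2 * d)) • (β c).smulRight c) := by
    refine LinearEquiv.ext fun z => ?_
    rw [hZz]
    simp [cen, om, S.symm z.2 c, Prod.ext_iff, mul_smul, smul_comm (2 : F)]
  have hrl : ∀ l, rl l ∈ M := S.rl_mem
  have hZM : Z ∈ M := hZ ▸ M.mul_mem (M.mul_mem (M.mul_mem (M.mul_mem (hrl _) hWM) (M.inv_mem (hrl _)))
    (M.mul_mem (M.mul_mem (hrl _) hWM) (M.inv_mem (hrl _)))) (M.mul_mem (M.inv_mem hWM) (M.inv_mem hWM))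
  obtain ⟨e, he⟩ := hno _ (hZrad ▸ hZM)
  obtain ⟨u, hu⟩ : ∃ u, β c u ≠ 0 := by
    by_contra hh
    push Not at hh
    exact hc0 (S.nondeg c hh)
  have h3 := he u
  rw [LinearMap.smul_apply, LinearMap.smulRight_apply, smul_smul] at h3
  by_contra hne
  have hd0 : d ≠ 0 := by
    rw [hd, S.om_swap A₁ V₁, sub_neg_eq_add, ← two_mul]
    exact mul_ne_zero S.two hne
  have he0 : e ≠ 0 := by
    intro e0
    rw [e0, zero_smul] at h3
    exact smul_ne_zero (mul_ne_zero (neg_ne_zero.2 (mul_ne_zero S.two hd0)) hu) hc0 h3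
  have h4 := congrArg (β c) h3
  rw [map_smul, map_smul, hc, smul_zero, smul_eq_mul] at h4
  exact mul_ne_zero he0 hu h4.symm

end Setup

end Cfsg.Agent.Lib.SpOTensor
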