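import Cfsg.Agent.Lib.SpOTensor.Gen
import Cfsg.Agent.Lib.SpOTensor.Siegel
import Cfsg.Agent.Lib.SpOTensor.FourThree

/-!
Without radical elements the group is the tensor group.
-/

set_option autoImplicit false
set_option linter.unusedSectionVars false
set_option maxHeartbeats 400000

namespace Cfsg.Agent.Lib.SpOTensor

open Module Polynomial

variable {F U : Type*} [Field F] [AddCommGroup U] [Module F U]
  {β : LinearMap.BilinForm F U} {M : Subgroup ((U × U) ≃ₗ[F] (U × U))}

/-- In characteristic three, the square of a semisimple element with trace `2 + D`. -/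
theorem ring_square {R : Type*} [Ring R] {p : ℕ} [Fact p.Prime] [CharP R p] {a b D : R} (hab : a * b = 1)
    (hcD : a * D = D * a) (hsum : a + b = 2 + D) (hidem : D * D = D) (h3 : (3 : R) = 0) {n : ℕ}
    (hn : a ^ n = 1) (hcop : Nat.Coprime p n) : a * (1 - D) = 1 - D ∧ a * a = 1 + D := by
  have hgg : a * a = 2 * a + a * D - 1 := by
    have := congrArg (a * ·) hsum
    simp only [mul_add, hab] at this
    rw [eq_sub_iff_add_eq, this]
    noncomm_ring
  have hfix : a * (1 - D) = 1 - D := by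
    obtain ⟨N, hNdef⟩ : ∃ N, N = (a - 1) * (1 - D) := ⟨_, rfl⟩
    have hc1 : Commute (1 - D) (a - 1) :=
      ((Commute.one_left _).sub_left ((show Commute a D from hcD).symm.sub_right (Commute.one_right D)))
    have hP : (1 - D) * (1 - D) = 1 - D := by
      rw [sub_mul, one_mul, mul_sub, mul_one, hidem, sub_self, sub_zero]
    have hN2 : N * N = 0 := by
      rw [hNdef, mul_assoc, ← mul_assoc (1 - D), hc1.eq, mul_assoc (a - 1), hP, ← mul_assoc,
        show (a - 1) * (a - 1) = a * a - 2 * a + 1 by noncomm_ring, hgg,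
        show 2 * a + a * D - 1 - 2 * a + 1 = a * D by noncomm_ring, mul_assoc, mul_sub, mul_one, hidem,
        sub_self, mul_zero]
    have hpowN : ∀ j : ℕ, (1 + N) ^ j = 1 + (j : R) * N := by
      intro j
      induction j with
      | zero => simp
      | succ j ih =>
        rw [pow_succ, ih, Nat.cast_succ, mul_add, mul_one, add_mul, one_mul, mul_assoc, hN2, mul_zero,
          add_zero, add_mul, one_mul, add_assoc]
    have hpowa : ∀ j : ℕ, (1 + N) ^ j = 1 + (a ^ j - 1) * (1 - D) := by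
      intro j
      induction j with
      | zero => simp
      | succ j ih =>
        rw [pow_succ, ih, hNdef, pow_succ]
        calc (1 + (a ^ j - 1) * (1 - D)) * (1 + (a - 1) * (1 - D))
            = 1 + (a - 1) * (1 - D) + (a ^ j - 1) * (1 - D) +
              (a ^ j - 1) * ((1 - D) * (a - 1)) * (1 - D) := by noncomm_ring
          _ = 1 + (a - 1) * (1 - D) + (a ^ j - 1) * (1 - D) +
              (a ^ j - 1) * (a - 1) * ((1 - D) * (1 - D)) := by rw [hc1.eq]; noncomm_ring
          _ = _ := by rw [hP]; noncomm_ring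
    have h1 := hpowa n
    rw [hn, sub_self, zero_mul, add_zero, hpowN, add_eq_left] at h1
    obtain ⟨x, y, hxy⟩ := (Nat.isCoprime_iff_coprime.2 hcop)
    have h2 : ((p : R)) = 0 := CharP.cast_eq_zero R p
    have h0 : N = 0 := by
      have e := congrArg (fun t : ℤ => (t : R)) hxy
      simp only [Int.cast_add, Int.cast_mul, Int.cast_natCast, Int.cast_one, h2, mul_zero, zero_add] at e
      rw [← one_mul N, ← e, mul_assoc, h1, mul_zero]
    rw [hNdef, sub_mul, one_mul, sub_eq_zero] at h0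
    exact h0
  refine ⟨hfix, ?_⟩
  have e : a = a * D + (1 - D) := by rw [← hfix]; noncomm_ring
  have : a * a = 3 * (a * D) + 1 + D - 3 * D := by
    rw [hgg]
    conv_lhs => rw [show 2 * a = 2 * (a * D + (1 - D)) by rw [← e]]
    noncomm_ring
  rw [this, h3, zero_mul, zero_mul, zero_add, sub_zero]

/-- A unit with separable trace polynomial has order prime to the characteristic. -/
theorem exists_pow_eq_one {R : Type*} [Ring R] [Algebra F R] [Finite F] {p : ℕ} [CharP F p] [CharP R p]
    [Fact p.Prime] {π : F[X]} (hπ : Irreducible π) (hπ0 : π.eval 0 ≠ 0) {m : F} (hm : m ≠ 0)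
    (hne : π.eval (-4 / m) ≠ 0) {a b DW : R} (hab : a * b = 1) (hba : b * a = 1)
    (hsum : a + b = aeval DW (C 2 + C m * X)) (hc0 : Commute a DW) (hπDW : aeval DW π = 0) :
    ∃ N : ℕ, ¬ p ∣ N ∧ a ^ N = 1 := by
  haveI := Fintype.ofFinite F
  obtain ⟨n, -, hn⟩ := FiniteField.card F p
  have hcomm : ∀ q : F[X], Commute a (aeval DW q) := fun q => commute_aeval hc0 q
  obtain ⟨Q, hQ⟩ : ∃ Q, Q = p ^ ((n : ℕ) * π.natDegree) := ⟨_, rfl⟩
  have hQc : Nat.card F ^ π.natDegree = Q := by rw [Nat.card_eq_fintype_card, hn, hQ, pow_mul]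
  have hfrob : ∀ s : F, s ^ Q = s := fun s => by
    rw [← hQc, Nat.card_eq_fintype_card]
    exact FiniteField.pow_card_pow _ s
  have hu : (a + b) ^ p ^ ((n : ℕ) * π.natDegree) = a + b := by
    rw [hsum, ← map_pow, add_pow_char_pow, mul_pow, ← C_pow, ← C_pow, ← hQ, hfrob, hfrob, ← sub_eq_zero,
      ← map_sub (aeval (R := F) DW), show C 2 + C m * X ^ Q - (C 2 + C m * X) = C m * (X ^ Q - X) by ring, map_mul]
    obtain ⟨c, hc⟩ := dvd_X_pow_card_sub_X hπ
    rw [hQc] at hc
    rw [hc, map_mul, hπDW, zero_mul, mul_zero]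
  have hR : IsCoprime π ((C m * X) * (C m * X + C 4)) := by
    refine IsCoprime.mul_right ?_ ?_ <;> rw [hπ.coprime_iff_not_dvd]
    · intro h
      have hX : π ∣ X := (dvd_mul_left π (C m⁻¹)).trans (by
        obtain ⟨k, hk⟩ := h
        refine ⟨k, ?_⟩
        calc X = C m⁻¹ * (C m * X) := by rw [← mul_assoc, ← C_mul, inv_mul_cancel₀ hm, C_1, one_mul]
          _ = _ := by rw [hk]; ring)
      have hX' : X ∣ π := hπ.dvd_symm irreducible_X hX
      exact hπ0 (by rw [← coeff_zero_eq_eval_zero]; exact X_dvd_iff.1 hX')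
    · rintro ⟨k, hk⟩
      have hdeg := congrArg natDegree hk
      rw [natDegree_linear hm, natDegree_mul hπ.ne_zero (fun e => by
        rw [e, mul_zero] at hk
        have := congrArg natDegree hk
        rw [natDegree_linear hm] at this
        simp at this)] at hdeg
      have hk0 : k.natDegree = 0 := by have := hπ.natDegree_pos; omega
      have h0 := congrArg (eval (-4 / m)) hk
      rw [eval_mul, eval_add, eval_mul, eval_C, eval_X, eval_C, mul_div_cancel₀ _ hm, neg_add_cancel, eq_comm,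
        mul_eq_zero] at h0
      rw [eq_C_of_natDegree_eq_zero hk0, eval_C] at h0
      rcases h0 with h0 | h0
      · exact hne h0
      · rw [eq_C_of_natDegree_eq_zero hk0, h0, C_0, mul_zero] at hk
        have := congrArg natDegree hk
        rw [natDegree_linear hm] at this
        simp at this
  obtain ⟨α, γ, hαγ⟩ := hR
  obtain ⟨B, hB⟩ : ∃ B, B = aeval DW γ := ⟨_, rfl⟩
  have hdd : (a - b) * (a - b) * B = 1 := by
    have e : (a - b) * (a - b) = (a + b) * (a + b) - (4 : R) := by
      have : (a - b) * (a - b) = (a + b) * (a + b) - 2 * (a * b) - 2 * (b * a) := by noncomm_ring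
      rw [this, hab, hba, mul_one, sub_sub, two_add_two_eq_four]
    rw [e, hsum, hB, ← map_mul, ← map_ofNat (aeval (R := F) DW) 4, ← map_sub (aeval (R := F) DW), ← map_mul]
    have := congrArg (aeval DW) hαγ
    rw [map_add, map_mul, hπDW, mul_zero, zero_add, map_one] at this
    rw [← this]
    congr 1
    rw [show (4 : F[X]) = C 4 from (map_ofNat C 4).symm, show (C 2 : F[X]) = 2 from map_ofNat C 2,
      show (C 4 : F[X]) = 4 from map_ofNat C 4]
    ring
  have hdB : Commute (a - b) B := by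
    have hb' : b = aeval DW (C 2 + C m * X) - a := by rw [← hsum]; abel
    rw [hB, hb']
    exact (hcomm γ).sub_left (((Commute.all (C 2 + C m * X) γ).map (aeval DW)).sub_left (hcomm γ))
  have hpow := pow_sq_eq_self (p := p) (n := (n : ℕ) * π.natDegree) hab hba (d' := (a - b) * B)
    (by rw [← mul_assoc, hdd]) (by rw [mul_assoc, ← hdB.eq, ← mul_assoc, hdd]) hu
  obtain ⟨N, hN⟩ : ∃ N, p ^ ((n : ℕ) * π.natDegree) * p ^ ((n : ℕ) * π.natDegree) = N + 1 :=
    Nat.exists_eq_succ_of_ne_zero (mul_ne_zero (pow_ne_zero _ (Fact.out (p := p.Prime)).ne_zero)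
      (pow_ne_zero _ (Fact.out (p := p.Prime)).ne_zero))
  have haN : a ^ N = 1 := by
    rw [hN, pow_succ] at hpow
    have := congrArg (· * b) hpow
    simpa [mul_assoc, hab] using this
  have hpN : ¬ p ∣ N := by
    intro h
    have h1 : p ∣ N + 1 := by
      rw [← hN]
      exact dvd_mul_of_dvd_left (dvd_pow_self p (by have := hπ.natDegree_pos; have := n.pos; positivity)) _
    have := (Nat.dvd_add_right h).1 h1
    exact (Fact.out (p := p.Prime)).one_lt.ne' (Nat.dvd_one.1 this)
  exact ⟨N, hpN, haN⟩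

/-- The transvection in the pair group. -/
def xG (g' : (U × U) ≃ₗ[F] (U × U)) (l : F) : pairGrp g' := ⟨rl l, X0_le_pairGrp g' (rl_mem_X0 l)⟩

/-- The conjugate transvection in the pair group. -/
def yG (g' : (U × U) ≃ₗ[F] (U × U)) (l : F) : pairGrp g' := ⟨g' * rl l * g'⁻¹, conj_mem_pairGrp g' l⟩

theorem xy_inv (g' : (U × U) ≃ₗ[F] (U × U)) (l m : F) :
    (xG g' l * yG g' m)⁻¹ = yG g' (-m) * xG g' (-l) := by
  refine inv_eq_of_mul_eq_one_right (Subtype.ext ?_)
  simp only [xG, yG, Subgroup.coe_mul, Subgroup.coe_one]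
  rw [show rl l * (g' * rl m * g'⁻¹) * (g' * rl (-m) * g'⁻¹ * rl (-l)) =
    rl l * (g' * (rl m * rl (-m)) * g'⁻¹) * rl (-l) by group, rl_mul m (-m), add_neg_cancel, rl_zero]
  rw [show rl l * (g' * 1 * g'⁻¹) * rl (-l) = rl l * rl (-l) by group, rl_mul, add_neg_cancel, rl_zero]

theorem xy_add_inv (g' : (U × U) ≃ₗ[F] (U × U)) (m : F) (z : U × U) :
    (xG g' 1 * yG g' m : pairGrp g').1 z + (xG g' 1 * yG g' m : pairGrp g')⁻¹.1 z =
      z + z + m • Del g' z := by
  rw [xy_inv]
  simp only [xG, yG, Subgroup.coe_mul]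
  show rl (1 : F) ((g' * rl m * g'⁻¹ : (U × U) ≃ₗ[F] (U × U)) z) +
    (g' * rl (-m) * g'⁻¹ : (U × U) ≃ₗ[F] (U × U)) (rl (-1 : F) z) = _
  rw [conj_rl_apply, rl_eq, conj_rl_apply, rl_eq, Del_apply, map_add, map_smul, map_add, map_smul]
  module

theorem yG_pow (g' : (U × U) ≃ₗ[F] (U × U)) (l : F) (k : ℕ) : yG g' l ^ k = yG g' ((k : F) * l) := by
  refine Subtype.ext ?_
  simp only [yG, SubmonoidClass.coe_pow, conj_pow, rl_pow]

theorem yG_mul (g' : (U × U) ≃ₗ[F] (U × U)) (a b : F) : yG g' a * yG g' b = yG g' (a + b) := by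
  refine Subtype.ext ?_
  simp only [yG, Subgroup.coe_mul]
  rw [← rl_mul]; group

theorem xG_pow (g' : (U × U) ≃ₗ[F] (U × U)) (l : F) (k : ℕ) : xG g' l ^ k = xG g' ((k : F) * l) :=
  Subtype.ext (by simp only [xG, SubmonoidClass.coe_pow, rl_pow])

namespace Setup

variable (S : Setup β M)
include S

variable {g' : (U × U) ≃ₗ[F] (U × U)} {T : Submodule F U}

theorem eq_bot_of_NE {π : F[X]} (hπ0 : π.eval 0 ≠ 0)
    (hN : ∀ w ∈ eigSp g' π, (NE : Module.End F (U × U)) w = 0) : eigSp g' π = ⊥ := by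
  refine (Submodule.eq_bot_iff _).2 fun w hw => ?_
  have h1 : NC g' w ∈ eigSp g' π := by
    have h := LinearMap.congr_fun (commute_aeval (Del_NC g').symm π).eq w
    rw [eigSp, LinearMap.mem_ker] at hw ⊢
    simp only [Module.End.mul_apply, hw, map_zero] at h
    exact h.symm
  have hD : Del g' w = (0 : F) • w := by
    rw [Del_apply, hN _ h1, hN w hw, map_zero, add_zero, zero_smul]
  rw [eigSp, LinearMap.mem_ker, Module.End.aeval_apply_of_mem_apply_eq_smul hD, smul_eq_zero] at hw
  exact hw.resolve_left hπ0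

theorem ker_ne_bot_of_dvd {π : F[X]} (hπ : Irreducible π) (hd : π ∣ minpoly F (Del g')) :
    eigSp g' π ≠ ⊥ := by
  haveI := S.finiteDimensional
  intro hker
  have hμ0 : minpoly F (Del g') ≠ 0 := minpoly.ne_zero (Algebra.IsIntegral.isIntegral _)
  obtain ⟨c, hc⟩ := hd
  have hinj : Function.Injective (aeval (Del g') π) := LinearMap.ker_eq_bot.1 hker
  have hzero : aeval (Del g') c = 0 := LinearMap.ext fun z => hinj (by
    rw [← Module.End.mul_apply, ← map_mul, ← hc, minpoly.aeval]; simp)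
  have h1 := minpoly.dvd F (Del g') hzero
  have h2 : c ≠ 0 := fun e => hμ0 (by rw [hc, e, mul_zero])
  have h3 := natDegree_le_of_dvd h1 h2
  rw [hc, natDegree_mul hπ.ne_zero h2] at h3
  have := hπ.natDegree_pos
  omega

/-- A product outside the `p`-complement forces a root of the factor. -/
theorem eval_eq_zero_of_good [Finite F] [Finite ((U × U) ≃ₗ[F] (U × U))] {p : ℕ} [CharP F p] [Fact p.Prime]
    (φ : pairGrp g' →* (X0 : Subgroup ((U × U) ≃ₗ[F] (U × U))))
    (hconj : ∀ z : pairGrp g', (∃ k : ℕ, z ^ p ^ k = 1) → ∃ h : pairGrp g',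
      ((h * z * h⁻¹ : pairGrp g') : (U × U) ≃ₗ[F] (U × U)) ∈ (X0 : Subgroup ((U × U) ≃ₗ[F] (U × U))))
    {π : F[X]} (hπ : Irreducible π) (hπ0 : π.eval 0 ≠ 0) (hW : eigSp g' π ≠ ⊥)
    {m : F} (hm : m ≠ 0) (hgood : φ (xG g' 1 * yG g' m) ≠ 1) : π.eval (-4 / m) = 0 := by
  by_contra hne
  haveI := S.finiteDimensional
  haveI := S.nontrivial
  haveI : Nontrivial (eigSp g' π) := Submodule.nontrivial_iff_ne_bot.2 hW
  haveI : CharP (Module.End F (eigSp g' π)) p :=
    charP_of_injective_algebraMap (algebraMap F (Module.End F (eigSp g' π))).injective p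
  haveI := Fintype.ofFinite F
  obtain ⟨g, hg⟩ : ∃ g, g = xG g' 1 * yG g' m := ⟨_, rfl⟩
  rw [← hg] at hgood
  obtain ⟨DW, hDW⟩ : ∃ DW : Module.End F (eigSp g' π),
      DW = (Del g').restrict fun _ hw => smul_mem_eigSp_Del g' hw := ⟨_, rfl⟩
  have hDWap : ∀ w : eigSp g' π, ((DW w : eigSp g' π) : U × U) = Del g' (w : U × U) := fun w => by
    rw [hDW]; rfl
  obtain ⟨a, ha⟩ : ∃ a, a = eigHom g' π g := ⟨_, rfl⟩
  obtain ⟨b, hb⟩ : ∃ b, b = eigHom g' π g⁻¹ := ⟨_, rfl⟩
  have hab : a * b = 1 := by rw [ha, hb, ← map_mul, mul_inv_cancel, map_one]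
  have hba : b * a = 1 := by rw [ha, hb, ← map_mul, inv_mul_cancel, map_one]
  have hsum : a + b = aeval DW (C 2 + C m * X) := by
    refine LinearMap.ext fun w => Subtype.ext ?_
    rw [LinearMap.add_apply, Submodule.coe_add, ha, hb, eigHom_apply, eigHom_apply, hg, xy_add_inv]
    simp [hDWap, Module.algebraMap_end_apply, two_smul]
  have hc0 : Commute a DW := by
    unfold Commute SemiconjBy
    refine LinearMap.ext fun w => Subtype.ext ?_
    rw [Module.End.mul_apply, Module.End.mul_apply, hDWap, ha, eigHom_apply, eigHom_apply, hDWap]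
    exact (pairGrp_commute_Del g' g.2 _).symm
  have hπDW : aeval DW π = 0 := by
    refine LinearMap.ext fun w => Subtype.ext ?_
    have h : ∀ q : F[X], ((aeval DW q w : eigSp g' π) : U × U) = aeval (Del g') q (w : U × U) := by
      intro q
      induction q using Polynomial.induction_on' with
      | add p q hp hq => simp [hp, hq]
      | monomial j c =>
        have : ∀ j : ℕ, (((DW ^ j) w : eigSp g' π) : U × U) = (Del g' ^ j) (w : U × U) := by
          intro j
          induction j with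
          | zero => simp
          | succ j ih => rw [pow_succ', pow_succ', Module.End.mul_apply, Module.End.mul_apply, hDWap, ih]
        simp [aeval_monomial, Module.algebraMap_end_apply, this]
    rw [h]
    exact w.2
  obtain ⟨N, hpN, haN⟩ := exists_pow_eq_one (R := Module.End F (eigSp g' π)) (p := p) hπ hπ0 hm hne
    hab hba hsum hc0 hπDW
  -- an element of order `p` in the cyclic group of `g`
  have hφp : φ g ^ p = 1 := by
    obtain ⟨l, hl⟩ := (φ g).2
    refine Subtype.ext ?_
    rw [SubmonoidClass.coe_pow, hl, rl_pow, CharP.cast_eq_zero, zero_mul, rl_zero, OneMemClass.coe_one]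
  have hdvd : p ∣ orderOf g := by
    have h := orderOf_map_dvd φ g
    rwa [orderOf_eq_prime hφp hgood] at h
  obtain ⟨j, hj⟩ := hdvd
  have hpos := orderOf_pos g
  have hz : (g ^ j) ^ p = 1 := by rw [← pow_mul, mul_comm, ← hj, pow_orderOf_eq_one]
  have hj0 : g ^ j ≠ 1 := by
    intro h1
    have h2 := Nat.le_of_dvd (by
      rcases Nat.eq_zero_or_pos j with h0 | h0
      · subst h0; omega
      · exact h0) (orderOf_dvd_of_pow_eq_one h1)
    rw [hj] at h2
    have := (Fact.out (p := p.Prime)).one_lt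
    have hjpos : 0 < j := by
      rcases Nat.eq_zero_or_pos j with h0 | h0
      · subst h0; omega
      · exact h0
    nlinarith
  have hρ : eigHom g' π (g ^ j) = 1 := by
    have h1 : eigHom g' π (g ^ j) ^ p = 1 := by rw [← map_pow, hz, map_one]
    have h2 : eigHom g' π (g ^ j) ^ N = 1 := by
      rw [← map_pow, ← pow_mul, mul_comm, pow_mul, map_pow, map_pow, ← ha, haN, one_pow]
    have h3 := pow_gcd_eq_one.2 ⟨h1, h2⟩
    rwa [(((Fact.out (p := p.Prime)).coprime_iff_not_dvd).2 hpN : Nat.gcd p N = 1), pow_one] at h3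
  obtain ⟨h, hh⟩ := hconj (g ^ j) ⟨1, by rw [pow_one]; exact hz⟩
  obtain ⟨e, he⟩ := hh
  have he0 : e ≠ 0 := by
    intro e0
    rw [e0, rl_zero] at he
    have h1 : h * g ^ j * h⁻¹ = 1 := Subtype.ext he
    exact hj0 (by simpa [mul_inv_eq_one] using h1)
  refine hW (S.eq_bot_of_NE hπ0 fun w hw => ?_)
  have h1 : eigHom g' π (h * g ^ j * h⁻¹) = 1 := by
    rw [map_mul, map_mul, hρ, mul_one, ← map_mul, mul_inv_cancel, map_one]
  have h3 := congrArg (fun f : Module.End F (eigSp g' π) => ((f ⟨w, hw⟩ : eigSp g' π) : U × U)) h1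
  simp only [eigHom_apply, Module.End.one_apply, he, rl_eq, add_eq_left, smul_eq_zero] at h3
  exact h3.resolve_left he0

/-- Without radical elements there is no far pair with a large common fixed space. -/
theorem false_of_far [Finite F] [Finite ((U × U) ≃ₗ[F] (U × U))] (hno : NoRad M)
    (hbig : 5 ≤ finrank F U ∨ 5 ≤ Nat.card F ∨ finrank F U = 4 ∧ Rig β) {g' : (U × U) ≃ₗ[F] (U × U)} (hg : g' ∈ M)
    (hns : Far g')
    {T : Submodule F U} (hTd : finrank F U ≤ finrank F T + 2) (hT : ∀ u ∈ T, g' (u, 0) = (u, 0)) : False := by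
  classical
  haveI := S.finiteDimensional
  haveI := S.nontrivial
  haveI := Fintype.ofFinite F
  obtain ⟨p, hpc⟩ := CharP.exists F
  haveI := hpc
  haveI : Fact p.Prime := ⟨CharP.char_is_prime F p⟩
  obtain ⟨φ, hinj, hconj⟩ := S.exists_transfer hno hg hns hT hTd (p := p)
  obtain ⟨π, hπ, hπ0, hW⟩ := S.exists_factor hno hg hns hT hTd (p := p)
  have hyp : ∀ l : F, ∃ k : ℕ, yG g' l ^ p ^ k = 1 := fun l => ⟨1, by
    rw [pow_one, yG_pow, CharP.cast_eq_zero, zero_mul]
    exact Subtype.ext (by simp [yG, rl_zero])⟩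
  have hxp : ∀ l : F, ∃ k : ℕ, xG g' l ^ p ^ k = 1 := fun l => ⟨1, by
    rw [pow_one, xG_pow, CharP.cast_eq_zero, zero_mul]
    exact Subtype.ext (by simp [xG, rl_zero])⟩
  -- the exceptional parameter
  let f : F → F := fun m => Classical.choose (φ (yG g' m)).2
  have hf : ∀ m, ((φ (yG g' m)) : (U × U) ≃ₗ[F] (U × U)) = rl (f m) := fun m => Classical.choose_spec (φ (yG g' m)).2
  have hfinj : Function.Injective f := by
    intro a b hab
    have h1 : φ (yG g' a) = φ (yG g' b) := Subtype.ext (by rw [hf, hf, hab])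
    have h2 : φ (yG g' (a - b)) = 1 := by
      have : yG g' a = yG g' (a - b) * yG g' b := by rw [yG_mul, sub_add_cancel]
      rw [this, map_mul] at h1
      exact mul_eq_right.1 h1
    have h3 := congrArg Subtype.val (hinj _ (hyp _) h2)
    simp only [yG, OneMemClass.coe_one, mul_inv_eq_one, mul_eq_left] at h3
    exact sub_eq_zero.1 (rl_injective (h3.trans rl_zero.symm))
  obtain ⟨e, he⟩ := (φ (xG g' 1)).2
  obtain ⟨m₀, hm₀⟩ := (Finite.injective_iff_surjective.1 hfinj) (-e)
  have hmul : φ (xG g' 1 * yG g' m₀) = 1 := Subtype.ext (by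
    rw [map_mul, Subgroup.coe_mul, he, hf, hm₀, rl_mul, add_neg_cancel, rl_zero, OneMemClass.coe_one])
  have hm00 : m₀ ≠ 0 := by
    intro h0
    have h1 : yG g' m₀ = 1 := Subtype.ext (by simp [yG, h0, rl_zero])
    rw [h1, mul_one] at hmul
    have h3 := congrArg Subtype.val (hinj _ (hxp 1) hmul)
    exact one_ne_zero (rl_injective (h3.trans rl_zero.symm) : (1 : F) = 0)
  have hroot : ∀ {π : F[X]}, Irreducible π → π.eval 0 ≠ 0 → eigSp g' π ≠ ⊥ →
      ∀ m, m ≠ 0 → m ≠ m₀ → π.eval (-4 / m) = 0 := by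
    intro π hπ h0 hW m hm hmm
    refine S.eval_eq_zero_of_good φ hconj hπ h0 hW hm fun h => hmm (hfinj ?_)
    have h1 : φ (yG g' m) = φ (yG g' m₀) := mul_left_cancel ((map_mul φ _ _).symm.trans
      ((h.trans hmul.symm).trans (map_mul φ _ _)))
    exact rl_injective ((hf m).symm.trans ((congrArg Subtype.val h1).trans (hf m₀)))
  have huniq : ∀ {π : F[X]}, Irreducible π → ∀ r s : F, π.eval r = 0 → π.eval s = 0 → r = s := by
    intro π hπ r s hr hs
    have hd : X - C r ∣ π := dvd_iff_isRoot.2 hr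
    have h2 : π ∣ X - C r := (irreducible_X_sub_C r).dvd_symm hπ hd
    obtain ⟨k, hk⟩ := h2
    have := congrArg (eval s) hk
    rw [eval_sub, eval_X, eval_C, eval_mul, hs, zero_mul, sub_eq_zero] at this
    exact this.symm
  by_cases hcard : ∃ a b : F, a ≠ 0 ∧ a ≠ m₀ ∧ b ≠ 0 ∧ b ≠ m₀ ∧ a ≠ b
  · obtain ⟨a, b, ha0, ham, hb0, hbm, hab⟩ := hcard
    have h4 : (4 : F) ≠ 0 := by
      rw [show (4 : F) = 2 * 2 by norm_num]; exact mul_ne_zero S.two S.two
    have := huniq hπ _ _ (hroot hπ hπ0 hW a ha0 ham) (hroot hπ hπ0 hW b hb0 hbm)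
    rw [div_eq_div_iff ha0 hb0] at this
    exact hab (mul_left_cancel₀ (neg_ne_zero.2 h4) this).symm
  have h5 : 5 ≤ finrank F U ∨ finrank F U = 4 ∧ Rig β := hbig.imp id fun h => h.resolve_left fun h5 => hcard (by
    have hc : 3 ≤ ((Finset.univ.erase (0 : F))).card := by
      rw [Finset.card_erase_of_mem (Finset.mem_univ _), Finset.card_univ, ← Nat.card_eq_fintype_card]
      omega
    obtain ⟨x, y, w, hx, hy, hw, hxy, hxw, hyw⟩ := Finset.two_lt_card_iff.1 hc
    simp only [Finset.mem_erase, Finset.mem_univ, and_true] at hx hy hw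
    by_cases h1 : x = m₀
    · exact ⟨y, w, hy, fun h => hxy (h1.trans h.symm), hw, fun h => hxw (h1.trans h.symm), hyw⟩
    by_cases h3 : y = m₀
    · exact ⟨x, w, hx, h1, hw, fun h => hyw (h3.trans h.symm), hxw⟩
    exact ⟨x, y, hx, h1, hy, h3, hxy⟩)
  push Not at hcard
  -- three elements
  have hneg : -m₀ ≠ m₀ := fun h => by
    have h1 : (2 : F) * m₀ = 0 := by linear_combination -h
    exact hm00 ((mul_eq_zero.mp h1).resolve_left S.two)
  have hthree : (3 : F) = 0 := by
    by_contra h3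
    have h1 : (2 : F) * m₀ ≠ 0 := mul_ne_zero S.two hm00
    have h2 : (2 : F) * m₀ ≠ m₀ := fun h => hm00 (by linear_combination h)
    have h := hcard (2 * m₀) (-m₀) h1 h2 (neg_ne_zero.2 hm00) hneg
    exact mul_ne_zero h3 hm00 (by linear_combination h)
  have hall : ∀ x : F, x = 0 ∨ x = m₀ ∨ x = -m₀ := fun x => by
    by_contra h
    push Not at h
    exact h.2.2 (hcard x (-m₀) h.1 h.2.1 (neg_ne_zero.2 hm00) hneg)
  have hm2 : m₀ * m₀ = 1 := by
    rcases hall 1 with h | h | h
    · exact absurd h one_ne_zero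
    · rw [← h, one_mul]
    · rw [show m₀ = -1 by linear_combination h]; ring
  have hp3 : p = 3 := by
    have h := (CharP.cast_eq_zero_iff F p 3).1 (by simpa using hthree)
    exact (Nat.prime_dvd_prime_iff_eq (Fact.out (p := p.Prime)) Nat.prime_three).1 h
  obtain ⟨g, hgdef⟩ : ∃ g, g = xG g' 1 * yG g' m₀ := ⟨_, rfl⟩
  rw [← hgdef] at hmul
  have hcop : Nat.Coprime p (orderOf g) := (Fact.out (p := p.Prime)).coprime_iff_not_dvd.2 fun ⟨j, hj⟩ => by
    have hpos := orderOf_pos g
    have hz : (g ^ j) ^ p = 1 := by rw [← pow_mul, mul_comm, ← hj, pow_orderOf_eq_one]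
    have h1 : g ^ j = 1 := hinj _ ⟨1, by rw [pow_one]; exact hz⟩ (by rw [map_pow, hmul, one_pow])
    have hjpos : 0 < j := by
      rcases Nat.eq_zero_or_pos j with h0 | h0
      · subst h0; omega
      · exact h0
    have h2 := Nat.le_of_dvd hjpos (orderOf_dvd_of_pow_eq_one h1)
    have := (Fact.out (p := p.Prime)).one_lt
    rw [hj] at h2
    nlinarith
  -- the operators
  obtain ⟨D, hD⟩ : ∃ D, D = m₀ • Del g' := ⟨_, rfl⟩
  let toE : pairGrp g' →* Module.End F (U × U) :=
    (LinearEquiv.automorphismGroup.toLinearMapMonoidHom).comp (pairGrp g').subtype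
  have htoE : ∀ (x : pairGrp g') z, toE x z = x.1 z := fun x z => rfl
  obtain ⟨a, ha⟩ : ∃ a, a = toE g := ⟨_, rfl⟩
  obtain ⟨b, hb⟩ : ∃ b, b = toE g⁻¹ := ⟨_, rfl⟩
  have hab : a * b = 1 := by rw [ha, hb, ← map_mul, mul_inv_cancel, map_one]
  have hba : b * a = 1 := by rw [ha, hb, ← map_mul, inv_mul_cancel, map_one]
  have hsum : a + b = 2 + D := by
    refine LinearMap.ext fun z => ?_
    rw [LinearMap.add_apply, ha, hb, htoE, htoE, hgdef, xy_add_inv, hD]
    simp [two_smul, ← one_add_one_eq_two]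
  obtain ⟨k, hk, hk1⟩ : ∃ k, 0 < k ∧ p ^ k ≡ 1 [MOD orderOf g] :=
    ⟨_, Nat.totient_pos.2 (orderOf_pos g), Nat.ModEq.pow_totient hcop⟩
  haveI : CharP (Module.End F (U × U)) p :=
    charP_of_injective_algebraMap (algebraMap F (Module.End F (U × U))).injective p
  have hcD : Commute a D := by
    rw [show D = a + b - 2 by rw [hsum]; abel]
    exact ((Commute.refl a).add_right (hab.trans hba.symm : Commute a b)).sub_right (Commute.ofNat_right a 2)
  have hfr : D ^ p ^ k = D := by
    have h1 : g ^ p ^ k = g := (pow_eq_pow_iff_modEq.2 hk1).trans (pow_one g)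
    have e : D = (a + b) - 2 := by rw [hsum]; abel
    conv_lhs => rw [e]
    rw [sub_pow_char_pow_of_commute p k (Commute.ofNat_right _ 2),
      add_pow_char_pow_of_commute p k (hab.trans hba.symm : Commute a b)]
    have h2 : (2 : Module.End F (U × U)) ^ p ^ k = 2 := by
      rw [← one_add_one_eq_two, add_pow_char_pow_of_commute p k (Commute.refl 1), one_pow]
    have h3 : g⁻¹ ^ p ^ k = g⁻¹ := by rw [inv_pow, h1]
    rw [ha, hb, ← map_pow, ← map_pow, h1, h3, h2, ← ha, ← hb, ← e]
  have hm0Q : m₀ ^ p ^ k = m₀ := by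
    rcases Nat.Prime.eq_two_or_odd' (Fact.out (p := p.Prime)) with h | h
    · exact absurd h (by omega)
    · obtain ⟨t, ht⟩ := h.pow (n := k)
      rw [ht, pow_succ, pow_mul, pow_two, hm2, one_pow, one_mul]
  have hDel : Del g' = m₀ • D := by rw [hD, smul_smul, hm2, one_smul]
  -- `D` is idempotent
  have hidem : D * D = D := by
    have hμ0 : minpoly F (Del g') ≠ 0 := minpoly.ne_zero (Algebra.IsIntegral.isIntegral _)
    obtain ⟨n, hn⟩ := dvd_pow_of_factors (R := X * (X - C m₀)) (μ := minpoly F (Del g')) (fun π hπ hd => by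
      by_cases h0 : π.eval 0 = 0
      · refine dvd_mul_of_dvd_left ?_ _
        rw [← coeff_zero_eq_eval_zero] at h0
        exact irreducible_X.dvd_symm hπ (X_dvd_iff.2 h0)
      · refine dvd_mul_of_dvd_right ?_ _
        have h := hroot hπ h0 (S.ker_ne_bot_of_dvd hπ hd) (-m₀) (neg_ne_zero.2 hm00) hneg
        rw [show -4 / -m₀ = m₀ by
          rw [neg_div_neg_eq, div_eq_iff hm00, hm2]
          linear_combination hthree] at h
        exact (irreducible_X_sub_C m₀).dvd_symm hπ (dvd_iff_isRoot.2 h)) hμ0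
    obtain ⟨E₀, hE₀⟩ : ∃ E₀, E₀ = D * D - D := ⟨_, rfl⟩
    have hnil : E₀ ^ n = 0 := by
      obtain ⟨c, hc⟩ := hn
      have h := congrArg (aeval (Del g')) hc
      rw [map_pow, map_mul, map_mul (aeval (Del g')) (minpoly F (Del g')), minpoly.aeval, zero_mul,
        map_sub, aeval_X, aeval_C] at h
      rw [← h]
      congr 1
      rw [hE₀, Algebra.algebraMap_eq_smul_one, hDel, mul_sub, smul_mul_smul_comm, hm2, one_smul,
        mul_smul_comm, mul_one, smul_smul, hm2, one_smul]
    have hEQ : E₀ ^ p ^ k = E₀ := by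
      rw [hE₀, sub_pow_char_pow_of_commute p k ((Commute.refl D).mul_left (Commute.refl D)),
        (Commute.refl D).mul_pow, hfr]
    have hiter : ∀ j : ℕ, E₀ ^ (p ^ k) ^ j = E₀ := by
      intro j
      induction j with
      | zero => simp
      | succ j ih => rw [pow_succ, pow_mul, ih, hEQ]
    have h2 : n ≤ (p ^ k) ^ n := (Nat.lt_pow_self (Nat.one_lt_pow hk.ne' (Fact.out (p := p.Prime)).one_lt)).le
    have := hiter n
    rw [pow_eq_zero_of_le h2 hnil, hE₀, eq_comm, sub_eq_zero] at this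
    exact this
  obtain ⟨hfix, hjop⟩ := ring_square (p := p) hab hcD.eq hsum hidem
    (by have := congrArg (algebraMap F (Module.End F (U × U))) hthree; rwa [map_ofNat, map_zero] at this)
    (n := orderOf g) (by rw [ha, ← map_pow, pow_orderOf_eq_one, map_one]) hcop
  obtain ⟨jj, hjj⟩ : ∃ jj, jj = ((g * g : pairGrp g') : (U × U) ≃ₗ[F] (U × U)) := ⟨_, rfl⟩
  have hjapp : ∀ z, jj z = z + D z := fun z => by
    have h := LinearMap.congr_fun hjop z
    rw [ha, ← map_mul, htoE, ← hjj] at h
    simpa using h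
  have hDNE : Commute D NE := hD ▸ (Del_NE g').smul_left m₀
  have hjc : Commute jj (rl 1) := by
    refine LinearEquiv.ext fun z => ?_
    rw [LinearEquiv.mul_apply, LinearEquiv.mul_apply, hjapp, hjapp, rl_eq, rl_eq, one_smul, one_smul,
      map_add, map_add, show D ((NE : Module.End F (U × U)) z) = (NE : Module.End F (U × U)) (D z) from
        LinearMap.congr_fun hDNE.eq z]
    abel
  have hMle := S.pairGrp_le hg
  have hjM : jj ∈ M := hjj ▸ hMle (g * g).2
  obtain ⟨e', A, hA, hAiso⟩ := S.form_of_comm hno hjM one_ne_zero hjc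
  have hjj2 : ∀ z, jj (jj z) = z := fun z => by
    rw [hjapp, hjapp, map_add, show D (D z) = D z from LinearMap.congr_fun hidem z]
    have : (3 : F) • D z = 0 := by rw [hthree, zero_smul]
    calc z + D z + (D z + D z) = z + (3 : F) • D z := by module
      _ = z := by rw [this, add_zero]
  have hA2 : ∀ u, A (A u) = u := fun u => by
    have := hjj2 (u, 0)
    rw [hA, hA] at this
    simpa using congrArg Prod.fst this
  have he'0 : e' = 0 := by
    obtain ⟨u, hu⟩ := exists_ne (0 : U)
    have := hjj2 (0, u)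
    rw [hA, hA] at this
    have h1 : (2 * e') • A (A u) = 0 := by
      have h2 := congrArg Prod.fst this
      simp only [map_zero, zero_add, map_smul] at h2
      rw [← h2]; module
    rw [hA2, smul_eq_zero] at h1
    exact (mul_eq_zero.1 (h1.resolve_right hu)).resolve_left S.two
  obtain ⟨P₀, hP₀⟩ : ∃ P₀ : U →ₗ[F] U, P₀ = A.toLinearMap - LinearMap.id := ⟨_, rfl⟩
  have hDz : ∀ z, D z = (P₀ z.1, P₀ z.2) := fun z => by
    have h := (hjapp z).symm.trans (hA z)
    rw [he'0, zero_smul, add_zero] at h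
    rw [← sub_eq_iff_eq_add'.2 h.symm, hP₀]
    exact Prod.ext (by simp) (by simp)
  have hPidem : ∀ u, P₀ (P₀ u) = P₀ u := fun u => by
    have := LinearMap.congr_fun hidem (u, 0)
    rw [Module.End.mul_apply, hDz, hDz] at this
    simpa using congrArg Prod.fst this
  have hPself : ∀ x y, β (P₀ x) y = β x (P₀ y) := fun x y => by
    have h := hAiso x (A y)
    rw [hA2] at h
    simp only [hP₀, LinearMap.sub_apply, LinearEquiv.coe_coe, LinearMap.id_apply, map_sub, h]
  have hTP : T ≤ LinearMap.ker P₀ := fun u hu => by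
    have h : D (u, 0) = 0 := by rw [hD, LinearMap.smul_apply, Del_fix g' hT hu, smul_zero]
    rw [hDz] at h
    exact congrArg Prod.fst h
  have hgfix : ∀ z, D z = 0 → g.1 z = z := fun z hz => by
    have h := LinearMap.congr_fun hfix z
    simp only [Module.End.mul_apply, LinearMap.sub_apply, Module.End.one_apply, hz, sub_zero, ha, htoE] at h
    exact h
  have hgM : g.1 ∈ M := hMle g.2
  by_cases hisov : ∃ c ∈ LinearMap.ker P₀, c ≠ 0 ∧ β c c = 0
  swap
  · have hle : finrank F (LinearMap.ker P₀) ≤ 2 := by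
      by_contra h
      exact hisov (S.exists_isotropic (LinearMap.ker P₀) (by omega))
    have hTle := Submodule.finrank_mono hTP
    obtain ⟨hd4, hR'⟩ : finrank F U = 4 ∧ Rig β := h5.resolve_left (by omega)
    push Not at hisov
    refine S.false_of_quarter_rel hno hR' hthree (fun x => ?_) hd4 hPidem hPself
      (by omega) (fun c hc hc0 => hisov c hc hc0) hgM (fun z h1 h2 => hgfix z ?_) (fun z => ?_) (fun z h1 h2 => ?_)
      (fun z => ?_)
    · rcases mul_self_eq_one_iff.1 hm2 with e | e <;> rcases hall x with h | h | h <;> simp [h, e]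
    · rw [hDz, h1, h2]; rfl
    · have h := LinearMap.congr_fun hcD.eq z
      simp only [Module.End.mul_apply, ha, htoE, hDz] at h
      exact h
    · have hzD : D z = z := by rw [hDz, h1, h2]
      have h := LinearMap.congr_fun hsum z
      simp only [LinearMap.add_apply, ha, hb, htoE, hzD] at h
      rw [eq_neg_iff_add_eq_zero, add_comm, show g.1⁻¹ z = (g⁻¹ : pairGrp g').1 z from rfl, h]
      rw [show (2 : Module.End F (U × U)) = algebraMap F _ 2 from (map_ofNat _ 2).symm,
        Module.algebraMap_end_apply, show (2 : F) • z + z = (3 : F) • z by module, hthree, zero_smul]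
    · have e : rl (-1 : F) * g.1 = g' * rl m₀ * g'⁻¹ := by
        rw [hgdef, Subgroup.coe_mul, xG, yG, ← mul_assoc, rl_mul, neg_add_cancel, rl_zero, one_mul]
      have e' : (g' * rl m₀ * g'⁻¹ : (U × U) ≃ₗ[F] (U × U))⁻¹ = g' * rl (-m₀) * g'⁻¹ :=
        inv_eq_of_mul_eq_one_right (by
          rw [show g' * rl m₀ * g'⁻¹ * (g' * rl (-m₀) * g'⁻¹) = g' * (rl m₀ * rl (-m₀)) * g'⁻¹ by group,
            rl_mul, add_neg_cancel, rl_zero, mul_one, mul_inv_cancel])
      rw [e, e', conj_rl_apply, conj_rl_apply]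
      module
  obtain ⟨c, hc, hc0, hcc⟩ := hisov
  have hgc1 : g.1 (c, 0) = (c, 0) :=
    hgfix _ (by rw [hDz]; simp only [LinearMap.mem_ker.1 hc, map_zero]; rfl)
  have hgc2 : g.1 (0, c) = (0, c) :=
    hgfix _ (by rw [hDz]; simp only [LinearMap.mem_ker.1 hc, map_zero]; rfl)
  obtain ⟨Bm, hBm⟩ : ∃ Bm : U →ₗ[F] U, Bm = (LinearMap.snd F U U) ∘ₗ (g.1 : U × U →ₗ[F] U × U) ∘ₗ
      (LinearMap.inl F U U) ∘ₗ P₀ := ⟨_, rfl⟩
  have hBap : ∀ u, Bm u = (g.1 (P₀ u, 0)).2 := fun u => by rw [hBm]; rfl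
  have hdiag : ∀ u, β (Bm u) (P₀ u) = 0 := fun u => by
    have hcv : β c (P₀ u) = 0 := by
      rw [← hPself, LinearMap.mem_ker.1 hc, map_zero, LinearMap.zero_apply]
    have h := S.om_apply_self_eq_zero hno hgM hc0 hcc hcv hgc1 hgc2
    rw [hBap]
    simpa [om] using h
  -- the inverse is the negative on the image
  have hBself : ∀ u w, β (Bm u) (P₀ w) = β (P₀ u) (Bm w) := fun u w => by
    have hPD : D ((P₀ w, 0) : U × U) = (P₀ w, 0) := by rw [hDz]; simp [hPidem]
    have h1 : b ((P₀ w, 0) : U × U) = - g.1 (P₀ w, 0) := by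
      have h := LinearMap.congr_fun hsum ((P₀ w, 0) : U × U)
      simp only [LinearMap.add_apply, hPD, ha, htoE] at h
      rw [eq_neg_iff_add_eq_zero, add_comm, h]
      have : (2 : Module.End F (U × U)) ((P₀ w, 0) : U × U) = (2 : F) • ((P₀ w, 0) : U × U) := by
        rw [show (2 : Module.End F (U × U)) = algebraMap F _ 2 from (map_ofNat _ 2).symm,
          Module.algebraMap_end_apply]
      rw [this, show (2 : F) • ((P₀ w, 0) : U × U) + (P₀ w, 0) = (3 : F) • ((P₀ w, 0) : U × U) by module,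
        hthree, zero_smul]
    have h2 := S.iso _ hgM (P₀ u, 0) (b ((P₀ w, 0) : U × U))
    rw [show g.1 (b ((P₀ w, 0) : U × U)) = (P₀ w, 0) from by
      rw [← htoE g, ← ha, ← Module.End.mul_apply, hab, Module.End.one_apply], h1] at h2
    simp only [om, map_neg, map_zero, Prod.fst_neg, Prod.snd_neg, LinearMap.zero_apply] at h2
    rw [hBap, hBap]
    linear_combination -h2
  have hB0 : ∀ u, Bm u = 0 := by
    have hsymB : ∀ u w, β (Bm u) (P₀ w) = 0 := fun u w => by
      have h := hdiag (u + w)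
      simp only [map_add, LinearMap.add_apply, hdiag u, hdiag w, zero_add, add_zero] at h
      have h2 : β (Bm w) (P₀ u) = β (Bm u) (P₀ w) := by rw [hBself w u, S.symm]
      have h4 : (2 : F) * β (Bm u) (P₀ w) = 0 := by linear_combination h - h2
      exact (mul_eq_zero.1 h4).resolve_left S.two
    intro u
    have hrange : P₀ (Bm u) = Bm u := by
      have hcomm := LinearMap.congr_fun hcD.eq ((P₀ u, 0) : U × U)
      simp only [Module.End.mul_apply, ha, htoE, hDz, hPidem, map_zero] at hcomm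
      rw [hBap]
      exact (congrArg Prod.snd hcomm).symm
    refine S.nondeg _ fun w => ?_
    rw [← hrange, hPself]
    exact hsymB u w
  have hgs : Stab g.1 := fun u => by
    have e : ((u, 0) : U × U) = (P₀ u, 0) + (u - P₀ u, 0) := by simp
    have h1 : g.1 (u - P₀ u, 0) = (u - P₀ u, 0) := hgfix _ (by rw [hDz]; simp [hPidem])
    rw [e, map_add, h1, Prod.snd_add, ← hBap, hB0, add_zero]
  have hys : Stab (g' * rl m₀ * g'⁻¹) := fun u => by
    have h := hgs u
    rw [hgdef, Subgroup.coe_mul, LinearEquiv.mul_apply] at h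
    simpa [xG, yG] using h
  have hyM : g' * rl m₀ * g'⁻¹ ∈ M := M.mul_mem (M.mul_mem hg (S.rl_mem m₀)) (M.inv_mem hg)
  have hcomm := S.comm_of_stab_pelt hno hyM hys (k := 1) (p := p) (by
    rw [pow_one, conj_pow, rl_pow, CharP.cast_eq_zero, zero_mul, rl_zero, mul_one, mul_inv_cancel]) 1
  exact hns m₀ 1 hm00 one_ne_zero hcomm

/-- Without radical elements the group consists of tensor maps. -/
theorem le_kr_of_noRad [Finite F] [Finite ((U × U) ≃ₗ[F] (U × U))] (hR : Rig β) (hno : NoRad M)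
    (hbig : 5 ≤ finrank F U ∨ 5 ≤ Nat.card F) :
    ∀ g ∈ M, IsKr g := by
  by_contra hex
  push Not at hex
  obtain ⟨g', hg, hns, T, hTd, hT⟩ := S.exists_pair hno hex
  exact S.false_of_far hno (hbig.imp id fun h => Or.inl h) hg (fun m l hm hl hc => hns (S.stab_of_conj_comm hR hno hg hm hl hc)) hTd hT

/-- In dimension four, without radical elements the group consists of tensor maps, over any field. -/
theorem le_kr_of_noRad_four [Finite F] [Finite ((U × U) ≃ₗ[F] (U × U))] (hR : Rig β) (hno : NoRad M)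
    (hd : finrank F U = 4) : ∀ g ∈ M, IsKr g := by
  by_contra hex
  push Not at hex
  obtain ⟨g', hg, hns, T, hTd, hT⟩ := S.exists_pair hno hex
  exact S.false_of_far hno (Or.inr (Or.inr ⟨hd, hR⟩)) hg
    (fun m l hm hl hc => hns (S.stab_of_conj_comm hR hno hg hm hl hc)) hTd hT

end Setup

end Cfsg.Agent.Lib.SpOTensor
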