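import Cfsg.Agent.Lib.SpOTensor.Pairs

/-!
A non-scalar radical element gives every transvection.
-/

set_option autoImplicit false
set_option linter.unusedSectionVars false

namespace Cfsg.Agent.Lib.SpOTensor

open Module

variable {F U : Type*} [Field F] [AddCommGroup U] [Module F U]
  {β : LinearMap.BilinForm F U} {M : Subgroup ((U × U) ≃ₗ[F] (U × U))}

/-- Every transvection with centre `Z` lies in `M`. -/
def IsRoot (β : LinearMap.BilinForm F U) (M : Subgroup ((U × U) ≃ₗ[F] (U × U))) (Z : U × U) : Prop :=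
  ∀ a : F, ∃ g ∈ M, ∀ w, g w = w + (a * om β w Z) • Z

/-- The rank-two self-adjoint map of two vectors. -/
def sym2 (β : LinearMap.BilinForm F U) (v w : U) : U →ₗ[F] U := (β v).smulRight w + (β w).smulRight v

theorem sym2_apply (v w x : U) : sym2 β v w x = β v x • w + β w x • v := rfl

namespace Setup

variable (S : Setup β M)
include S

theorem root_smul {Z : U × U} (hZ : IsRoot β M Z) (t : F) : IsRoot β M (t • Z) := fun a => by
  obtain ⟨g, hg, hgz⟩ := hZ (a * (t * t))
  refine ⟨g, hg, fun w => ?_⟩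
  rw [hgz]
  simp only [om, Prod.smul_fst, Prod.smul_snd, map_smul, smul_eq_mul, smul_smul]
  congr 2
  ring

theorem root_map {Z : U × U} (hZ : IsRoot β M Z) {h : (U × U) ≃ₗ[F] (U × U)} (hh : h ∈ M) :
    IsRoot β M (h Z) := fun a => by
  obtain ⟨g, hg, hgz⟩ := hZ a
  refine ⟨h * g * h⁻¹, M.mul_mem (M.mul_mem hh hg) (M.inv_mem hh), fun w => ?_⟩
  rw [LinearEquiv.mul_apply, LinearEquiv.mul_apply, hgz, map_add, map_smul,
    show h (h⁻¹ w) = w from h.apply_symm_apply w,
    ← S.iso h hh (h⁻¹ w) Z, show h (h⁻¹ w) = w from h.apply_symm_apply w]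

theorem root_add {Y Z : U × U} (hY : IsRoot β M Y) (hZ : IsRoot β M Z) (hne : om β Y Z ≠ 0) :
    IsRoot β M (Y + Z) := by
  obtain ⟨g, hg, hgz⟩ := hZ (om β Y Z)⁻¹
  have h := S.root_map hY hg
  rwa [hgz, inv_mul_cancel₀ hne, one_smul] at h

theorem rad_self_adjoint {L : U →ₗ[F] U} (hL : rad L ∈ M) (x y : U) : β (L x) y = β x (L y) := by
  have h := S.iso _ hL (0, x) (0, y)
  simp [om] at h
  linear_combination h

/-- Conjugating a radical element by an isometry. -/
theorem rad_conj {L : U →ₗ[F] U} (hL : rad L ∈ M) {A : U ≃ₗ[F] U} (hA : ∀ x y, β (A x) (A y) = β x y) :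
    rad (A.toLinearMap ∘ₗ L ∘ₗ A.symm.toLinearMap) ∈ M := by
  have e : dia A * rad L * (dia A)⁻¹ = rad (A.toLinearMap ∘ₗ L ∘ₗ A.symm.toLinearMap) := by
    rw [mul_inv_eq_iff_eq_mul]
    refine LinearEquiv.ext fun z => ?_
    simp [LinearEquiv.mul_apply, map_add]
  exact e ▸ M.mul_mem (M.mul_mem (S.dia_mem hA) hL) (M.inv_mem (S.dia_mem hA))

theorem rad_smul_sq {L : U →ₗ[F] U} (hL : rad L ∈ M) {t : F} (ht : t ≠ 0) : rad ((t * t) • L) ∈ M := by
  let h : (U × U) ≃ₗ[F] (U × U) :=
    (LinearEquiv.smulOfNeZero F U t ht).prodCongr (LinearEquiv.smulOfNeZero F U t⁻¹ (inv_ne_zero ht))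
  have hh : ∀ z, h z = (t • z.1, t⁻¹ • z.2) := fun z => rfl
  have hM : h ∈ M := by
    refine S.kr _ (fun z w => ?_) ⟨t, 0, 0, t⁻¹, LinearEquiv.refl F U, fun z => by simp [hh]⟩
    simp only [om, hh, map_smul, LinearMap.smul_apply, smul_eq_mul]
    field_simp
  have e : h * rad L * h⁻¹ = rad ((t * t) • L) := by
    rw [mul_inv_eq_iff_eq_mul]
    refine LinearEquiv.ext fun z => ?_
    simp [LinearEquiv.mul_apply, hh, smul_add, smul_smul, mul_assoc, ht]
  exact e ▸ M.mul_mem (M.mul_mem hM hL) (M.inv_mem hM)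

theorem rad_smul {L : U →ₗ[F] U} (hL : rad L ∈ M) (t : F) : rad (t • L) ∈ M := by
  have hsq : ∀ s : F, rad ((s * s) • L) ∈ M := fun s => by
    by_cases hs : s = 0
    · rw [hs, mul_zero, zero_smul, rad_zero]; exact M.one_mem
    · exact S.rad_smul_sq hL hs
  have h2 := S.two
  have e : t • L = (((t + 1) / 2) * ((t + 1) / 2)) • L + -((((t - 1) / 2) * ((t - 1) / 2)) • L) := by
    rw [← neg_smul, ← add_smul]
    congr 1
    field_simp
    ring
  rw [e, ← rad_mul, ← rad_inv]
  exact M.mul_mem (hsq _) (M.inv_mem (hsq _))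

theorem rad_sub {L L' : U →ₗ[F] U} (hL : rad L ∈ M) (hL' : rad L' ∈ M) : rad (L - L') ∈ M := by
  rw [sub_eq_add_neg, ← rad_mul, ← rad_inv]
  exact M.mul_mem hL (M.inv_mem hL')

theorem sym2_conj {v w : U} {A : U ≃ₗ[F] U} (hA : ∀ x y, β (A x) (A y) = β x y)
    (h : rad (sym2 β v w) ∈ M) : rad (sym2 β (A v) (A w)) ∈ M := by
  have e : A.toLinearMap ∘ₗ sym2 β v w ∘ₗ A.symm.toLinearMap = sym2 β (A v) (A w) := by
    refine LinearMap.ext fun x => ?_
    have e1 : ∀ u, β u (A.symm x) = β (A u) x := fun u => by rw [← hA u (A.symm x), A.apply_symm_apply]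
    simp [sym2_apply, map_add, map_smul, e1]
  exact e ▸ S.rad_conj h hA

/-- Some isotropic rank-one map. -/
theorem exists_rank_one [Finite F] (h4 : 4 ≤ finrank F U) (hno : ¬ NoRad M) :
    ∃ c, c ≠ 0 ∧ β c c = 0 ∧ rad ((β c).smulRight c) ∈ M := by
  haveI := S.finiteDimensional
  haveI := S.nontrivial
  have h2 := S.two
  simp only [NoRad, not_forall] at hno
  obtain ⟨L, hL, hns⟩ := hno
  push Not at hns
  -- an anisotropic vector which is not an eigenvector
  obtain ⟨v, hv, hne⟩ : ∃ v, β v v ≠ 0 ∧ ∀ e : F, L v ≠ e • v := by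
    by_contra hall
    push Not at hall
    have heig : ∀ c, ∃ e : F, L c = e • c := by
      intro c
      by_cases hc : β c c = 0
      swap
      · exact hall c hc
      by_cases hc0 : c = 0
      · exact ⟨0, by simp [hc0]⟩
      obtain ⟨w, hw, hww⟩ := S.exists_aniso (β.orthogonal (F ∙ c)) (by
        have := S.le_finrank_orth_span c; have := h4; omega)
      rw [S.mem_orth_span] at hw
      obtain ⟨a, ha⟩ := hall (c + w) (by simp [hc, hw, S.symm w c, hww])
      obtain ⟨b, hb⟩ := hall (c - w) (by simp [hc, hw, S.symm w c, hww])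
      obtain ⟨e, he⟩ := hall w hww
      rw [map_add, he, smul_add, ← eq_sub_iff_add_eq] at ha
      rw [map_sub, he, smul_sub, sub_eq_iff_eq_add, ha] at hb
      have h3 : (a - b) • c + (a + b - 2 * e) • w = 0 := by
        rw [← sub_eq_zero] at hb; rw [← hb]; module
      have h4 : (a + b - 2 * e) * β w w = 0 := by
        have h5 := congrArg (β w) h3
        simpa [S.symm w c, hw] using h5
      have h5 : a + b - 2 * e = 0 := (mul_eq_zero.mp h4).resolve_right hww
      rw [h5, zero_smul, add_zero, smul_eq_zero] at h3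
      have h6 : a = b := sub_eq_zero.mp (h3.resolve_right hc0)
      have h7 : a = e := by
        have : (2 : F) * (a - e) = 0 := by linear_combination h5 + h6
        exact sub_eq_zero.mp ((mul_eq_zero.mp this).resolve_left h2)
      exact ⟨a, by rw [ha, h7]; abel⟩
    obtain ⟨u, hu⟩ := exists_ne (0 : U)
    obtain ⟨e, he⟩ := heig u
    obtain ⟨x, hx⟩ := hns e
    refine hx ?_
    obtain ⟨a, ha⟩ := heig x
    obtain ⟨b, hb⟩ := heig (u + x)
    by_cases hxu : x ∈ F ∙ u
    · obtain ⟨t, rfl⟩ := Submodule.mem_span_singleton.1 hxu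
      rw [map_smul, he, smul_comm]
    rw [map_add, he, ha] at hb
    have h3 : (e - b) • u + (a - b) • x = 0 := by
      rw [← sub_eq_zero] at hb; rw [← hb]; module
    have hab : a - b = 0 := by
      by_contra h
      refine hxu (Submodule.mem_span_singleton.2 ⟨-((a - b)⁻¹ * (e - b)), ?_⟩)
      have := congrArg ((a - b)⁻¹ • ·) h3
      simp only [smul_add, smul_smul, inv_mul_cancel₀ h, one_smul, smul_zero] at this
      rw [eq_neg_of_add_eq_zero_right this, neg_smul]
    rw [hab, zero_smul, add_zero, smul_eq_zero] at h3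
    rw [ha, sub_eq_zero.mp hab, ← sub_eq_zero.mp (h3.resolve_right hu)]
  obtain ⟨κ, hκ⟩ : ∃ κ, κ = β v (L v) / β v v := ⟨_, rfl⟩
  obtain ⟨w, hw⟩ : ∃ w, w = L v - κ • v := ⟨_, rfl⟩
  have hw0 : w ≠ 0 := fun e => hne κ (sub_eq_zero.mp (hw ▸ e))
  have hvw : β v w = 0 := by rw [hw, map_sub, map_smul, hκ, smul_eq_mul, div_mul_cancel₀ _ hv, sub_self]
  have hs1 : rad (sym2 β v w) ∈ M := by
    have h := S.rad_smul (S.rad_sub hL (S.rad_conj hL (S.reflE_iso hv))) (β v v / 2)
    convert h using 2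
    refine LinearMap.ext fun x => ?_
    have esymm : (S.reflE hv).symm x = S.reflE hv x := by
      rw [LinearEquiv.symm_apply_eq]; exact (S.refl_refl hv x).symm
    simp only [LinearMap.smul_apply, LinearMap.sub_apply, LinearMap.comp_apply, LinearEquiv.coe_coe, esymm,
      S.reflE_apply, map_sub, map_smul, smul_eq_mul]
    rw [sym2_apply, hw, map_sub, map_smul, LinearMap.sub_apply, LinearMap.smul_apply, smul_eq_mul,
      S.rad_self_adjoint hL v x, hκ]
    match_scalars <;> field_simp <;> ring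
  obtain ⟨u, hu, huu, huw⟩ : ∃ u, β v u = 0 ∧ β u u ≠ 0 ∧ β u w ≠ 0 := by
    by_cases hww : β w w = 0
    swap
    · exact ⟨w, hvw, hww, hww⟩
    obtain ⟨y, hy⟩ : ∃ y, β w y ≠ 0 := by
      by_contra hh
      push Not at hh
      exact hw0 (S.nondeg w hh)
    obtain ⟨u₀, hu₀⟩ : ∃ u₀, u₀ = y - (β v y / β v v) • v := ⟨_, rfl⟩
    have e1 : β v u₀ = 0 := by rw [hu₀, map_sub, map_smul, smul_eq_mul, div_mul_cancel₀ _ hv, sub_self]
    have e2 : β u₀ w = β w y := by
      rw [hu₀, map_sub, map_smul, LinearMap.sub_apply, LinearMap.smul_apply, hvw, smul_zero, sub_zero, S.symm]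
    by_cases h0 : β u₀ u₀ = 0
    · refine ⟨u₀ + w, by rw [map_add, e1, hvw, add_zero], ?_, ?_⟩
      · simp only [map_add, LinearMap.add_apply, h0, hww, S.symm w u₀, e2, zero_add, add_zero, ← two_mul]
        exact mul_ne_zero h2 hy
      · rw [map_add, LinearMap.add_apply, e2, hww, add_zero]; exact hy
    · exact ⟨u₀, e1, h0, by rw [e2]; exact hy⟩
  have step : ∀ {w u : U}, rad (sym2 β v w) ∈ M → β v u = 0 → β u u ≠ 0 → β u w ≠ 0 →
      rad (sym2 β v u) ∈ M := by
    intro w u hs1 hu huu huw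
    have h := S.sym2_conj (S.reflE_iso huu) hs1
    have h' := S.rad_smul (S.rad_sub hs1 h) (β u u / (2 * β u w))
    convert h' using 2
    refine LinearMap.ext fun x => ?_
    simp only [LinearMap.smul_apply, LinearMap.sub_apply, sym2_apply, S.reflE_apply, map_sub, map_smul,
      smul_eq_mul, S.symm u v, hu, mul_zero, zero_div, zero_smul, sub_zero]
    match_scalars <;> field_simp <;> ring
  obtain ⟨c, hcv0, hc0, hcc⟩ := S.exists_isotropic (β.orthogonal (F ∙ v)) (by
    have := S.le_finrank_orth_span v; omega)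
  rw [S.mem_orth_span] at hcv0
  obtain ⟨u', hu'v, hu'c, hu'u⟩ : ∃ u', β v u' = 0 ∧ β c u' = 0 ∧ β u' u' ≠ 0 := by
    by_contra hh
    push Not at hh
    obtain ⟨W, hW⟩ : ∃ W, W = β.orthogonal (Submodule.span F {v, c}) := ⟨_, rfl⟩
    have hWm : ∀ x, x ∈ W → β v x = 0 ∧ β c x = 0 := fun x hx => by
      rw [hW] at hx
      exact ⟨hx v (Submodule.subset_span (by simp)), hx c (Submodule.subset_span (by simp))⟩
    have hd := S.finrank_add_orth (Submodule.span F {v, c})
    have h3 : finrank F (Submodule.span F ({v, c} : Set U)) ≤ 2 := by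
      have := finrank_range_le_card (R := F) ![v, c]
      rw [Matrix.range_cons, Matrix.range_cons, Matrix.range_empty, Set.union_empty, Set.singleton_union] at this
      simpa [Set.finrank] using this
    have hle : W ≤ β.orthogonal W := fun x hx => S.mem_orth.2 fun y hy => by
      have h := hh (y + x) (by simp [(hWm y hy).1, (hWm x hx).1]) (by simp [(hWm y hy).2, (hWm x hx).2])
      simp only [map_add, LinearMap.add_apply, hh y (hWm y hy).1 (hWm y hy).2,
        hh x (hWm x hx).1 (hWm x hx).2, S.symm x y, zero_add, add_zero] at h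
      exact (mul_eq_zero.mp ((two_mul _).trans h)).resolve_left h2
    have hsp : Submodule.span F ({v, c} : Set U) ≤ β.orthogonal W := Submodule.span_le.2 fun x hx => S.mem_orth.2 fun y hy => by
      rw [S.symm]
      rcases hx with rfl | rfl
      · exact (hWm y hy).1
      · exact (hWm y hy).2
    have hdW := S.finrank_add_orth W
    rw [← hW] at hd
    have heq : Submodule.span F ({v, c} : Set U) = W :=
      (Submodule.eq_of_le_of_finrank_le hsp (by omega)).trans
        (Submodule.eq_of_le_of_finrank_le hle (by omega)).symm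
    exact hv (hWm v (heq ▸ Submodule.subset_span (by simp))).1
  have hsu : rad (sym2 β v u) ∈ M := step hs1 hu huu huw
  have hs2 : rad (sym2 β v u') ∈ M := by
    by_cases huu' : β u' u = 0
    swap
    · exact step hsu hu'v hu'u huu'
    by_cases hz : β (u + u') (u + u') = 0
    swap
    · refine step (step hsu (u := u + u') ?_ hz ?_) hu'v hu'u ?_
      · simp [hu, hu'v]
      · simp [huu', huu]
      · simp [huu', hu'u]
    obtain ⟨W, hW⟩ : ∃ W, W = β.orthogonal (Submodule.span F {v, u, u'}) := ⟨_, rfl⟩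
    have hu'u2 : β u u' = 0 := by rw [S.symm]; exact huu'
    have hWm : ∀ x, x ∈ W → β v x = 0 ∧ β u x = 0 ∧ β u' x = 0 := fun x hx => by
      rw [hW] at hx
      exact ⟨hx v (Submodule.subset_span (by simp)), hx u (Submodule.subset_span (by simp)),
        hx u' (Submodule.subset_span (by simp))⟩
    obtain ⟨x, hxW, hxx⟩ : ∃ x ∈ W, β x x ≠ 0 := by
      by_contra hh
      push Not at hh
      have hd := S.finrank_add_orth (Submodule.span F {v, u, u'})
      have h3 : finrank F (Submodule.span F ({v, u, u'} : Set U)) ≤ 3 := by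
        have := finrank_range_le_card (R := F) ![v, u, u']
        rw [Matrix.range_cons, Matrix.range_cons, Matrix.range_cons, Matrix.range_empty, Set.union_empty,
          Set.singleton_union, Set.singleton_union] at this
        simpa [Set.finrank] using this
      rw [← hW] at hd
      obtain ⟨x, hx, hx0⟩ := Submodule.exists_mem_ne_zero_of_ne_bot (p := W) fun e => by
        rw [e, finrank_bot] at hd; omega
      obtain ⟨y, hy⟩ : ∃ y, y = fun z => z - (β v z / β v v) • v - (β u z / β u u) • u -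
          (β u' z / β u' u') • u' := ⟨_, rfl⟩
      refine hx0 (S.nondeg x fun z => ?_)
      have hyW : y z ∈ W := by
        rw [hW]
        refine fun a ha => ?_
        induction ha using Submodule.span_induction with
        | mem a ha =>
          simp only [Set.mem_insert_iff, Set.mem_singleton_iff] at ha
          rcases ha with e | e | e <;> rw [e] <;>
            simp [hy, hu, hu'v, huu', hu'u2, S.symm u v, S.symm u' v, hv, huu, hu'u]
        | zero => simp
        | add a b _ _ ha hb => simp [ha, hb]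
        | smul t a _ ha => simp [ha]
      have h := hh (x + y z) (W.add_mem hx hyW)
      simp only [map_add, LinearMap.add_apply, hh x hx, hh _ hyW, S.symm (y z) x, zero_add, add_zero] at h
      have h0 := (mul_eq_zero.mp ((two_mul _).trans h)).resolve_left h2
      obtain ⟨e1, e2, e3⟩ := hWm x hx
      simpa [hy, S.symm x v, S.symm x u, S.symm x u', e1, e2, e3] using h0
    obtain ⟨hxv, hxu, hxu'⟩ := hWm x hxW
    have hzz : β (u + u' + x) (u + u' + x) ≠ 0 := by
      have e : β (u + u' + x) (u + u' + x) = β (u + u') (u + u') + β x x := by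
        simp [S.symm x u, S.symm x u', hxu, hxu']
      rw [e, hz, zero_add]; exact hxx
    refine step (step hsu (u := u + u' + x) ?_ hzz ?_) hu'v hu'u ?_
    · simp [hu, hu'v, hxv]
    · simp [huu', huu, S.symm x u, hxu]
    · simp [huu', hu'u, hxu']
  clear hsu huw huu hu
  clear u
  rename' u' => u
  have hu : β v u = 0 := hu'v
  have huu : β u u ≠ 0 := hu'u
  have hcv : β c v = 0 := by rw [S.symm]; exact hcv0
  have hcu : β c u = 0 := hu'c
  have hs3 : rad (sym2 β v c) ∈ M := by
    have h := S.sym2_conj (S.sieg_iso hcc hcu) hs2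
    have h' := S.rad_smul (S.rad_sub h hs2) (β u u)⁻¹
    convert h' using 2
    refine LinearMap.ext fun x => ?_
    simp only [LinearMap.smul_apply, LinearMap.sub_apply, sym2_apply, S.sieg_apply, map_add, map_sub, map_smul,
      LinearMap.add_apply, smul_eq_mul, hcu, hcv, S.symm u v, hu, mul_zero, zero_smul, sub_zero, add_zero]
    match_scalars <;> field_simp <;> ring
  refine ⟨c, hc0, hcc, ?_⟩
  have h := S.sym2_conj (S.sieg_iso hcc hcv) hs3
  have h' := S.rad_smul (S.rad_sub h hs3) (2 * β v v)⁻¹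
  convert h' using 2
  refine LinearMap.ext fun x => ?_
  simp only [LinearMap.smul_apply, LinearMap.sub_apply, sym2_apply, S.sieg_apply, map_add, map_sub, map_smul,
    LinearMap.add_apply, LinearMap.smulRight_apply, smul_eq_mul, hcv, hcc, S.symm v c, mul_zero, zero_smul,
    sub_zero, add_zero]
  match_scalars <;> field_simp <;> ring

/-- A subspace with a hyperbolic pair takes every value. -/
theorem exists_value {d y : U} (hd : β d d = 0) (hdy : β d y ≠ 0) (t : F) :
    ∃ s : F, β (y + s • d) (y + s • d) = t := by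
  refine ⟨(t - β y y) / (2 * β d y), ?_⟩
  have h2 := S.two
  simp only [map_add, map_smul, LinearMap.add_apply, LinearMap.smul_apply, smul_eq_mul, hd, S.symm y d]
  field_simp
  ring

/-- The orthogonal of a hyperbolic pair takes every non-zero value. -/
theorem exists_orth_value [Finite F] (h4 : 4 ≤ finrank F U) {c₁ c₂ : U} (h11 : β c₁ c₁ = 0) (h22 : β c₂ c₂ = 0)
    (h12 : β c₁ c₂ ≠ 0) (t : F) (ht : t ≠ 0) : ∃ e, β c₁ e = 0 ∧ β c₂ e = 0 ∧ β e e = t := by
  haveI := S.finiteDimensional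
  obtain ⟨W, hW⟩ : ∃ W, W = β.orthogonal (Submodule.span F {c₁, c₂}) := ⟨_, rfl⟩
  have hWm : ∀ x ∈ W, β c₁ x = 0 ∧ β c₂ x = 0 := fun x hx => by
    rw [hW] at hx
    exact ⟨hx c₁ (Submodule.subset_span (by simp)), hx c₂ (Submodule.subset_span (by simp))⟩
  have hd : 2 ≤ finrank F W := by
    have := S.finrank_add_orth (Submodule.span F {c₁, c₂})
    have h3 : finrank F (Submodule.span F ({c₁, c₂} : Set U)) ≤ 2 := by
      have := finrank_range_le_card (R := F) ![c₁, c₂]
      rw [Matrix.range_cons, Matrix.range_cons, Matrix.range_empty, Set.union_empty, Set.singleton_union] at this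
      simpa [Set.finrank] using this
    rw [← hW] at this
    omega
  let n := finrank F W
  let e : (Fin n → F) →ₗ[F] U := W.subtype.comp (Module.finBasis F W).equivFun.symm.toLinearMap
  let P : QuadraticForm F (Fin (n + 1) → F) :=
    ((LinearMap.BilinMap.toQuadraticMap β).comp (e ∘ₗ LinearMap.funLeft F F Fin.castSucc)) -
      t • (QuadraticMap.sq (R := F)).comp (LinearMap.proj (Fin.last n))
  obtain ⟨x, hx0, hx⟩ := FormMax.OrthSL.exists_zero_fin S.two (show 3 ≤ n + 1 by omega) P
  have hP : β (e (x ∘ Fin.castSucc)) (e (x ∘ Fin.castSucc)) = t * (x (Fin.last n) * x (Fin.last n)) := by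
    have h : P x = β (e (x ∘ Fin.castSucc)) (e (x ∘ Fin.castSucc)) - t * (x (Fin.last n) * x (Fin.last n)) := rfl
    rw [hx] at h
    linear_combination -h
  obtain ⟨w, hw⟩ : ∃ w, w = e (x ∘ Fin.castSucc) := ⟨_, rfl⟩
  have hwW : w ∈ W := hw ▸ ((Module.finBasis F W).equivFun.symm (x ∘ Fin.castSucc)).2
  rw [← hw] at hP
  by_cases hs : x (Fin.last n) = 0
  swap
  · refine ⟨(x (Fin.last n))⁻¹ • w, by simp [(hWm w hwW).1], by simp [(hWm w hwW).2], ?_⟩
    simp [hP]
    field_simp
  rw [hs, mul_zero, mul_zero] at hP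
  have hw0 : w ≠ 0 := fun e0 => hx0 (funext fun i => by
    have h1 : (Module.finBasis F W).equivFun.symm (x ∘ Fin.castSucc) = 0 :=
      Subtype.ext (by simpa [hw, e] using e0)
    have h2 := (LinearEquiv.map_eq_zero_iff _).mp h1
    rcases Fin.eq_castSucc_or_eq_last i with ⟨j, rfl⟩ | rfl
    · exact congrFun h2 j
    · exact hs)
  obtain ⟨z, hz⟩ : ∃ z, β w z ≠ 0 := by
    by_contra hh; push Not at hh; exact hw0 (S.nondeg _ hh)
  obtain ⟨z', hz'⟩ : ∃ z', z' = z - (β c₂ z / β c₁ c₂) • c₁ - (β c₁ z / β c₁ c₂) • c₂ := ⟨_, rfl⟩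
  have hz1 : β c₁ z' = 0 := by
    rw [hz', map_sub, map_sub, map_smul, map_smul, h11, smul_zero, sub_zero, smul_eq_mul,
      div_mul_cancel₀ _ h12, sub_self]
  have hz2 : β c₂ z' = 0 := by
    rw [hz', map_sub, map_sub, map_smul, map_smul, h22, smul_zero, sub_zero, smul_eq_mul, S.symm c₂ c₁,
      div_mul_cancel₀ _ h12, sub_self]
  have hzw : β w z' ≠ 0 := by
    rw [hz', map_sub, map_sub, map_smul, map_smul, S.symm w c₁, S.symm w c₂, (hWm w hwW).1, (hWm w hwW).2,
      smul_zero, sub_zero, smul_zero, sub_zero]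
    exact hz
  obtain ⟨s', hs'⟩ := S.exists_value hP hzw t
  exact ⟨z' + s' • w, by simp [hz1, (hWm w hwW).1], by simp [hz2, (hWm w hwW).2], hs'⟩

/-- All vectors are roots. -/
theorem all_roots [Finite F] (h4 : 4 ≤ finrank F U) (hno : ¬ NoRad M) (Z : U × U) : IsRoot β M Z := by
  haveI := S.finiteDimensional
  haveI := S.nontrivial
  have h2 := S.two
  obtain ⟨c₀, hc0, hcc, hc⟩ := S.exists_rank_one h4 hno
  have hbase : IsRoot β M (c₀, 0) := fun a => by
    refine ⟨rad ((-a) • (β c₀).smulRight c₀), S.rad_smul hc _, fun w => ?_⟩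
    refine Prod.ext ?_ (by simp)
    simp [om, S.symm w.2 c₀, smul_smul]
  have hswapM : ∀ p q : U, IsRoot β M (p, q) → IsRoot β M (-q, p) := by
    intro p q h
    let s : (U × U) ≃ₗ[F] (U × U) :=
      { toFun := fun z => (-z.2, z.1)
        map_add' := fun z w => by simp [add_comm]
        map_smul' := fun t z => by simp
        invFun := fun z => (z.2, -z.1)
        left_inv := fun z => by simp
        right_inv := fun z => by simp }
    have hsap : ∀ z, s z = (-z.2, z.1) := fun z => rfl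
    have hs : s ∈ M := S.kr _ (fun z w => by
      simp only [om, hsap, map_neg, LinearMap.neg_apply, S.symm z.2 w.1, S.symm w.2 z.1]
      rw [S.symm z.1 w.2]; ring) ⟨0, -1, 1, 0, LinearEquiv.refl F U, fun z => by simp [hsap]⟩
    exact hsap (p, q) ▸ S.root_map h hs
  have hdia : ∀ {p q : U} {A : U ≃ₗ[F] U}, (∀ x y, β (A x) (A y) = β x y) → IsRoot β M (p, q) →
      IsRoot β M (A p, A q) := fun {p q A} hA h => dia_apply A (p, q) ▸ S.root_map h (S.dia_mem hA)
  -- isotropic vectors
  have hmove : ∀ c c' : U, β c c = 0 → β c' c' = 0 → β c c' ≠ 0 → IsRoot β M (c, 0) → IsRoot β M (c', 0) := by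
    intro c c' h h' hne hr
    have hv : β (c - c') (c - c') ≠ 0 := by
      simp only [map_sub, LinearMap.sub_apply, h, h', S.symm c' c]
      intro e
      exact hne ((mul_eq_zero.mp (show (2 : F) * β c c' = 0 by linear_combination -e)).resolve_left h2)
    have e : S.reflE hv c = c' := by
      rw [S.reflE_apply, show 2 * β (c - c') c / β (c - c') (c - c') = 1 by
        rw [div_eq_one_iff_eq hv]
        simp only [map_sub, LinearMap.sub_apply, h, h', S.symm c' c]
        ring, one_smul, sub_sub_cancel]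
    simpa [e] using hdia (S.reflE_iso hv) hr
  have hiso : ∀ c : U, c ≠ 0 → β c c = 0 → IsRoot β M (c, 0) := by
    intro c hc hcz
    by_cases hne : β c₀ c = 0
    swap
    · exact hmove c₀ c hcc hcz hne hbase
    obtain ⟨y, hy0, hy⟩ : ∃ y, β c₀ y ≠ 0 ∧ β c y ≠ 0 := by
      obtain ⟨y₁, hy₁⟩ : ∃ y, β c₀ y ≠ 0 := by
        by_contra hh; push Not at hh; exact hc0 (S.nondeg _ hh)
      obtain ⟨y₂, hy₂⟩ : ∃ y, β c y ≠ 0 := by
        by_contra hh; push Not at hh; exact hc (S.nondeg _ hh)
      by_cases e1 : β c y₁ = 0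
      · by_cases e2 : β c₀ y₂ = 0
        · exact ⟨y₁ + y₂, by simp [e2, hy₁], by simp [e1, hy₂]⟩
        · exact ⟨y₂, e2, hy₂⟩
      · exact ⟨y₁, hy₁, e1⟩
    obtain ⟨s, hs⟩ := S.exists_value hcc hy0 0
    have e1 : β c₀ (y + s • c₀) ≠ 0 := by simp [hcc, hy0]
    have e2 : β (y + s • c₀) c ≠ 0 := by simp [hne, S.symm y c, hy]
    exact hmove _ c hs hcz e2 (hmove c₀ _ hcc hs e1 hbase)
  have hiso2 : ∀ c : U, c ≠ 0 → β c c = 0 → IsRoot β M (0, c) := fun c hc hcz => by
    simpa using hswapM c 0 (hiso c hc hcz)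
  have hfst : ∀ u : U, IsRoot β M (u, 0) := by
    intro u
    rcases eq_or_ne u 0 with rfl | hu
    · rw [show ((0 : U), (0 : U)) = (0 : F) • ((c₀, 0) : U × U) from (zero_smul F _).symm]
      exact S.root_smul hbase 0
    by_cases huu : β u u = 0
    · exact hiso u hu huu
    -- `u` as a sum of two isotropic vectors
    obtain ⟨d, hd, hd0, hdd⟩ := S.exists_isotropic (β.orthogonal (F ∙ u)) (by
      have := S.le_finrank_orth_span u; have := h4; omega)
    rw [S.mem_orth_span] at hd
    obtain ⟨y, hy⟩ : ∃ y, β d y ≠ 0 := by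
      by_contra hh; push Not at hh; exact hd0 (S.nondeg _ hh)
    obtain ⟨y', hy'⟩ : ∃ y', y' = y - (β u y / β u u) • u := ⟨_, rfl⟩
    have hy1 : β u y' = 0 := by rw [hy', map_sub, map_smul, smul_eq_mul, div_mul_cancel₀ _ huu, sub_self]
    have hy2 : β d y' ≠ 0 := by rw [hy', map_sub, map_smul, S.symm d u, hd, smul_zero, sub_zero]; exact hy
    obtain ⟨s, hs⟩ := S.exists_value hdd hy2 (-β u u)
    obtain ⟨w, hw⟩ : ∃ w, w = y' + s • d := ⟨_, rfl⟩
    rw [← hw] at hs
    have huw : β u w = 0 := by rw [hw, map_add, map_smul, hy1, hd, smul_zero, add_zero]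
    obtain ⟨c₁, hc₁⟩ : ∃ c₁, c₁ = (1 / 2 : F) • (u + w) := ⟨_, rfl⟩
    obtain ⟨c₂, hc₂⟩ : ∃ c₂, c₂ = (1 / 2 : F) • (u - w) := ⟨_, rfl⟩
    have hsum : c₁ + c₂ = u := by rw [hc₁, hc₂]; match_scalars <;> field_simp <;> ring
    have h11 : β c₁ c₁ = 0 := by simp [hc₁, huw, S.symm w u, hs]
    have h22 : β c₂ c₂ = 0 := by simp [hc₂, huw, S.symm w u, hs]
    have h12 : β c₁ c₂ ≠ 0 := by
      intro e
      apply huu
      rw [← hsum]
      simp [h11, h22, e, S.symm c₂ c₁]
    obtain ⟨e, he1, he2, hs'⟩ := S.exists_orth_value h4 h11 h22 h12 (-2 * β c₁ c₂) (by simp [h2, h12])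
    obtain ⟨c₃, hc₃⟩ : ∃ c₃, c₃ = c₁ + c₂ + e := ⟨_, rfl⟩
    have h13 : β c₁ c₃ = β c₁ c₂ := by rw [hc₃, map_add, map_add, h11, he1]; ring
    have h23 : β c₂ c₃ = β c₁ c₂ := by rw [hc₃, map_add, map_add, h22, he2, S.symm c₂ c₁]; ring
    have h33 : β c₃ c₃ = 0 := by
      simp only [hc₃, map_add, LinearMap.add_apply, h11, h22, he1, he2, hs', S.symm e c₁, S.symm e c₂,
        S.symm c₂ c₁]
      ring
    have hne : ∀ {x : U}, β x c₃ ≠ 0 → c₃ ≠ 0 := fun {x} h e0 => h (by rw [e0, map_zero])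
    have hc₁0 : c₁ ≠ 0 := fun e0 => h12 (by rw [e0, map_zero, LinearMap.zero_apply])
    have hc₂0 : c₂ ≠ 0 := fun e0 => h12 (by rw [e0, map_zero])
    have hc₃0 : c₃ ≠ 0 := hne (h13.symm ▸ h12)
    have r1 := S.root_add (hiso c₁ hc₁0 h11) (hiso2 c₃ hc₃0 h33) (by simp [om, h13, h12])
    simp only [Prod.mk_add_mk, add_zero, zero_add] at r1
    have r2 := S.root_add r1 (hiso c₂ hc₂0 h22) (by simp [om, S.symm c₃ c₂, h23, h12])
    simp only [Prod.mk_add_mk, add_zero, hsum] at r2
    have r3 := S.root_add r2 (hiso2 (-c₃) (neg_ne_zero.2 hc₃0) (by simp [h33])) (by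
      have h4 : β u c₃ = 2 * β c₁ c₂ := by rw [← hsum, map_add, LinearMap.add_apply, h13, h23]; ring
      simp [om, h4, h2, h12])
    simpa using r3
  have hsnd : ∀ u : U, IsRoot β M (0, u) := fun u => by simpa using hswapM u 0 (hfst u)
  obtain ⟨p, q⟩ := Z
  rcases eq_or_ne q 0 with rfl | hq
  · exact hfst p
  by_cases hpq : β p q = 0
  swap
  · simpa using S.root_add (hfst p) (hsnd q) (by simp [om, hpq])
  obtain ⟨z, hz⟩ : ∃ z, β q z ≠ 0 := by
    by_contra hh; push Not at hh; exact hq (S.nondeg _ hh)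
  have r1 := S.root_add (hfst (p - z)) (hsnd q) (by simp [om, hpq, S.symm z q, hz])
  simp only [Prod.mk_add_mk, add_zero, zero_add] at r1
  simpa using S.root_add r1 (hfst z) (by simp [om, hz])

end Setup

end Cfsg.Agent.Lib.SpOTensor
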