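import Cfsg.Agent.Lib.SpOTensor.Root

/-!
A non-scalar radical element gives every transvection: the case of a three-dimensional orthogonal factor.
-/

set_option autoImplicit false
set_option linter.unusedSectionVars false

namespace Cfsg.Agent.Lib.SpOTensor

open Module

variable {F U : Type*} [Field F] [AddCommGroup U] [Module F U]
  {β : LinearMap.BilinForm F U} {M : Subgroup ((U × U) ≃ₗ[F] (U × U))}

theorem sym2_comm (v w : U) : sym2 β v w = sym2 β w v := add_comm _ _

theorem sym2_add (v w w' : U) : sym2 β v (w + w') = sym2 β v w + sym2 β v w' :=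
  LinearMap.ext fun x => by simp [sym2_apply, map_add, add_smul]; abel

theorem sym2_smul (t : F) (v w : U) : sym2 β v (t • w) = t • sym2 β v w :=
  LinearMap.ext fun x => by simp [sym2_apply, smul_smul, mul_comm t]

/-- The form of the symplectic plane. -/
def alp2 (a b : F × F) : F := a.1 * b.2 - a.2 * b.1

/-- The pure tensor. -/
def ten2 (a : F × F) (u : U) : U × U := (a.1 • u, a.2 • u)

theorem ten2_add (a b : F × F) (u : U) : ten2 (a + b) u = ten2 a u + ten2 b u := by
  simp [ten2, add_smul]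

theorem ten2_smul (t : F) (a : F × F) (u : U) : ten2 (t • a) u = t • ten2 a u := by
  simp [ten2, smul_smul]

theorem ten2_zero (u : U) : ten2 (0 : F × F) u = 0 := by simp [ten2]

theorem om_ten2 (β : LinearMap.BilinForm F U) (a b : F × F) (u v : U) :
    om β (ten2 a u) (ten2 b v) = alp2 a b * β u v := by
  simp [om, ten2, alp2]; ring

theorem alp2_add_left (x y z : F × F) : alp2 (x + y) z = alp2 x z + alp2 y z := by
  simp [alp2]; ring

theorem alp2_smul_left (c : F) (x y : F × F) : alp2 (c • x) y = c * alp2 x y := by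
  simp [alp2]; ring

theorem alp2_swap (x y : F × F) : alp2 y x = -alp2 x y := by simp [alp2]; ring

theorem om_ladd (β : LinearMap.BilinForm F U) (x y z : U × U) :
    om β (x + y) z = om β x z + om β y z := by
  simp only [om, Prod.fst_add, Prod.snd_add, map_add, LinearMap.add_apply]; ring

theorem om_radd (β : LinearMap.BilinForm F U) (x y z : U × U) :
    om β x (y + z) = om β x y + om β x z := by
  simp only [om, Prod.fst_add, Prod.snd_add, map_add]; ring

theorem om_rsmul (β : LinearMap.BilinForm F U) (t : F) (x z : U × U) : om β x (t • z) = t * om β x z := by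
  simp only [om, Prod.smul_fst, Prod.smul_snd, map_smul, smul_eq_mul]; ring

theorem exists_alp2_ne {a : F × F} (ha : a ≠ 0) : ∃ b, alp2 a b ≠ 0 := by
  by_cases h : a.1 = 0
  · exact ⟨(1, 0), by
      simp only [alp2, mul_zero, zero_sub, mul_one, neg_ne_zero]
      exact fun h' => ha (Prod.ext h h')⟩
  · exact ⟨(0, 1), by simp [alp2, h]⟩

/-- Three pairwise orthogonal anisotropic vectors. -/
structure Frame (β : LinearMap.BilinForm F U) (v u x : U) : Prop where
  hv : β v v ≠ 0
  hu : β u u ≠ 0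
  hx : β x x ≠ 0
  vu : β v u = 0
  vx : β v x = 0
  ux : β u x = 0

namespace Setup

variable (S : Setup β M)
include S

theorem rad_add {L L' : U →ₗ[F] U} (hL : rad L ∈ M) (hL' : rad L' ∈ M) : rad (L + L') ∈ M :=
  rad_mul L L' ▸ M.mul_mem hL hL'

theorem frame_swap {v u x : U} (h : Frame β v u x) : Frame β u v x :=
  ⟨h.hu, h.hv, h.hx, by rw [S.symm]; exact h.vu, h.ux, h.vx⟩

theorem frame_expand (hd3 : finrank F U = 3) {v u x : U} (h : Frame β v u x) (y : U) :
    y = (β v y / β v v) • v + (β u y / β u u) • u + (β x y / β x x) • x := by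
  haveI := S.finiteDimensional
  have hli : LinearIndependent F ![v, u, x] := by
    rw [Fintype.linearIndependent_iff]
    intro g hg
    simp [Fin.sum_univ_three] at hg
    have e0 := congrArg (β v) hg
    have e1 := congrArg (β u) hg
    have e2 := congrArg (β x) hg
    simp [h.vu, h.vx, h.ux, S.symm u v, S.symm x v, S.symm x u, h.hv, h.hu, h.hx] at e0 e1 e2
    intro i; fin_cases i <;> assumption
  have htop : Submodule.span F (Set.range ![v, u, x]) = ⊤ :=
    hli.span_eq_top_of_card_eq_finrank' (by simp [hd3])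
  obtain ⟨c, hc⟩ := (Submodule.mem_span_range_iff_exists_fun F).1 (htop ▸ Submodule.mem_top (x := y))
  simp [Fin.sum_univ_three] at hc
  rw [← hc]
  simp [h.vu, h.vx, h.ux, S.symm u v, S.symm x v, S.symm x u, mul_div_assoc, div_self h.hv, div_self h.hu,
    div_self h.hx]

theorem exists_frame_with (hd3 : finrank F U = 3) {v u : U} (hv : β v v ≠ 0) (hu : β u u ≠ 0) (hvu : β v u = 0) :
    ∃ x, Frame β v u x := by
  haveI := S.finiteDimensional
  obtain ⟨x, hxm, hx0⟩ := Submodule.exists_mem_ne_zero_of_ne_bot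
    (LinearMap.ker_ne_bot_of_finrank_lt (f := (β v).prod (β u))
      (by rw [Module.finrank_prod, finrank_self, hd3]; norm_num))
  have hxv : β v x = 0 := congrArg Prod.fst (LinearMap.mem_ker.1 hxm)
  have hxu : β u x = 0 := congrArg Prod.snd (LinearMap.mem_ker.1 hxm)
  refine ⟨x, hv, hu, fun hxx => hx0 ?_, hvu, hxv, hxu⟩
  have hli : LinearIndependent F ![v, u, x] := by
    rw [Fintype.linearIndependent_iff]
    intro g hg
    simp [Fin.sum_univ_three] at hg
    have e0 := congrArg (β v) hg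
    have e1 := congrArg (β u) hg
    simp [hvu, hxv, hxu, S.symm u v, hv, hu] at e0 e1
    rw [e0, e1, zero_smul, zero_smul, zero_add, zero_add] at hg
    intro i; fin_cases i <;> simp_all
  have htop : Submodule.span F (Set.range ![v, u, x]) = ⊤ :=
    hli.span_eq_top_of_card_eq_finrank' (by simp [hd3])
  refine S.nondeg x fun y => ?_
  obtain ⟨c, hc⟩ := (Submodule.mem_span_range_iff_exists_fun F).1 (htop ▸ Submodule.mem_top (x := y))
  simp [Fin.sum_univ_three] at hc
  rw [← hc]
  simp [S.symm x v, S.symm x u, hxv, hxu, hxx]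

theorem exists_orth_aniso (hd3 : finrank F U = 3) {v : U} (hv : β v v ≠ 0) : ∃ u, β v u = 0 ∧ β u u ≠ 0 := by
  haveI := S.finiteDimensional
  by_contra hno
  push Not at hno
  obtain ⟨x, hxm, hx0⟩ := Submodule.exists_mem_ne_zero_of_ne_bot
    (LinearMap.ker_ne_bot_of_finrank_lt (f := β v) (by rw [finrank_self, hd3]; norm_num))
  have hx : β v x = 0 := LinearMap.mem_ker.1 hxm
  refine hx0 (S.nondeg x fun y => ?_)
  have e : y = (β v y / β v v) • v + (y - (β v y / β v v) • v) := by abel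
  have hy : β v (y - (β v y / β v v) • v) = 0 := by
    rw [map_sub, map_smul, smul_eq_mul, div_mul_cancel₀ _ hv, sub_self]
  generalize y - (β v y / β v v) • v = w at e hy
  have h1 := hno (x + w) (by rw [map_add, hx, hy, add_zero])
  simp only [map_add, LinearMap.add_apply, hno x hx, hno w hy, S.symm w x, zero_add, add_zero, ← two_mul] at h1
  rw [e, map_add, map_smul, S.symm x v, hx, smul_zero, zero_add]
  exact (mul_eq_zero.1 h1).resolve_left S.two

theorem exists_nonzero_avoid [Finite F] (hq : 5 ≤ Nat.card F) {a b : F} (hb : b ≠ 0) : ∃ t : F, t ≠ 0 ∧ a + t * t * b ≠ 0 := by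
  classical
  haveI := Fintype.ofFinite F
  by_contra hno
  push Not at hno
  have h1 := hno 1 one_ne_zero
  have hc : 3 ≤ (Finset.univ.erase (0 : F)).card := by
    rw [Finset.card_erase_of_mem (Finset.mem_univ _), Finset.card_univ, ← Nat.card_eq_fintype_card]
    omega
  obtain ⟨x, y, w, hx, hy, hw, hxy, hxw, hyw⟩ := Finset.two_lt_card_iff.1 hc
  simp only [Finset.mem_erase, Finset.mem_univ, and_true] at hx hy hw
  have key : ∀ r : F, r ≠ 0 → r = 1 ∨ r = -1 := fun r hr => by
    have h3 : (r - 1) * (r + 1) = 0 :=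
      (mul_eq_zero.1 (show ((r - 1) * (r + 1)) * b = 0 by linear_combination hno r hr - h1)).resolve_right hb
    rcases mul_eq_zero.1 h3 with h | h
    · exact Or.inl (sub_eq_zero.1 h)
    · exact Or.inr (eq_neg_of_add_eq_zero_left h)
  rcases key x hx with e1 | e1 <;> rcases key y hy with e2 | e2 <;> rcases key w hw with e3 | e3 <;>
    first | exact hxy (e1.trans e2.symm) | exact hxw (e1.trans e3.symm) | exact hyw (e2.trans e3.symm)

/-- Moving one entry of a symmetric product along an orthogonal pair. -/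
theorem sym2_step [Finite F] (hq : 5 ≤ Nat.card F) {a b c : U} (ha : β a a ≠ 0) (hb : β b b ≠ 0) (hab : β a b = 0) (hac : β a c = 0)
    (hbc : β b c = 0) (h : rad (sym2 β a c) ∈ M) : rad (sym2 β b c) ∈ M := by
  obtain ⟨t, ht, hne⟩ := S.exists_nonzero_avoid hq (a := β a a) hb
  obtain ⟨d, hd⟩ : ∃ d, d = a + t • b := ⟨_, rfl⟩
  have hdd : β d d ≠ 0 := by
    simp only [hd, map_add, map_smul, LinearMap.add_apply, LinearMap.smul_apply, smul_eq_mul, hab,
      S.symm b a]
    intro e; exact hne (by linear_combination e)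
  have hdc : β d c = 0 := by simp [hd, hac, hbc]
  have hda : β d a = β a a := by simp [hd, hab, S.symm b a]
  have h1 := S.rad_sub h (S.sym2_conj (S.reflE_iso hdd) h)
  rw [S.reflE_apply, S.reflE_apply, hdc, mul_zero, zero_div, zero_smul, sub_zero] at h1
  obtain ⟨k, hk⟩ : ∃ k, k = 2 * β d a / β d d := ⟨_, rfl⟩
  have hk0 : k ≠ 0 := hk ▸ div_ne_zero (mul_ne_zero S.two (hda ▸ ha)) hdd
  rw [← hk] at h1
  have h2 : rad (sym2 β d c) ∈ M := by
    have e : sym2 β d c = k⁻¹ • (sym2 β a c - sym2 β (a - k • d) c) := by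
      rw [sym2_comm (a - k • d), sub_eq_add_neg a, ← neg_smul, sym2_add, sym2_smul, sym2_comm c a, sym2_comm c d,
        sub_add_cancel_left, neg_smul, neg_neg, smul_smul, inv_mul_cancel₀ hk0, one_smul]
    exact e ▸ S.rad_smul h1 _
  have e : sym2 β b c = t⁻¹ • (sym2 β d c - sym2 β a c) := by
    rw [hd, sym2_comm (a + t • b), sym2_add, sym2_smul, sym2_comm c a, sym2_comm c b, add_sub_cancel_left,
      smul_smul, inv_mul_cancel₀ ht, one_smul]
  exact e ▸ S.rad_smul (S.rad_sub h2 h) _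

/-- The difference of two diagonal products. -/
theorem diag_mem [Finite F] (hq : 5 ≤ Nat.card F) {v u x : U} (hF : Frame β v u x) (h1 : rad (sym2 β v u) ∈ M) (h2 : rad (sym2 β v x) ∈ M)
    (h3 : rad (sym2 β u x) ∈ M) :
    rad (β x x • (β u).smulRight u - β u u • (β x).smulRight x) ∈ M := by
  obtain ⟨t, ht, hne⟩ := S.exists_nonzero_avoid hq (a := β u u) hF.hx
  obtain ⟨d, hd⟩ : ∃ d, d = u + t • x := ⟨_, rfl⟩
  obtain ⟨d', hd'⟩ : ∃ d', d' = (t * β x x) • u + (-(β u u)) • x := ⟨_, rfl⟩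
  have hdd : β d d ≠ 0 := by
    simp only [hd, map_add, map_smul, LinearMap.add_apply, LinearMap.smul_apply, smul_eq_mul, hF.ux,
      S.symm x u]
    intro e; exact hne (by linear_combination e)
  have hvd : β v d = 0 := by simp [hd, hF.vu, hF.vx]
  have hvd' : β v d' = 0 := by simp [hd', hF.vu, hF.vx]
  have hdd' : β d d' = 0 := by simp [hd, hd', hF.ux, S.symm x u]; ring
  have h4 : rad (sym2 β v d') ∈ M := by
    rw [hd', sym2_add, sym2_smul, sym2_smul]
    exact S.rad_add (S.rad_smul h1 _) (S.rad_smul h2 _)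
  have h5 := S.sym2_step hq hF.hv hdd hvd hvd' hdd' h4
  have e : β x x • (β u).smulRight u - β u u • (β x).smulRight x =
      (2 * t)⁻¹ • (sym2 β d d' - (t * t * β x x - β u u) • sym2 β u x) := by
    refine LinearMap.ext fun z => ?_
    have h20 := S.two
    simp only [hd, hd', sym2_apply, LinearMap.sub_apply, LinearMap.smul_apply, LinearMap.smulRight_apply,
      map_add, map_smul, map_neg, LinearMap.add_apply, smul_eq_mul]
    match_scalars <;> field_simp <;> ring
  exact e ▸ S.rad_smul (S.rad_sub h5 (S.rad_smul h3 _)) _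

/-- Some isotropic rank-one map. -/
theorem exists_rank_one_three [Finite F] (hq : 5 ≤ Nat.card F) (hd3 : finrank F U = 3) (hno : ¬ NoRad M) :
    ∃ c, c ≠ 0 ∧ β c c = 0 ∧ rad ((β c).smulRight c) ∈ M := by
  haveI := S.finiteDimensional
  have h2 := S.two
  simp only [NoRad, not_forall] at hno
  obtain ⟨L, hL, hns⟩ := hno
  push Not at hns
  -- an anisotropic vector which is not an eigenvector
  obtain ⟨v, hv, hne⟩ : ∃ v, β v v ≠ 0 ∧ ∀ e : F, L v ≠ e • v := by
    by_contra hall
    push Not at hall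
    obtain ⟨v₀, -, hv₀⟩ := S.exists_aniso ⊤ (by rw [finrank_top]; omega)
    obtain ⟨u₀, h1, hu₀⟩ := S.exists_orth_aniso hd3 hv₀
    obtain ⟨x₀, hF⟩ := S.exists_frame_with hd3 hv₀ hu₀ h1
    obtain ⟨e₁, he₁⟩ := hall _ hv₀
    have heq : ∀ u, β u u ≠ 0 → β v₀ u = 0 → L u = e₁ • u := by
      intro u hu hvu
      obtain ⟨e₂, he₂⟩ := hall _ hu
      obtain ⟨t, ht, hne'⟩ := S.exists_nonzero_avoid hq (a := β v₀ v₀) hu
      obtain ⟨e₃, he₃⟩ := hall (v₀ + t • u) (by
        simp only [map_add, map_smul, LinearMap.add_apply, LinearMap.smul_apply, smul_eq_mul, hvu, S.symm u v₀]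
        intro e; exact hne' (by linear_combination e))
      rw [map_add, map_smul, he₁, he₂] at he₃
      have a1 := congrArg (β v₀) he₃
      have a2 := congrArg (β u) he₃
      simp [hvu, S.symm u v₀, hv₀, hu, ht] at a1 a2
      subst a1
      rw [he₂]
      congr 1
      exact mul_right_cancel₀ hu (mul_left_cancel₀ ht (by linear_combination a2))
    obtain ⟨x, hx⟩ := hns e₁
    refine hx ?_
    rw [S.frame_expand hd3 hF x]
    simp only [map_add, map_smul, smul_add, he₁, heq _ hu₀ h1, heq _ hF.hx hF.vx, smul_comm e₁]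
  obtain ⟨w, hw⟩ : ∃ w, w = L v - (β v (L v) / β v v) • v := ⟨_, rfl⟩
  have hw0 : w ≠ 0 := fun e => hne _ (sub_eq_zero.mp (hw ▸ e))
  have hvw : β v w = 0 := by rw [hw, map_sub, map_smul, smul_eq_mul, div_mul_cancel₀ _ hv, sub_self]
  have hs1 : rad (sym2 β v w) ∈ M := by
    have h := S.rad_smul (S.rad_sub hL (S.rad_conj hL (S.reflE_iso hv))) (β v v / 2)
    convert h using 2
    refine LinearMap.ext fun x => ?_
    have esymm : (S.reflE hv).symm x = S.reflE hv x := by
      rw [LinearEquiv.symm_apply_eq]; exact (S.refl_refl hv x).symm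
    simp only [LinearMap.smul_apply, LinearMap.sub_apply, LinearMap.comp_apply, LinearEquiv.coe_coe, esymm,
      S.reflE_apply, map_sub, map_smul, smul_eq_mul]
    rw [sym2_apply, hw, map_sub, map_smul, LinearMap.sub_apply, LinearMap.smul_apply, smul_eq_mul,
      S.rad_self_adjoint hL v x]
    match_scalars <;> field_simp <;> ring
  obtain ⟨u, hu, huu, huw⟩ : ∃ u, β v u = 0 ∧ β u u ≠ 0 ∧ β u w ≠ 0 := by
    by_cases hww : β w w = 0
    swap
    · exact ⟨w, hvw, hww, hww⟩
    obtain ⟨u₀, hvu, hu₀⟩ := S.exists_orth_aniso hd3 hv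
    refine ⟨u₀, hvu, hu₀, fun e => ?_⟩
    obtain ⟨x₀, hF⟩ := S.exists_frame_with hd3 hv hu₀ hvu
    have hexp := S.frame_expand hd3 hF w
    rw [hvw, e, zero_div, zero_div, zero_smul, zero_smul, zero_add, zero_add] at hexp
    rw [hexp] at hww
    simp [hF.hx] at hww
    exact hw0 (by rw [hexp, hww, zero_div, zero_smul])
  have hvu' : rad (sym2 β v u) ∈ M := by
    have h := S.sym2_conj (S.reflE_iso huu) hs1
    have h' := S.rad_smul (S.rad_sub hs1 h) (β u u / (2 * β u w))
    convert h' using 2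
    refine LinearMap.ext fun x => ?_
    simp only [LinearMap.smul_apply, LinearMap.sub_apply, sym2_apply, S.reflE_apply, map_sub, map_smul,
      smul_eq_mul, S.symm u v, hu, mul_zero, zero_div, zero_smul, sub_zero]
    match_scalars <;> field_simp <;> ring
  obtain ⟨x, hF⟩ := S.exists_frame_with hd3 hv huu hu
  have hvx : rad (sym2 β v x) ∈ M := by
    rw [sym2_comm]
    exact S.sym2_step hq huu hF.hx hF.ux (by rw [S.symm]; exact hu) (by rw [S.symm]; exact hF.vx)
      (sym2_comm (β := β) v u ▸ hvu')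
  have hux : rad (sym2 β u x) ∈ M := S.sym2_step hq hv huu hu hF.vx hF.ux hvx
  have hD1 := S.diag_mem hq hF hvu' hvx hux
  have hD2 := S.diag_mem hq (S.frame_swap hF) (sym2_comm (β := β) v u ▸ hvu') hux hvx
  -- an isotropic vector
  obtain ⟨c, hc0, hcc⟩ : ∃ c, c ≠ 0 ∧ β c c = 0 := by
    let e : (Fin 3 → F) ≃ₗ[F] U := (Module.finBasisOfFinrankEq F U hd3).equivFun.symm
    obtain ⟨y, hy0, hy⟩ := FormMax.OrthSL.exists_zero_fin S.two le_rfl
      ((LinearMap.BilinMap.toQuadraticMap β).comp e.toLinearMap)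
    exact ⟨e y, fun h => hy0 ((LinearEquiv.map_eq_zero_iff e).1 h), by simpa using hy⟩
  refine ⟨c, hc0, hcc, ?_⟩
  obtain ⟨α, hα⟩ : ∃ α, α = β v c / β v v := ⟨_, rfl⟩
  obtain ⟨γ, hγ⟩ : ∃ γ, γ = β u c / β u u := ⟨_, rfl⟩
  obtain ⟨δ, hδ⟩ : ∃ δ, δ = β x c / β x x := ⟨_, rfl⟩
  have hc : c = α • v + γ • u + δ • x := by rw [hα, hγ, hδ]; exact S.frame_expand hd3 hF c
  have hq : α * α * β v v + γ * γ * β u u + δ * δ * β x x = 0 := by
    rw [hc] at hcc
    simp [hF.vu, hF.vx, hF.ux, S.symm u v, S.symm x v, S.symm x u] at hcc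
    linear_combination hcc
  have hδ2 : δ * δ = -(α * α * β v v + γ * γ * β u u) / β x x := by
    rw [eq_div_iff hF.hx]; linear_combination hq
  have e : (β c).smulRight c = (α * γ) • sym2 β v u + ((α * δ) • sym2 β v x + ((γ * δ) • sym2 β u x +
      ((α * α / β x x) • (β x x • (β v).smulRight v - β v v • (β x).smulRight x) +
        (γ * γ / β x x) • (β x x • (β u).smulRight u - β u u • (β x).smulRight x)))) := by
    refine LinearMap.ext fun z => ?_
    have h0 := hF.hx
    simp only [hc, sym2_apply, LinearMap.sub_apply, LinearMap.smul_apply, LinearMap.smulRight_apply, map_add,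
      map_smul, LinearMap.add_apply, smul_eq_mul]
    match_scalars <;> field_simp <;> first | ring1 | linear_combination (β x z) * hq
  rw [e]
  exact S.rad_add (S.rad_smul hvu' _) (S.rad_add (S.rad_smul hvx _) (S.rad_add (S.rad_smul hux _)
    (S.rad_add (S.rad_smul hD2 _) (S.rad_smul hD1 _))))

/-- All vectors are roots. -/
theorem all_roots_three [Finite F] (hq : 5 ≤ Nat.card F) (hd3 : finrank F U = 3) (hno : ¬ NoRad M)
    (Z : U × U) : IsRoot β M Z := by
  haveI := S.finiteDimensional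
  have h2 := S.two
  obtain ⟨c₀, hc0, hcc, hc⟩ := S.exists_rank_one_three hq hd3 hno
  have hbase : IsRoot β M (c₀, 0) := fun a => by
    refine ⟨rad ((-a) • (β c₀).smulRight c₀), S.rad_smul hc _, fun w => ?_⟩
    refine Prod.ext ?_ (by simp)
    simp [om, S.symm w.2 c₀, smul_smul]
  have hzero : IsRoot β M (0 : U × U) := by simpa using S.root_smul hbase 0
  have hY : ∀ {c : U}, IsRoot β M (c, 0) → ∀ a : F × F, IsRoot β M (ten2 a c) := by
    intro c h a
    by_cases ha : a.1 = 0
    · let s : (U × U) ≃ₗ[F] (U × U) :=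
        { toFun := fun z => (-z.2, z.1)
          map_add' := fun z w => by simp [add_comm]
          map_smul' := fun t z => by simp
          invFun := fun z => (z.2, -z.1)
          left_inv := fun z => by simp
          right_inv := fun z => by simp }
      have hsap : ∀ z, s z = (-z.2, z.1) := fun z => rfl
      have hs : s ∈ M := S.kr _ (fun z w => by
        simp only [om, hsap, map_neg, LinearMap.neg_apply, S.symm z.2 w.1, S.symm w.2 z.1]
        rw [S.symm z.1 w.2]; ring) ⟨0, -1, 1, 0, LinearEquiv.refl F U, fun z => by simp [hsap]⟩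
      have h3 := S.root_smul (S.root_map h hs) a.2
      simpa [hsap, ten2, ha] using h3
    · obtain ⟨s₁, hs₁⟩ : ∃ s₁, s₁ = a.1 := ⟨_, rfl⟩
      obtain ⟨t₁, ht₁⟩ : ∃ t₁, t₁ = a.2 := ⟨_, rfl⟩
      rw [← hs₁] at ha
      let k : (U × U) ≃ₗ[F] (U × U) :=
        { toFun := fun z => (s₁ • z.1, t₁ • z.1 + s₁⁻¹ • z.2)
          map_add' := fun z w => by simp [smul_add]; abel
          map_smul' := fun r z => by simp [smul_add, smul_comm r]
          invFun := fun z => (s₁⁻¹ • z.1, s₁ • z.2 - t₁ • z.1)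
          left_inv := fun z => by simp [smul_add, smul_smul, ha, mul_comm t₁]
          right_inv := fun z => by simp [smul_sub, smul_smul, ha, mul_comm t₁] }
      have hkap : ∀ z, k z = (s₁ • z.1, t₁ • z.1 + s₁⁻¹ • z.2) := fun z => rfl
      have hk : k ∈ M := S.kr _ (fun z w => by
        simp only [om, hkap, map_add, map_smul, LinearMap.add_apply, LinearMap.smul_apply, smul_eq_mul]
        field_simp
        ring) ⟨s₁, 0, t₁, s₁⁻¹, LinearEquiv.refl F U, fun z => by simp [hkap]⟩
      have h3 := S.root_map h hk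
      simpa [hkap, ten2, hs₁, ht₁] using h3
  have hmove : ∀ c c' : U, β c c = 0 → β c' c' = 0 → β c c' ≠ 0 → IsRoot β M (c, 0) → IsRoot β M (c', 0) := by
    intro c c' h h' hne hr
    have hv : β (c - c') (c - c') ≠ 0 := by
      simp only [map_sub, LinearMap.sub_apply, h, h', S.symm c' c]
      intro e
      exact hne ((mul_eq_zero.mp (show (2 : F) * β c c' = 0 by linear_combination -e)).resolve_left h2)
    have e : S.reflE hv c = c' := by
      rw [S.reflE_apply, show 2 * β (c - c') c / β (c - c') (c - c') = 1 by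
        rw [div_eq_one_iff_eq hv]
        simp only [map_sub, LinearMap.sub_apply, h, h', S.symm c' c]
        ring, one_smul, sub_sub_cancel]
    simpa [e] using S.root_map hr (S.dia_mem (S.reflE_iso hv))
  -- three isotropic vectors
  obtain ⟨y, hy⟩ : ∃ y, β c₀ y = 1 := by
    obtain ⟨y, hy⟩ : ∃ y, β c₀ y ≠ 0 := by
      by_contra hh; push Not at hh; exact hc0 (S.nondeg _ hh)
    exact ⟨(β c₀ y)⁻¹ • y, by simp [hy]⟩
  obtain ⟨c₂, hc₂⟩ : ∃ c₂, c₂ = y - (β y y / 2) • c₀ := ⟨_, rfl⟩
  have h12 : β c₀ c₂ = 1 := by simp [hc₂, hy, hcc]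
  have h22 : β c₂ c₂ = 0 := by
    simp [hc₂, hcc, hy, S.symm y c₀]
    field_simp
    ring
  obtain ⟨x, hxm, hx0⟩ := Submodule.exists_mem_ne_zero_of_ne_bot
    (LinearMap.ker_ne_bot_of_finrank_lt (f := (β c₀).prod (β c₂))
      (by rw [Module.finrank_prod, finrank_self, hd3]; norm_num))
  have hx1 : β c₀ x = 0 := congrArg Prod.fst (LinearMap.mem_ker.1 hxm)
  have hx2 : β c₂ x = 0 := congrArg Prod.snd (LinearMap.mem_ker.1 hxm)
  have hli : LinearIndependent F ![c₀, c₂, x] := by
    rw [Fintype.linearIndependent_iff]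
    intro g hg
    simp [Fin.sum_univ_three] at hg
    have e0 := congrArg (β c₀) hg
    have e1 := congrArg (β c₂) hg
    simp [hcc, h22, h12, S.symm c₂ c₀, hx1, hx2] at e0 e1
    rw [e0, e1, zero_smul, zero_smul, zero_add, zero_add] at hg
    intro i; fin_cases i <;> simp_all
  have hspan : ∀ u, ∃ r s t : F, u = r • c₀ + s • c₂ + t • x := fun u => by
    have htop : Submodule.span F (Set.range ![c₀, c₂, x]) = ⊤ :=
      hli.span_eq_top_of_card_eq_finrank' (by simp [hd3])
    obtain ⟨f, hf⟩ := (Submodule.mem_span_range_iff_exists_fun F).1 (htop ▸ Submodule.mem_top (x := u))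
    simp [Fin.sum_univ_three] at hf
    exact ⟨_, _, _, hf.symm⟩
  have hxx : β x x ≠ 0 := fun e => hx0 (S.nondeg x fun u => by
    obtain ⟨r, s, t, rfl⟩ := hspan u
    simp [S.symm x c₀, S.symm x c₂, hx1, hx2, e])
  obtain ⟨s₃, hs₃⟩ : ∃ s₃, s₃ = -(β x x) / 2 := ⟨_, rfl⟩
  have hs0 : s₃ ≠ 0 := hs₃ ▸ div_ne_zero (neg_ne_zero.2 hxx) h2
  obtain ⟨c₃, hc₃⟩ : ∃ c₃, c₃ = c₀ + s₃ • c₂ + x := ⟨_, rfl⟩
  have h13 : β c₀ c₃ = s₃ := by simp [hc₃, hcc, h12, hx1]
  have h23 : β c₂ c₃ = 1 := by simp [hc₃, h22, S.symm c₂ c₀, h12, hx2]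
  have h33 : β c₃ c₃ = 0 := by
    simp [hc₃, hcc, h22, h12, hx1, hx2, S.symm c₂ c₀, S.symm x c₀, S.symm x c₂, hs₃]
    field_simp
    ring
  have R1 : ∀ a : F × F, IsRoot β M (ten2 a c₀) := hY hbase
  have R2 : ∀ a : F × F, IsRoot β M (ten2 a c₂) := hY (hmove _ _ hcc h22 (by rw [h12]; exact one_ne_zero) hbase)
  have R3 : ∀ a : F × F, IsRoot β M (ten2 a c₃) := hY (hmove _ _ hcc h33 (by rw [h13]; exact hs0) hbase)
  -- sums of two
  have two' : ∀ {p r : U}, β p p = 0 → β p r ≠ 0 → (∀ a : (F × F), IsRoot β M (ten2 a p)) → (∀ a : (F × F), IsRoot β M (ten2 a r)) →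
      ∀ a b : (F × F), IsRoot β M (ten2 a p + ten2 b r) := by
    intro p r hpp hpr hp hr a b
    by_cases hab : alp2 a b = 0
    swap
    · exact S.root_add (hp a) (hr b) (by rw [om_ten2]; exact mul_ne_zero hab hpr)
    by_cases hb : b = 0
    · rw [hb, ten2_zero, add_zero]; exact hp a
    obtain ⟨a', ha'⟩ := exists_alp2_ne hb
    have e : ten2 a p + ten2 b r = (ten2 (a + (-1 : F) • a') p + ten2 b r) + ten2 a' p := by
      simp only [ten2_add, ten2_smul]
      module
    rw [e]
    refine S.root_add (S.root_add (hp _) (hr b) ?_) (hp a') ?_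
    · rw [om_ten2, alp2_add_left, alp2_smul_left, hab, zero_add, alp2_swap b a']
      exact mul_ne_zero (mul_ne_zero (neg_ne_zero.2 one_ne_zero) (neg_ne_zero.2 ha')) hpr
    · rw [om_ladd, om_ten2, om_ten2, hpp, mul_zero, zero_add, S.symm r p]
      exact mul_ne_zero ha' hpr
  -- sums of three
  have three : ∀ {p r q : U}, β p p = 0 → β q q = 0 → β p r ≠ 0 → (∀ a : (F × F), IsRoot β M (ten2 a p)) →
      (∀ a : (F × F), IsRoot β M (ten2 a r)) → (∀ a : (F × F), IsRoot β M (ten2 a q)) →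
      ∀ a b d : (F × F), β p q • a + β r q • b ≠ 0 → IsRoot β M (ten2 a p + ten2 b r + ten2 d q) := by
    intro p r q hpp hqq hpr hp hr hq a b d hne
    have hA := two' hpp hpr hp hr a b
    by_cases hs : om β (ten2 a p + ten2 b r) (ten2 d q) = 0
    swap
    · exact S.root_add hA (hq d) hs
    obtain ⟨e', he'⟩ := exists_alp2_ne hne
    have hw : om β (ten2 a p + ten2 b r) (ten2 e' q) ≠ 0 := by
      intro h0
      apply he'
      rw [om_ladd, om_ten2, om_ten2] at h0
      rw [alp2_add_left, alp2_smul_left, alp2_smul_left]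
      linear_combination h0
    have e : ten2 a p + ten2 b r + ten2 d q =
        (ten2 a p + ten2 b r + ten2 (d + (-1 : F) • e') q) + ten2 e' q := by
      simp only [ten2_add, ten2_smul]
      module
    rw [e]
    refine S.root_add (S.root_add hA (hq _) ?_) (hq e') ?_
    · rw [ten2_add, ten2_smul, om_radd, om_rsmul, hs]
      simpa using hw
    · rw [om_ladd, om_ten2 β (d + _), hqq, mul_zero, add_zero]
      exact hw
  have coords : ∀ u, ∃ r s t : F, u = r • c₀ + s • c₂ + t • c₃ := fun u => by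
    obtain ⟨r, s, t, rfl⟩ := hspan u
    exact ⟨r - t, s - t * s₃, t, by rw [hc₃]; module⟩
  obtain ⟨r1, s1, t1, e1⟩ := coords Z.1
  obtain ⟨r2, s2, t2, e2⟩ := coords Z.2
  obtain ⟨a, ha⟩ : ∃ a : F × F, a = (r1, r2) := ⟨_, rfl⟩
  obtain ⟨b, hb⟩ : ∃ b : F × F, b = (s1, s2) := ⟨_, rfl⟩
  obtain ⟨d, hd⟩ : ∃ d : F × F, d = (t1, t2) := ⟨_, rfl⟩
  have hZ : Z = ten2 a c₀ + ten2 b c₂ + ten2 d c₃ := by
    simp [ha, hb, hd, ten2, Prod.ext_iff, ← e1, ← e2]
  rw [hZ]
  have p21 : β c₂ c₀ = 1 := by rw [S.symm]; exact h12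
  have p31 : β c₃ c₀ = s₃ := by rw [S.symm]; exact h13
  have p32 : β c₃ c₂ = 1 := by rw [S.symm]; exact h23
  by_cases hA : β c₀ c₃ • a + β c₂ c₃ • b ≠ 0
  · exact three hcc h33 (by rw [h12]; exact one_ne_zero) R1 R2 R3 a b d hA
  by_cases hB : β c₀ c₂ • a + β c₃ c₂ • d ≠ 0
  · rw [add_right_comm]
    exact three hcc h22 (by rw [h13]; exact hs0) R1 R3 R2 a d b hB
  by_cases hC : β c₂ c₀ • b + β c₃ c₀ • d ≠ 0
  · rw [show ten2 a c₀ + ten2 b c₂ + ten2 d c₃ = ten2 b c₂ + ten2 d c₃ + ten2 a c₀ by abel]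
    exact three h22 hcc (by rw [h23]; exact one_ne_zero) R2 R3 R1 b d a hC
  push Not at hA hB hC
  rw [h13, h23, one_smul] at hA
  rw [h12, p32, one_smul, one_smul] at hB
  rw [p21, p31, one_smul] at hC
  have hb' : b = -(s₃ • a) := (neg_eq_of_add_eq_zero_right hA).symm
  have hd' : d = -a := (neg_eq_of_add_eq_zero_right hB).symm
  rw [hb', hd', smul_neg, ← neg_add, neg_eq_zero, ← two_smul F, smul_smul, smul_eq_zero] at hC
  have ha0 : a = 0 := hC.resolve_left (mul_ne_zero h2 hs0)
  simp only [hb', hd', ha0, smul_zero, neg_zero, ten2_zero, add_zero]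
  exact hzero

end Setup

end Cfsg.Agent.Lib.SpOTensor
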