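import Cfsg.Prelude.Def_GeometricClasses
import Cfsg.Agent.Lib.SympMax.Basic
import Cfsg.Agent.Lib.MaxClass.SympSmall
import Cfsg.Agent.Lib.SpOTensor.NoRadCase
import Cfsg.Agent.Lib.SpOTensor.Root
import Cfsg.Agent.Lib.SpOTensor.RootThree

/-!
The stabiliser of a tensor decomposition `F^2 ⊗ F^b` of a symplectic space is maximal.
-/

set_option autoImplicit false
set_option linter.unusedSectionVars false

namespace Cfsg.Agent.Lib.SpOTensor

open Matrix Module
open scoped Kronecker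
open Cfsg.Agent.Lib

variable {F : Type*} [Field F] {m b : ℕ}

/-- The coordinates of a pair as a tensor. -/
def pairVec : ((Fin b → F) × (Fin b → F)) ≃ₗ[F] (Fin 2 × Fin b → F) where
  toFun z := fun x => if x.1 = 0 then z.1 x.2 else z.2 x.2
  map_add' z w := funext fun x => by by_cases h : x.1 = 0 <;> simp [h]
  map_smul' c z := funext fun x => by by_cases h : x.1 = 0 <;> simp [h]
  invFun v := (fun j => v (0, j), fun j => v (1, j))
  left_inv z := by simp
  right_inv v := funext fun ⟨i, j⟩ => by fin_cases i <;> simp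

theorem pairVec_zero (z : (Fin b → F) × (Fin b → F)) (j : Fin b) : pairVec z (0, j) = z.1 j := rfl

theorem pairVec_one (z : (Fin b → F) × (Fin b → F)) (j : Fin b) : pairVec z (1, j) = z.2 j := rfl

variable (e : (Fin m ⊕ Fin m) ≃ Fin 2 × Fin b) (P : GL (Fin m ⊕ Fin m) F)

/-- The change of variables. -/
noncomputable def coord : ((Fin b → F) × (Fin b → F)) ≃ₗ[F] (Fin m ⊕ Fin m → F) :=
  pairVec.trans ((LinearEquiv.funCongrLeft F F e).trans (Forms.glEquiv (Fin m ⊕ Fin m) F P))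

theorem coord_apply (z : (Fin b → F) × (Fin b → F)) :
    coord e P z = (P : Matrix (Fin m ⊕ Fin m) (Fin m ⊕ Fin m) F) *ᵥ (pairVec z ∘ e) := rfl

/-- Transport of matrices to maps of pairs. -/
noncomputable def toPair : GL (Fin m ⊕ Fin m) F →*
    (((Fin b → F) × (Fin b → F)) ≃ₗ[F] ((Fin b → F) × (Fin b → F))) where
  toFun g := ((coord e P).trans (Forms.glEquiv (Fin m ⊕ Fin m) F g)).trans (coord e P).symm
  map_one' := LinearEquiv.ext fun z => by simp
  map_mul' g h := LinearEquiv.ext fun z => by simp [mulVec_mulVec]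

theorem coord_toPair (g : GL (Fin m ⊕ Fin m) F) (z : (Fin b → F) × (Fin b → F)) :
    coord e P (toPair e P g z) = (g : Matrix (Fin m ⊕ Fin m) (Fin m ⊕ Fin m) F) *ᵥ coord e P z := by
  simp [toPair]

theorem toPair_injective : Function.Injective (toPair e P : GL (Fin m ⊕ Fin m) F → _) := by
  intro g h hgh
  refine Units.ext (Matrix.ext_iff_mulVec.mpr fun v => ?_)
  obtain ⟨z, rfl⟩ := (coord e P).surjective v
  rw [← coord_toPair, ← coord_toPair, hgh]

theorem kron_pairVec (a : Matrix (Fin 2) (Fin 2) F) (B : Matrix (Fin b) (Fin b) F)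
    (z : (Fin b → F) × (Fin b → F)) :
    (a ⊗ₖ B) *ᵥ pairVec z =
      pairVec (a 0 0 • (B *ᵥ z.1) + a 0 1 • (B *ᵥ z.2), a 1 0 • (B *ᵥ z.1) + a 1 1 • (B *ᵥ z.2)) := by
  funext ⟨i, j⟩
  simp only [mulVec, dotProduct, Fintype.sum_prod_type, Fin.sum_univ_two, kroneckerMap_apply, pairVec_zero,
    pairVec_one]
  fin_cases i <;>
  · simp [pairVec, mulVec, dotProduct, Finset.mul_sum, mul_assoc]

theorem reindex_pairVec (R : GL (Fin 2 × Fin b) F) (z : (Fin b → F) × (Fin b → F)) :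
    ((P * Cfsg.Geo.glReindex e.symm R * P⁻¹ : GL (Fin m ⊕ Fin m) F) :
      Matrix (Fin m ⊕ Fin m) (Fin m ⊕ Fin m) F) *ᵥ coord e P z =
      (P : Matrix (Fin m ⊕ Fin m) (Fin m ⊕ Fin m) F) *ᵥ
        (((R : Matrix (Fin 2 × Fin b) (Fin 2 × Fin b) F) *ᵥ pairVec z) ∘ e) := by
  rw [coord_apply, mulVec_mulVec, Units.val_mul, mul_assoc, ← Units.val_mul, inv_mul_cancel, Units.val_one,
    mul_one, Units.val_mul, ← mulVec_mulVec]
  congr 1
  show (Matrix.reindexAlgEquiv F F e.symm (R : Matrix (Fin 2 × Fin b) (Fin 2 × Fin b) F)) *ᵥ _ = _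
  rw [Matrix.coe_reindexAlgEquiv, Matrix.reindex_apply, Equiv.symm_symm, Matrix.submatrix_mulVec_equiv]
  congr 2
  funext x
  simp

theorem isKr_of_mem {g : GL (Fin m ⊕ Fin m) F} (hg : g ∈ Cfsg.Geo.tensorProductSubgroup 2 b e P) :
    IsKr (toPair e P g) := by
  obtain ⟨_, ⟨R, ⟨a, B, hR⟩, rfl⟩, rfl⟩ := hg
  refine ⟨(a : Matrix (Fin 2) (Fin 2) F) 0 0, (a : Matrix (Fin 2) (Fin 2) F) 0 1,
    (a : Matrix (Fin 2) (Fin 2) F) 1 0, (a : Matrix (Fin 2) (Fin 2) F) 1 1, Forms.glEquiv (Fin b) F B, fun z => ?_⟩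
  apply (coord e P).injective
  simp only [MulEquiv.coe_toMonoidHom, MulAut.conj_apply, Forms.glEquiv_apply]
  rw [coord_toPair, reindex_pairVec, hR, kron_pairVec, ← coord_apply]

theorem mem_of_isKr (hb : 1 ≤ b) {g : GL (Fin m ⊕ Fin m) F} (hg : IsKr (toPair e P g)) :
    g ∈ Cfsg.Geo.tensorProductSubgroup 2 b e P := by
  obtain ⟨a₀, b₀, c₀, d₀, A, hA⟩ := hg
  have hdet : Matrix.det !![a₀, b₀; c₀, d₀] ≠ 0 := by
    intro h0
    obtain ⟨v, hv, hv0⟩ := Matrix.exists_mulVec_eq_zero_iff.mpr h0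
    let u : Fin b → F := Pi.single ⟨0, hb⟩ 1
    have h1 : toPair e P g (v 0 • u, v 1 • u) = 0 := by
      rw [hA, map_smul, map_smul, smul_smul, smul_smul, smul_smul, smul_smul, ← add_smul, ← add_smul]
      have e0 := congrFun hv0 0
      have e1 := congrFun hv0 1
      simp [mulVec, dotProduct, Fin.sum_univ_two] at e0 e1
      rw [e0, e1, zero_smul]; rfl
    have h2 := (toPair e P g).map_eq_zero_iff.mp h1
    refine hv (funext fun i => ?_)
    have e0 := congrFun (congrArg Prod.fst h2) ⟨0, hb⟩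
    have e1 := congrFun (congrArg Prod.snd h2) ⟨0, hb⟩
    simp [u] at e0 e1
    fin_cases i
    · exact e0
    · exact e1
  obtain ⟨R, hR⟩ : ∃ R : GL (Fin 2 × Fin b) F, (R : Matrix (Fin 2 × Fin b) (Fin 2 × Fin b) F) =
      (!![a₀, b₀; c₀, d₀] : Matrix (Fin 2) (Fin 2) F) ⊗ₖ
        (((Forms.glEquiv (Fin b) F).symm A : GL (Fin b) F) : Matrix (Fin b) (Fin b) F) := by
    refine ⟨GeneralLinearGroup.mkOfDetNeZero (_ ⊗ₖ _) ?_, rfl⟩
    erw [det_kronecker]
    exact mul_ne_zero (pow_ne_zero _ hdet)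
      (pow_ne_zero _ ((Matrix.isUnit_iff_isUnit_det _).mp (Units.isUnit _)).ne_zero)
  have hRmem : R ∈ Cfsg.Geo.kroneckerSubgroup 2 b F :=
    ⟨GeneralLinearGroup.mkOfDetNeZero _ hdet, (Forms.glEquiv (Fin b) F).symm A, hR⟩
  refine ⟨_, ⟨R, hRmem, rfl⟩, Units.ext (Matrix.ext_iff_mulVec.mpr fun v => ?_)⟩
  obtain ⟨z, rfl⟩ := (coord e P).surjective v
  simp only [MulEquiv.coe_toMonoidHom, MulAut.conj_apply]
  rw [reindex_pairVec, hR, kron_pairVec, ← coord_apply, ← coord_toPair, hA, Forms.glEquiv_symm_mulVec,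
    Forms.glEquiv_symm_mulVec]
  simp

theorem exists_setup_form {f₁ : (Fin 2 → F) → (Fin 2 → F) → F} {f₂ : (Fin b → F) → (Fin b → F) → F}
    (hf₁ : Cfsg.Geo.IsSymplecticForm f₁) (hf₂ : Cfsg.Geo.IsSymmetricForm f₂)
    (hT : Cfsg.Geo.IsTensorFormStructure id (Cfsg.sympForm m F) f₁ f₂ e P) :
    ∃ (β : LinearMap.BilinForm F (Fin b → F)) (κ : F), κ ≠ 0 ∧ (∀ x y, β x y = β y x) ∧
      (∀ x, (∀ y, β x y = 0) → x = 0) ∧
      (∀ z w, Cfsg.sympForm m F (coord e P z) (coord e P w) = κ * om β z w) ∧ ∀ x y, β x y = f₂ x y := by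
  obtain ⟨c, hc, hT⟩ := hT
  obtain ⟨β, hβ⟩ : ∃ β : LinearMap.BilinForm F (Fin b → F), β = Matrix.toBilin' (Cfsg.Geo.gramMatrix f₂) :=
    ⟨_, rfl⟩
  obtain ⟨k, hk⟩ : ∃ k, k = f₁ (Pi.single 0 1) (Pi.single 1 1) := ⟨_, rfl⟩
  have hβa : ∀ x y, β x y = ∑ i, ∑ j, x i * Cfsg.Geo.gramMatrix f₂ i j * y j := fun x y => by
    rw [hβ, Matrix.toBilin'_apply]
  have hsymm : ∀ x y, β x y = β y x := fun x y => by
    rw [hβa, hβa, Finset.sum_comm]
    refine Finset.sum_congr rfl fun i _ => Finset.sum_congr rfl fun j _ => ?_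
    rw [show Cfsg.Geo.gramMatrix f₂ j i = Cfsg.Geo.gramMatrix f₂ i j from hf₂.symm _ _]
    ring
  have hG : Cfsg.Geo.gramMatrix f₁ = !![0, k; -k, 0] := by
    ext i j
    fin_cases i <;> fin_cases j <;> simp [Cfsg.Geo.gramMatrix, hk, hf₁.alternating]
    exact hf₁.skew _ _
  have hkey : ∀ z w, Cfsg.sympForm m F (coord e P z) (coord e P w) = c * k * om β z w := by
    intro z w
    rw [coord_apply, coord_apply, hT]
    simp only [Cfsg.Geo.formOfGram, hG, id, om, hβa, Fintype.sum_prod_type, Fin.sum_univ_two, kroneckerMap_apply,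
      pairVec_zero, pairVec_one]
    simp [Finset.mul_sum, mul_sub]
    rw [← sub_eq_add_neg, mul_sub, Finset.mul_sum, Finset.mul_sum]
    congr 1 <;> refine Finset.sum_congr rfl fun i _ => ?_ <;> rw [Finset.mul_sum] <;>
      refine Finset.sum_congr rfl fun j _ => ?_ <;> ring
  have hκ : c * k ≠ 0 ∨ b = 0 := by
    rcases Nat.eq_zero_or_pos b with h | h
    · exact Or.inr h
    left
    intro h0
    let u : Fin b → F := Pi.single ⟨0, h⟩ 1
    obtain ⟨v, hv⟩ := SympMax.exists_form_ne (m := m) (u := coord e P (u, 0)) fun e0 => by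
      have h2 := congrFun (congrArg Prod.fst ((coord e P).map_eq_zero_iff.mp e0)) ⟨0, h⟩
      simp [u] at h2
    obtain ⟨w, rfl⟩ := (coord e P).surjective v
    rw [hkey, h0, zero_mul] at hv
    exact hv rfl
  have hval : ∀ x y, β x y = f₂ x y := fun x y => by
    rw [hβa, MaxClass.bilinear_eq_sum hf₂.bilinear]
  rcases hκ with hκ | hb
  · refine ⟨β, c * k, hκ, hsymm, fun x hx => ?_, hkey, hval⟩
    by_contra hx0
    obtain ⟨v, hv⟩ := SympMax.exists_form_ne (m := m) (u := coord e P (x, 0)) fun e0 =>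
      hx0 (congrArg Prod.fst ((coord e P).map_eq_zero_iff.mp e0))
    obtain ⟨w, rfl⟩ := (coord e P).surjective v
    rw [hkey] at hv
    simp [om, hx w.2] at hv
  · subst hb
    exact ⟨β, 1, one_ne_zero, hsymm, fun x _ => funext fun i => i.elim0, fun z w => by
      rw [hkey]; simp [om, hβa], hval⟩

/-- A form without an isotropic plane in dimension four is rigid. -/
theorem rig_of_not_plus {f₂ : (Fin b → F) → (Fin b → F) → F} (hplus : ¬ Cfsg.Geo.IsPlusTypeOn (fun v => f₂ v v) ⊤)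
    {β : LinearMap.BilinForm F (Fin b → F)} (hval : ∀ x y, β x y = f₂ x y) : Rig β := fun W hW _ he =>
  hplus ⟨W, le_top, fun w hw => (hval w w).symm.trans (hW w hw w hw), by rw [he, finrank_top]⟩

/-- Both cases at once. -/
theorem isMaximalIn_tensor_of [Finite F] (h2 : (2 : F) ≠ 0)
    {f₁ : (Fin 2 → F) → (Fin 2 → F) → F} {f₂ : (Fin b → F) → (Fin b → F) → F}
    (hcase : (5 ≤ b ∨ b = 3 ∧ 5 ≤ Nat.card F) ∧ ¬ 4 ∣ b ∨
      b = 4 ∧ ¬ Cfsg.Geo.IsPlusTypeOn (fun v => f₂ v v) ⊤)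
    (hf₁ : Cfsg.Geo.IsSymplecticForm f₁) (hf₂ : Cfsg.Geo.IsSymmetricForm f₂)
    (hT : Cfsg.Geo.IsTensorFormStructure id (Cfsg.sympForm m F) f₁ f₂ e P) :
    Cfsg.Geo.IsMaximalIn (Cfsg.spGL m F) (Cfsg.Geo.tensorProductSubgroup 2 b e P ⊓ Cfsg.spGL m F) := by
  classical
  obtain ⟨β, κ, hκ, hsymm, hnd, hf, hval⟩ := exists_setup_form e P hf₁ hf₂ hT
  have hb1 : 3 ≤ b := by rcases hcase with ⟨h | h, -⟩ | h <;> omega
  have hfr : finrank F (Fin b → F) = b := Module.finrank_fin_fun F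
  have hiso : ∀ g ∈ Cfsg.spGL m F, ∀ z w, om β (toPair e P g z) (toPair e P g w) = om β z w := by
    intro g hg z w
    refine mul_left_cancel₀ hκ ?_
    rw [← hf, ← hf, coord_toPair, coord_toPair, SympMax.apply_sp hg]
  have hsetup : ∀ M : Subgroup (GL (Fin m ⊕ Fin m) F),
      Cfsg.Geo.tensorProductSubgroup 2 b e P ⊓ Cfsg.spGL m F ≤ M → M ≤ Cfsg.spGL m F →
      Setup β (M.map (toPair e P)) := fun M hHM hMS =>
    { symm := hsymm
      nondeg := hnd
      two := h2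
      iso := by
        rintro _ ⟨g, hg, rfl⟩
        exact hiso g (hMS hg)
      kr := fun h hh hk => by
        obtain ⟨g, rfl⟩ : ∃ g, toPair e P g = h := by
          refine ⟨(Forms.glEquiv (Fin m ⊕ Fin m) F).symm (((coord e P).symm.trans h).trans (coord e P)),
            LinearEquiv.ext fun z => (coord e P).injective ?_⟩
          rw [coord_toPair, Forms.glEquiv_symm_mulVec]
          simp
        refine ⟨g, hHM ⟨mem_of_isKr e P (by omega) hk, fun u v => ?_⟩, rfl⟩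
        obtain ⟨z, rfl⟩ := (coord e P).surjective u
        obtain ⟨w, rfl⟩ := (coord e P).surjective v
        show Cfsg.sympForm m F ((g : Matrix (Fin m ⊕ Fin m) (Fin m ⊕ Fin m) F) *ᵥ coord e P z)
          ((g : Matrix (Fin m ⊕ Fin m) (Fin m ⊕ Fin m) F) *ᵥ coord e P w) = _
        rw [← coord_toPair, ← coord_toPair, hf, hf, hh]
      three := by rw [hfr]; omega
      four := hcase.imp (fun h => by rw [hfr]; exact h.2) (fun h => hfr.trans h.1) }
  refine ⟨lt_of_le_of_ne inf_le_right fun heq => ?_, fun M hHM hMS => ?_⟩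
  · have S := hsetup _ le_rfl inf_le_right
    obtain ⟨c, -, hc0, hcc⟩ := S.exists_isotropic ⊤ (by rw [finrank_top, hfr]; omega)
    obtain ⟨q, hq⟩ : ∃ q, β q c = 1 := by
      obtain ⟨y, hy⟩ : ∃ y, β y c ≠ 0 := by
        by_contra hh; push Not at hh; exact hc0 (hnd c fun y => by rw [hsymm]; exact hh y)
      exact ⟨(β y c)⁻¹ • y, by simp [hy]⟩
    obtain ⟨a, b', c', d, A, hA⟩ := isKr_of_mem e P (heq.ge (SympMax.T_mem (coord e P (c, 0)) 1)).1
    have hTz : ∀ z, toPair e P (SympMax.T (coord e P (c, 0)) 1) z = z + (κ * om β z (c, 0)) • ((c, 0) : _ × _) := by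
      intro z
      apply (coord e P).injective
      rw [coord_toPair, SympMax.T_mulVec, hf, one_mul, map_add, map_smul]
    have h1 : (((-κ) • c, q) : _ × _) = (b' • A q, d • A q) := by
      have := (hTz (0, q)).symm.trans (hA (0, q))
      simpa [om, hq] using this
    have h3 := congrArg Prod.fst h1
    have h4 := congrArg Prod.snd h1
    simp only at h3 h4
    have h5 := congrArg (fun x => β (d • x) c) h3
    have h6 : d • (b' • A q) = b' • q := by rw [smul_comm, ← h4]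
    simp only [h6, map_smul, LinearMap.smul_apply, hcc, smul_zero, hq, smul_eq_mul, mul_one] at h5
    rw [mul_zero, mul_zero] at h5
    rw [← h5, zero_smul, smul_eq_zero, neg_eq_zero] at h3
    exact h3.elim hκ hc0
  · have S := hsetup M hHM hMS
    haveI : Finite (((Fin b → F) × (Fin b → F)) ≃ₗ[F] ((Fin b → F) × (Fin b → F))) :=
      Finite.of_injective _ DFunLike.coe_injective
    by_cases hno : NoRad (M.map (toPair e P))
    · left
      refine le_antisymm (fun g hg => ⟨?_, hMS hg⟩) hHM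
      refine mem_of_isKr e P (by omega) ?_
      rcases hcase with ⟨hbig, hb4⟩ | ⟨h4, hplus⟩
      · exact S.le_kr_of_noRad (rig_of_not_dvd β (by rw [hfr]; exact hb4)) hno
          (hbig.imp (fun h => hfr.ge.trans' h) fun h => h.2) _ (Subgroup.mem_map_of_mem _ hg)
      · exact S.le_kr_of_noRad_four (rig_of_not_plus hplus hval) hno (hfr.trans h4) _ (Subgroup.mem_map_of_mem _ hg)
    · right
      refine SympMax.eq_spGL hMS fun v c => ?_
      obtain ⟨Z, rfl⟩ := (coord e P).surjective v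
      obtain ⟨_, ⟨g, hg, rfl⟩, hgz⟩ := (show IsRoot β _ Z by
        rcases hcase with ⟨h | h, -⟩ | h
        · exact S.all_roots (hfr.ge.trans' (by omega)) hno Z
        · exact S.all_roots_three h.2 (hfr.trans h.1) hno Z
        · exact S.all_roots (hfr.ge.trans' h.1.ge) hno Z) (c * κ)
      suffices h : SympMax.T (coord e P Z) c = g by rw [h]; exact hg
      apply toPair_injective e P
      refine LinearEquiv.ext fun w => (coord e P).injective ?_
      rw [coord_toPair, SympMax.T_mulVec, hf, hgz, map_add, map_smul, mul_assoc]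

/-- The tensor stabiliser `Sp_2 ⊗ O_b` is maximal. -/
theorem isMaximalIn_tensor [Finite F] (hb5 : 5 ≤ b) (hb4 : ¬ 4 ∣ b) (h2 : (2 : F) ≠ 0)
    {f₁ : (Fin 2 → F) → (Fin 2 → F) → F} {f₂ : (Fin b → F) → (Fin b → F) → F}
    (hf₁ : Cfsg.Geo.IsSymplecticForm f₁) (hf₂ : Cfsg.Geo.IsSymmetricForm f₂)
    (hT : Cfsg.Geo.IsTensorFormStructure id (Cfsg.sympForm m F) f₁ f₂ e P) :
    Cfsg.Geo.IsMaximalIn (Cfsg.spGL m F) (Cfsg.Geo.tensorProductSubgroup 2 b e P ⊓ Cfsg.spGL m F) :=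
  isMaximalIn_tensor_of e P h2 (Or.inl ⟨Or.inl hb5, hb4⟩) hf₁ hf₂ hT

/-- The tensor stabiliser `Sp_2 ⊗ O_3` is maximal for at least five elements. -/
theorem isMaximalIn_tensor_three [Finite F] (hb : b = 3) (hq : 5 ≤ Nat.card F) (h2 : (2 : F) ≠ 0)
    {f₁ : (Fin 2 → F) → (Fin 2 → F) → F} {f₂ : (Fin b → F) → (Fin b → F) → F}
    (hf₁ : Cfsg.Geo.IsSymplecticForm f₁) (hf₂ : Cfsg.Geo.IsSymmetricForm f₂)
    (hT : Cfsg.Geo.IsTensorFormStructure id (Cfsg.sympForm m F) f₁ f₂ e P) :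
    Cfsg.Geo.IsMaximalIn (Cfsg.spGL m F) (Cfsg.Geo.tensorProductSubgroup 2 b e P ⊓ Cfsg.spGL m F) :=
  isMaximalIn_tensor_of e P h2 (Or.inl ⟨Or.inr ⟨hb, hq⟩, by subst hb; norm_num⟩) hf₁ hf₂ hT

/-- The tensor stabiliser `Sp_2 ⊗ O_4^-` is maximal. -/
theorem isMaximalIn_tensor_minus [Finite F] (hb : b = 4) (h2 : (2 : F) ≠ 0)
    {f₁ : (Fin 2 → F) → (Fin 2 → F) → F} {f₂ : (Fin b → F) → (Fin b → F) → F}
    (hplus : ¬ Cfsg.Geo.IsPlusTypeOn (fun v => f₂ v v) ⊤)
    (hf₁ : Cfsg.Geo.IsSymplecticForm f₁) (hf₂ : Cfsg.Geo.IsSymmetricForm f₂)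
    (hT : Cfsg.Geo.IsTensorFormStructure id (Cfsg.sympForm m F) f₁ f₂ e P) :
    Cfsg.Geo.IsMaximalIn (Cfsg.spGL m F) (Cfsg.Geo.tensorProductSubgroup 2 b e P ⊓ Cfsg.spGL m F) :=
  isMaximalIn_tensor_of e P h2 (Or.inr ⟨hb, hplus⟩) hf₁ hf₂ hT

end Cfsg.Agent.Lib.SpOTensor
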