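import Cfsg.Agent.Lib.SpOTensor.Centralizer

/-!
An element outside the tensor group gives two planes' transvection groups with a large common fixed space.
-/

set_option autoImplicit false
set_option linter.unusedSectionVars false

namespace Cfsg.Agent.Lib.SpOTensor

open Module

variable {F U : Type*} [Field F] [AddCommGroup U] [Module F U]
  {β : LinearMap.BilinForm F U} {M : Subgroup ((U × U) ≃ₗ[F] (U × U))}

theorem IsKr.mul {g h : (U × U) ≃ₗ[F] (U × U)} (hg : IsKr g) (hh : IsKr h) : IsKr (g * h) := by
  obtain ⟨a, b, c, d, A, hA⟩ := hg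
  obtain ⟨a', b', c', d', B, hB⟩ := hh
  refine ⟨a * a' + b * c', a * b' + b * d', c * a' + d * c', c * b' + d * d', B.trans A, fun z => ?_⟩
  rw [LinearEquiv.mul_apply, hB, hA]
  simp only [map_add, map_smul, LinearEquiv.trans_apply]
  refine Prod.ext ?_ ?_ <;> module

namespace Setup

variable (S : Setup β M)
include S

/-- A large subspace contains an anisotropic vector. -/
theorem exists_aniso (W : Submodule F U) (hW : finrank F U < 2 * finrank F W) :
    ∃ w ∈ W, β w w ≠ 0 := by
  haveI := S.finiteDimensional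
  by_contra hno
  push Not at hno
  have hle : W ≤ β.orthogonal W := fun x hx => S.mem_orth.2 fun w hw => by
    have h := hno (w + x) (W.add_mem hw hx)
    simp only [map_add, LinearMap.add_apply, hno w hw, hno x hx, S.symm x w, zero_add, add_zero] at h
    exact (mul_eq_zero.mp ((two_mul _).trans h)).resolve_left S.two
  have := Submodule.finrank_mono hle
  have := S.finrank_add_orth W
  omega

/-- The orthogonal of one vector is large. -/
theorem le_finrank_orth_span (c : U) : finrank F U ≤ finrank F (β.orthogonal (F ∙ c)) + 1 := by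
  haveI := S.finiteDimensional
  have := S.finrank_add_orth (F ∙ c)
  have : finrank F (F ∙ c) ≤ 1 := by
    have := finrank_span_le_card (R := F) ({c} : Set U)
    simpa using this
  omega

theorem mem_orth_span {c x : U} : x ∈ β.orthogonal (F ∙ c) ↔ β c x = 0 := by
  refine ⟨fun h => h c (Submodule.mem_span_singleton_self c), fun h w hw => ?_⟩
  obtain ⟨t, rfl⟩ := Submodule.mem_span_singleton.1 hw
  rw [map_smul, LinearMap.smul_apply, h, smul_zero]

/-- A quadratic expression vanishing on anisotropic vectors vanishes. -/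
theorem quad_vanish {p q p' q' : U}
    (h : ∀ v, β v v ≠ 0 → β v p * β v q' - β v q * β v p' = 0) (c : U) :
    β c p * β c q' - β c q * β c p' = 0 := by
  by_cases hc : β c c = 0
  swap
  · exact h c hc
  obtain ⟨w, hw, hww⟩ := S.exists_aniso (β.orthogonal (F ∙ c)) (by
    have := S.le_finrank_orth_span c; have := S.three; omega)
  rw [S.mem_orth_span] at hw
  have h1 := h (c + w) (by simp [hc, hw, S.symm w c, hww])
  have h3 := h (c - w) (by simp [hc, hw, S.symm w c, hww])
  have h4 := h w hww
  simp only [map_add, LinearMap.add_apply, map_sub, LinearMap.sub_apply] at h1 h3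
  have h5 : (2 : F) * (β c p * β c q' - β c q * β c p') = 0 := by
    linear_combination h1 + h3 - 2 * h4
  exact (mul_eq_zero.mp h5).resolve_left S.two

/-- A subspace stable under all reflections with one proper slope. -/
theorem slope_of_refl_stable {g : (U × U) ≃ₗ[F] (U × U)} (hg : g ∈ M)
    (h : ∀ v (hv : β v v ≠ 0) (p : U), (g⁻¹ (dia (S.reflE hv) (g (p, 0)))).2 = 0) :
    ∃ a c : F, (a ≠ 0 ∨ c ≠ 0) ∧ ∀ p, ∃ u, g (p, 0) = (a • u, c • u) := by
  classical
  haveI := S.finiteDimensional
  have hL : ∀ v (hv : β v v ≠ 0) (p : U), ∃ p', dia (S.reflE hv) (g (p, 0)) = g (p', 0) := fun v hv p => by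
    refine ⟨(g⁻¹ (dia (S.reflE hv) (g (p, 0)))).1, ?_⟩
    have e : g⁻¹ (dia (S.reflE hv) (g (p, 0))) = ((g⁻¹ (dia (S.reflE hv) (g (p, 0)))).1, (0 : U)) :=
      Prod.ext rfl (h v hv p)
    rw [← e]
    exact (g.apply_symm_apply _).symm
  have hiso : ∀ p p' : U, om β (g (p, 0)) (g (p', 0)) = 0 := fun p p' => by
    rw [S.iso g hg]; simp [om]
  -- the quadratic identity
  have hquad : ∀ p p' v : U, β v (g (p, 0)).1 * β v (g (p', 0)).2 -
      β v (g (p, 0)).2 * β v (g (p', 0)).1 = 0 := by
    intro p p'
    refine S.quad_vanish fun v hv => ?_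
    obtain ⟨p₁, hp₁⟩ := hL v hv p
    obtain ⟨p₂, hp₂⟩ := hL v hv p'
    have h0 : om β (g (p, 0) - dia (S.reflE hv) (g (p, 0))) (g (p', 0) - dia (S.reflE hv) (g (p', 0))) = 0 := by
      rw [hp₁, hp₂, ← map_sub, ← map_sub, Prod.mk_sub_mk, Prod.mk_sub_mk, sub_zero, hiso]
    generalize g (p, 0) = z at h0 ⊢
    generalize g (p', 0) = w at h0 ⊢
    simp only [om, Prod.fst_sub, Prod.snd_sub, dia_apply, S.reflE_apply, sub_sub_cancel, map_smul,
      LinearMap.smul_apply, smul_eq_mul] at h0
    field_simp at h0
    have h1 : (4 * β v v) * (β v z.1 * β v w.2 - β v z.2 * β v w.1) = 0 := by linear_combination β v v * h0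
    have h4 : (4 : F) ≠ 0 := by
      rw [show (4 : F) = 2 * 2 by norm_num]; exact mul_ne_zero S.two S.two
    exact (mul_eq_zero.mp h1).resolve_left (mul_ne_zero h4 hv)
  have hdep : ∀ p, ∃ (a c : F) (u : U), g (p, 0) = (a • u, c • u) := by
    intro p
    by_contra hno
    push Not at hno
    obtain ⟨P, hP⟩ : ∃ P, g (p, 0) = P := ⟨_, rfl⟩
    let Φ : U →ₗ[F] F × F := (β.flip P.1).prod (β.flip P.2)
    have hΦ : Function.Surjective Φ := by
      rw [← LinearMap.range_eq_top]
      by_contra hne
      obtain ⟨f, hf0, hf⟩ := Submodule.exists_dual_map_eq_bot_of_lt_top (lt_top_iff_ne_top.2 hne) inferInstance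
      have hfΦ : ∀ v, f (Φ v) = 0 := fun v => by
        have : f (Φ v) ∈ (LinearMap.range Φ).map f := ⟨_, ⟨v, rfl⟩, rfl⟩
        rwa [hf, Submodule.mem_bot] at this
      have hrel : f (1, 0) • P.1 + f (0, 1) • P.2 = 0 := by
        refine S.nondeg _ fun v => ?_
        have h1 := hfΦ v
        rw [show Φ v = β v P.1 • ((1 : F), (0 : F)) + β v P.2 • ((0 : F), (1 : F)) by simp [Φ], map_add,
          map_smul, map_smul] at h1
        simp only [map_add, map_smul, LinearMap.add_apply, LinearMap.smul_apply, smul_eq_mul,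
          S.symm P.1 v, S.symm P.2 v] at h1 ⊢
        linear_combination h1
      by_cases h01 : f (1, 0) = 0
      · have hb : f (0, 1) ≠ 0 := fun hb => hf0 (LinearMap.ext fun x => by
          rw [show x = x.1 • ((1 : F), (0 : F)) + x.2 • ((0 : F), (1 : F)) by simp, map_add, map_smul, map_smul,
            h01, hb]
          simp)
        rw [h01, zero_smul, zero_add] at hrel
        exact hno 1 0 P.1 (hP.trans (Prod.ext (one_smul F P.1).symm
          (by rw [zero_smul]; exact (smul_eq_zero.mp hrel).resolve_left hb)))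
      · refine hno (-(f (1, 0))⁻¹ * f (0, 1)) 1 P.2 (hP.trans (Prod.ext ?_ (one_smul F P.2).symm))
        rw [eq_comm, ← sub_eq_zero]
        have h3 := congrArg ((f (1, 0))⁻¹ • ·) hrel
        simp only [smul_add, smul_smul, inv_mul_cancel₀ h01, one_smul, smul_zero] at h3
        rw [← neg_eq_zero, ← h3]
        module
    obtain ⟨v₀, hv₀⟩ := hΦ (1, 0)
    obtain ⟨v₁, hv₁⟩ := hΦ (0, 1)
    replace hv₀ : β v₀ P.1 = 1 ∧ β v₀ P.2 = 0 := ⟨congrArg Prod.fst hv₀, congrArg Prod.snd hv₀⟩
    replace hv₁ : β v₁ P.1 = 0 ∧ β v₁ P.2 = 1 := ⟨congrArg Prod.fst hv₁, congrArg Prod.snd hv₁⟩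
    have hall : ∀ p', g (p', 0) = β v₀ (g (p', 0)).1 • P := by
      intro p'
      obtain ⟨R, hR⟩ : ∃ R, g (p', 0) = R := ⟨_, rfl⟩
      have hq : ∀ v, β v P.1 * β v R.2 - β v P.2 * β v R.1 = 0 := fun v => by
        rw [← hP, ← hR]; exact hquad p p' v
      rw [hR]
      have h0 : β v₀ R.2 = 0 := by
        have := hq v₀
        rw [hv₀.1, hv₀.2] at this
        linear_combination this
      have h1 : β v₁ R.1 = 0 := by
        have := hq v₁
        rw [hv₁.1, hv₁.2] at this
        linear_combination -this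
      have h01 : β v₁ R.2 = β v₀ R.1 := by
        have := hq (v₀ + v₁)
        simp only [map_add, LinearMap.add_apply, hv₀.1, hv₀.2, hv₁.1, hv₁.2, h0, h1] at this
        linear_combination this
      have hk : ∀ k, β k P.1 = 0 → β k P.2 = 0 → β k R.1 = 0 ∧ β k R.2 = 0 := by
        intro k hk1 hk2
        have ha := hq (v₀ + k)
        have hb := hq (v₁ + k)
        simp only [map_add, LinearMap.add_apply, hv₀.1, hv₀.2, hv₁.1, hv₁.2, hk1, hk2, h0, h1] at ha hb
        exact ⟨by linear_combination -hb, by linear_combination ha⟩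
      have key : ∀ v, β v R.1 = β v₀ R.1 * β v P.1 ∧ β v R.2 = β v₀ R.1 * β v P.2 := by
        intro v
        obtain ⟨e1, e2⟩ := hk (v - β v P.1 • v₀ - β v P.2 • v₁)
          (by simp [hv₀.1, hv₁.1]) (by simp [hv₀.2, hv₁.2])
        simp only [map_sub, map_smul, LinearMap.sub_apply, LinearMap.smul_apply, smul_eq_mul, h0, h1, h01] at e1 e2
        exact ⟨by linear_combination e1, by linear_combination e2⟩
      refine Prod.ext ?_ ?_ <;> refine sub_eq_zero.mp (S.nondeg _ fun v => ?_) <;> rw [S.symm] <;>
        simp only [Prod.smul_fst, Prod.smul_snd, map_sub, map_smul, smul_eq_mul]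
      · linear_combination (key v).1
      · linear_combination (key v).2
    have hinj : Function.Injective ((β v₀).comp ((LinearMap.fst F U U).comp
        (g.toLinearMap.comp (LinearMap.inl F U U)))) := by
      refine (injective_iff_map_eq_zero _).2 fun p' hp' => ?_
      simp only [LinearMap.comp_apply, LinearMap.inl_apply, LinearEquiv.coe_coe, LinearMap.fst_apply] at hp'
      have h1 := hall p'
      rw [hp', zero_smul] at h1
      exact congrArg Prod.fst (g.injective (h1.trans (map_zero g).symm))
    have := LinearMap.finrank_le_finrank_of_injective hinj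
    rw [finrank_self] at this
    have := S.three
    omega
  -- choose a vector spanning the slope
  obtain ⟨p₀, hp₀⟩ : ∃ p₀ : U, p₀ ≠ 0 := @exists_ne U S.nontrivial 0
  obtain ⟨a, c, u, hu⟩ := hdep p₀
  have hu0 : u ≠ 0 ∧ (a ≠ 0 ∨ c ≠ 0) := by
    have hne : g (p₀, 0) ≠ 0 := fun e => hp₀ (congrArg Prod.fst (g.injective (e.trans (map_zero g).symm)))
    refine ⟨fun e => hne ?_, ?_⟩
    · rw [hu, e, smul_zero, smul_zero]; rfl
    · by_contra hh
      push Not at hh
      exact hne (by rw [hu, hh.1, hh.2, zero_smul]; rfl)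
  -- the vectors of the other slopes lie over `u`
  have hor : ∀ p, (∃ w, g (p, 0) = (a • w, c • w)) ∨ ∃ s t : F, g (p, 0) = (s • u, t • u) := by
    intro p
    obtain ⟨a', c', w, hw⟩ := hdep p
    by_cases hdet : a * c' - c * a' = 0
    · left
      rcases hu0.2 with ha | hc
      · exact ⟨(a' / a) • w, by
          rw [hw, smul_smul, smul_smul, mul_div_cancel₀ _ ha]
          congr 2
          field_simp
          linear_combination hdet⟩
      · exact ⟨(c' / c) • w, by
          rw [hw, smul_smul, smul_smul, mul_div_cancel₀ _ hc]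
          congr 2
          field_simp
          linear_combination -hdet⟩
    · right
      obtain ⟨a'', c'', w', hw'⟩ := hdep (p₀ + p)
      have hs : g (p₀ + p, 0) = g (p₀, 0) + g (p, 0) := by rw [← map_add]; simp
      rw [hw', hu, hw, Prod.mk_add_mk, Prod.mk.injEq] at hs
      have h1 : (c'' * a - a'' * c) • u + (c'' * a' - a'' * c') • w = 0 := by
        have e1 := congrArg (c'' • ·) hs.1
        have e2 := congrArg (a'' • ·) hs.2
        simp only [smul_smul, smul_add] at e1 e2
        rw [mul_comm c'' a''] at e1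
        rw [e2] at e1
        rw [← sub_eq_zero] at e1
        rw [← neg_eq_zero, ← e1]
        module
      by_cases hw0 : c'' * a' - a'' * c' = 0
      · rw [hw0, zero_smul, add_zero] at h1
        have hau : c'' * a - a'' * c = 0 := (smul_eq_zero.mp h1).resolve_right hu0.1
        have hzero : a'' = 0 ∧ c'' = 0 :=
          ⟨(mul_eq_zero.mp (show a'' * (a * c' - c * a') = 0 by linear_combination (a') * hau - a * hw0)).resolve_right hdet,
           (mul_eq_zero.mp (show c'' * (a * c' - c * a') = 0 by linear_combination c' * hau - c * hw0)).resolve_right hdet⟩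
        refine ⟨-a, -c, ?_⟩
        rw [hzero.1, hzero.2, zero_smul] at hs
        rw [hw, neg_smul, neg_smul]
        exact Prod.ext (eq_neg_of_add_eq_zero_right hs.1.symm) (eq_neg_of_add_eq_zero_right hs.2.symm)
      · have hwu : w = (-(c'' * a - a'' * c) / (c'' * a' - a'' * c')) • u := by
          have h3 := congrArg ((c'' * a' - a'' * c')⁻¹ • ·) h1
          simp only [smul_add, smul_smul, inv_mul_cancel₀ hw0, one_smul, smul_zero] at h3
          rw [eq_neg_of_add_eq_zero_right h3, ← neg_smul]
          congr 1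
          field_simp
        exact ⟨_, _, by rw [hw, hwu, smul_smul, smul_smul]⟩
  refine ⟨a, c, hu0.2, fun p => ?_⟩
  by_contra hp
  obtain ⟨p₁, hp₁⟩ : ∃ p₁, ¬ ∃ s t : F, g (p₁, 0) = (s • u, t • u) := by
    by_contra hno
    push Not at hno
    have hle : (LinearMap.range (g.toLinearMap.comp (LinearMap.inl F U U))) ≤
        LinearMap.range ((LinearMap.id (R := F) (M := F)).smulRight u |>.prodMap
          ((LinearMap.id (R := F) (M := F)).smulRight u)) := by
      rintro _ ⟨q, rfl⟩
      obtain ⟨s, t, hst⟩ := hno q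
      exact ⟨(s, t), by simp [hst]⟩
    have h1 := Submodule.finrank_mono hle
    rw [LinearMap.finrank_range_of_inj (f := g.toLinearMap.comp (LinearMap.inl F U U))
      (g.injective.comp fun _ _ e => congrArg Prod.fst e)] at h1
    have h3 := ((LinearMap.id (R := F) (M := F)).smulRight u |>.prodMap
      ((LinearMap.id (R := F) (M := F)).smulRight u)).finrank_range_le
    rw [Module.finrank_prod, finrank_self] at h3
    have := S.three
    omega
  obtain ⟨w₁, hw₁⟩ := (hor p₁).resolve_right hp₁
  rcases hor (p + p₁) with ⟨w', hw'⟩ | ⟨s, t, hst⟩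
  · refine hp ⟨w' - w₁, ?_⟩
    have : g (p, 0) = g (p + p₁, 0) - g (p₁, 0) := by rw [← map_sub]; simp
    rw [this, hw', hw₁, smul_sub, smul_sub]
    rfl
  · obtain ⟨s', t', hst'⟩ := (hor p).resolve_left hp
    refine hp₁ ⟨s - s', t - t', ?_⟩
    have : g (p₁, 0) = g (p + p₁, 0) - g (p, 0) := by rw [← map_sub]; simp
    rw [this, hst, hst', sub_smul, sub_smul]
    rfl

/-- A pair of planes with a large common part. -/
theorem exists_pair (hno : NoRad M) (hex : ∃ g ∈ M, ¬ IsKr g) :
    ∃ g' ∈ M, ¬ Stab g' ∧ ∃ T : Submodule F U, finrank F U ≤ finrank F T + 2 ∧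
      ∀ u ∈ T, g' (u, 0) = (u, 0) := by
  haveI := S.finiteDimensional
  obtain ⟨g, hg, hgk⟩ := hex
  by_cases hall : ∀ v (hv : β v v ≠ 0) (p : U), (g⁻¹ (dia (S.reflE hv) (g (p, 0)))).2 = 0
  · exfalso
    obtain ⟨a, c, hac, hu⟩ := S.slope_of_refl_stable hg hall
    obtain ⟨b, d, hdet⟩ : ∃ b d : F, a * d - b * c = 1 := by
      rcases hac with ha | hc
      · exact ⟨0, a⁻¹, by rw [mul_inv_cancel₀ ha]; ring⟩
      · exact ⟨-c⁻¹, 0, by rw [neg_mul, inv_mul_cancel₀ hc]; ring⟩
    let s : (U × U) ≃ₗ[F] (U × U) :=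
      { toFun := fun z => (a • z.1 + b • z.2, c • z.1 + d • z.2)
        map_add' := fun z w => by
          simp only [Prod.fst_add, Prod.snd_add, smul_add, Prod.mk_add_mk]
          exact Prod.ext (by abel) (by abel)
        map_smul' := fun t z => by
          simp only [Prod.smul_fst, Prod.smul_snd, RingHom.id_apply, Prod.smul_mk, smul_add, smul_smul]
          exact Prod.ext (by ring_nf) (by ring_nf)
        invFun := fun z => (d • z.1 - b • z.2, -c • z.1 + a • z.2)
        left_inv := fun z => by
          refine Prod.ext ?_ ?_ <;>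
          · simp only [smul_add, smul_sub, smul_smul]
            match_scalars <;> first | ring1 | linear_combination hdet | linear_combination -hdet
        right_inv := fun z => by
          refine Prod.ext ?_ ?_ <;>
          · simp only [smul_add, smul_sub, smul_smul]
            match_scalars <;> first | ring1 | linear_combination hdet | linear_combination -hdet }
    have hsap : ∀ z, s z = (a • z.1 + b • z.2, c • z.1 + d • z.2) := fun z => rfl
    have hsk : IsKr s := ⟨a, b, c, d, LinearEquiv.refl F U, hsap⟩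
    have hsM : s ∈ M := S.kr _ (fun z w => by
      simp only [om, hsap, map_add, map_smul, LinearMap.add_apply, LinearMap.smul_apply, smul_eq_mul,
        S.symm z.2 w.2]
      linear_combination (β z.1 w.2 - β z.2 w.1) * hdet) hsk
    have hst : Stab (s⁻¹ * g) := fun p => by
      obtain ⟨u, hu⟩ := hu p
      rw [LinearEquiv.mul_apply, hu, show ((a • u, c • u) : U × U) = s (u, 0) by simp [hsap],
        show s⁻¹ (s (u, 0)) = s.symm (s (u, 0)) from rfl, LinearEquiv.symm_apply_apply]
    have := hsk.mul (S.stab_kr hno (M.mul_mem (M.inv_mem hsM) hg) hst)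
    rw [mul_inv_cancel_left] at this
    exact hgk this
  push Not at hall
  obtain ⟨v, hv, p, hp⟩ := hall
  refine ⟨g⁻¹ * dia (S.reflE hv) * g, M.mul_mem (M.mul_mem (M.inv_mem hg) (S.dia_mem (S.reflE_iso hv))) hg,
    fun h => hp (by simpa [LinearEquiv.mul_apply] using h p), ?_⟩
  let gL : U →ₗ[F] U × U := g.toLinearMap.comp (LinearMap.inl F U U)
  let L : U →ₗ[F] F × F :=
    ((β v).comp ((LinearMap.fst F U U).comp gL)).prod ((β v).comp ((LinearMap.snd F U U).comp gL))
  refine ⟨LinearMap.ker L, ?_, fun u hu => ?_⟩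
  · have := L.finrank_range_add_finrank_ker
    have := (LinearMap.range L).finrank_le
    rw [Module.finrank_prod, finrank_self] at this
    omega
  · have hu' : β v (g (u, 0)).1 = 0 ∧ β v (g (u, 0)).2 = 0 := by
      simpa [L, gL, Prod.ext_iff] using LinearMap.mem_ker.1 hu
    have e : dia (S.reflE hv) (g (u, 0)) = g (u, 0) := by
      simp [S.reflE_apply, hu'.1, hu'.2]
    rw [LinearEquiv.mul_apply, LinearEquiv.mul_apply, e]
    exact g.symm_apply_apply _

end Setup

end Cfsg.Agent.Lib.SpOTensor
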